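import Mathlib.GroupTheory.Sylow
import Mathlib.GroupTheory.Index
import Cfsg.Prelude.Def_Involutions
import Cfsg.Agent.H21.Basic

/-! Groups in which every involution centralizer is an elementary abelian 2-group. -/

set_option autoImplicit false

namespace Cfsg.Agent.H21

open Subgroup

variable {G : Type*} [Group G] [Finite G]

/-- A nontrivial `p`-subgroup contains an element of order `p` commuting with all of it. -/
theorem exists_central_orderOf_prime {p : ℕ} [Fact p.Prime] (T : Subgroup G) (hTp : IsPGroup p T)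
    (hT : T ≠ ⊥) :
    ∃ z ∈ T, orderOf z = p ∧ ∀ t ∈ T, t * z = z * t := by
  haveI : Nontrivial T := (Subgroup.nontrivial_iff_ne_bot _).2 hT
  haveI : Nontrivial (center T) := hTp.center_nontrivial
  have h1 : p ∣ Nat.card (center T) :=
    ((hTp.to_subgroup (center T)).card_eq_or_dvd).resolve_left (Finite.one_lt_card.ne')
  obtain ⟨z, hz⟩ := exists_prime_orderOf_dvd_card' p h1
  refine ⟨z, z.1.2, ?_, fun t ht => ?_⟩
  · rw [orderOf_coe, orderOf_coe, hz]
  · have := Subgroup.mem_center_iff.1 z.2 ⟨t, ht⟩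
    exact congrArg Subtype.val this

/-- The hypothesis on involution centralizers. -/
def ElemCent (G : Type*) [Group G] : Prop :=
  ∀ t : G, orderOf t = 2 → IsMulCommutative (Subgroup.centralizer ({t} : Set G)) ∧
    ∀ c ∈ Subgroup.centralizer ({t} : Set G), c ^ 2 = 1

omit [Finite G] in
theorem ElemCent.isPGroup (hC : ElemCent G) (t : G) (ht : orderOf t = 2) :
    IsPGroup 2 (Subgroup.centralizer ({t} : Set G)) := by
  intro x
  exact ⟨1, by ext; simpa using (hC t ht).2 x x.2⟩

theorem ElemCent.centralizer_eq (hC : ElemCent G) (T : Sylow 2 G) {t : G} (htT : t ∈ (T : Subgroup G))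
    (ht : orderOf t = 2) : Subgroup.centralizer ({t} : Set G) = (T : Subgroup G) := by
  have key : ∀ z : G, orderOf z = 2 → (T : Subgroup G) ≤ Subgroup.centralizer ({z} : Set G) →
      Subgroup.centralizer ({z} : Set G) = (T : Subgroup G) := by
    intro z hz hle
    exact T.is_maximal' (hC.isPGroup z hz) hle
  have hT : (T : Subgroup G) ≠ ⊥ := by
    intro h
    rw [h, Subgroup.mem_bot] at htT
    rw [htT, orderOf_one] at ht
    omega
  obtain ⟨z, hzT, hz, hcz⟩ := exists_central_orderOf_prime (T : Subgroup G) T.isPGroup' hT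
  have h1 := key z hz (fun x hx => by
    rw [Subgroup.mem_centralizer_singleton_iff]; exact hcz x hx)
  apply key t ht
  intro x hx
  rw [Subgroup.mem_centralizer_singleton_iff]
  have h2 := (hC z hz).1
  rw [h1] at h2
  have := h2.is_comm.comm ⟨x, hx⟩ ⟨t, htT⟩
  exact congrArg Subtype.val this

theorem ElemCent.commute (hC : ElemCent G) (T : Sylow 2 G) {a b : G} (ha : a ∈ (T : Subgroup G))
    (hb : b ∈ (T : Subgroup G)) : a * b = b * a := by
  by_cases hT : (T : Subgroup G) = ⊥
  · rw [hT, Subgroup.mem_bot] at ha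
    simp [ha]
  · obtain ⟨z, hzT, hz, hcz⟩ := exists_central_orderOf_prime (T : Subgroup G) T.isPGroup' hT
    have h2 := (hC z hz).1
    rw [hC.centralizer_eq T hzT hz] at h2
    have := h2.is_comm.comm ⟨a, ha⟩ ⟨b, hb⟩
    exact congrArg Subtype.val this

theorem ElemCent.sq (hC : ElemCent G) (T : Sylow 2 G) {a : G} (ha : a ∈ (T : Subgroup G)) :
    a ^ 2 = 1 := by
  by_cases hT : (T : Subgroup G) = ⊥
  · rw [hT, Subgroup.mem_bot] at ha
    simp [ha]
  · obtain ⟨z, hzT, hz, hcz⟩ := exists_central_orderOf_prime (T : Subgroup G) T.isPGroup' hT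
    have h2 := (hC z hz).2 a
    rw [hC.centralizer_eq T hzT hz] at h2
    exact h2 ha

theorem ElemCent.orderOf_eq (hC : ElemCent G) (T : Sylow 2 G) {a : G} (ha : a ∈ (T : Subgroup G))
    (ha1 : a ≠ 1) : orderOf a = 2 :=
  orderOf_eq_prime (hC.sq T ha) ha1

/-- Two Sylow 2-subgroups sharing an involution are equal. -/
theorem ElemCent.sylow_eq (hC : ElemCent G) (T T' : Sylow 2 G) {t : G} (htT : t ∈ (T : Subgroup G))
    (htT' : t ∈ (T' : Subgroup G)) (ht : t ≠ 1) : T = T' := by
  have h := hC.orderOf_eq T htT ht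
  apply Sylow.ext
  rw [← hC.centralizer_eq T htT h, hC.centralizer_eq T' htT' h]

/-- An element of 2-power order normalising the Sylow subgroup lies in it. -/
theorem mem_sylow_of_mem_normalizer {p : ℕ} [Fact p.Prime] (T : Sylow p G) {x : G}
    (hx : x ∈ Subgroup.normalizer ((T : Subgroup G) : Set G)) (hxp : ∃ k : ℕ, orderOf x = p ^ k) :
    x ∈ (T : Subgroup G) := by
  have h1 : IsPGroup p (Subgroup.zpowers x) := by
    obtain ⟨k, hk⟩ := hxp
    exact IsPGroup.of_card (n := k) (by rw [Nat.card_zpowers, hk])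
  have h2 := h1.inf_normalizer_sylow T
  have h3 : x ∈ Subgroup.zpowers x ⊓ Subgroup.normalizer (T : Set G) :=
    ⟨Subgroup.mem_zpowers x, hx⟩
  rw [h2] at h3
  exact h3.2

theorem ElemCent.isStronglyEmbedded (hC : ElemCent G) (T : Sylow 2 G) (hT : (T : Subgroup G) ≠ ⊥)
    (hnn : ¬ (T : Subgroup G).Normal) :
    Cfsg.IsStronglyEmbedded (Subgroup.normalizer ((T : Subgroup G) : Set G)) := by
  refine ⟨fun h => hnn (Subgroup.normalizer_eq_top_iff.1 h), ?_, fun g hg => ?_⟩
  · rw [even_iff_two_dvd]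
    obtain ⟨z, hzT, hz, hcz⟩ := exists_central_orderOf_prime (T : Subgroup G) T.isPGroup' hT
    have h1 : (⟨z, Subgroup.le_normalizer hzT⟩ : Subgroup.normalizer ((T : Subgroup G) : Set G)) ∈
      (⊤ : Subgroup (Subgroup.normalizer ((T : Subgroup G) : Set G))) := Subgroup.mem_top _
    have h2 := orderOf_dvd_natCard
      (⟨z, Subgroup.le_normalizer hzT⟩ : Subgroup.normalizer ((T : Subgroup G) : Set G))
    rwa [Subgroup.orderOf_mk, hz] at h2
  · rw [← Nat.not_even_iff_odd, even_iff_two_dvd]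
    intro h
    obtain ⟨⟨s, hs12⟩, hs⟩ := exists_prime_orderOf_dvd_card' 2 h
    rw [Subgroup.orderOf_mk] at hs
    obtain ⟨hs1, hs2⟩ := Subgroup.mem_inf.1 hs12
    rw [mem_map_conj] at hs2
    have hsT : s ∈ (T : Subgroup G) :=
      mem_sylow_of_mem_normalizer T hs1 ⟨1, by rw [hs, pow_one]⟩
    have hsT' : g⁻¹ * s * g ∈ (T : Subgroup G) := by
      apply mem_sylow_of_mem_normalizer T hs2
      refine ⟨1, ?_⟩
      rw [pow_one, ← hs]
      have := orderOf_injective (MulAut.conj g⁻¹).toMonoidHom (MulAut.conj g⁻¹).injective s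
      simpa using this
    rw [← mem_smul_sylow] at hsT'
    have hs1 : s ≠ 1 := by rintro rfl; simp at hs
    have := hC.sylow_eq T (g • T) hsT hsT' hs1
    apply hg
    exact Sylow.smul_eq_iff_mem_normalizer.1 this.symm

end Cfsg.Agent.H21
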