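import Mathlib.GroupTheory.Sylow
import Mathlib.GroupTheory.Index
import Mathlib.GroupTheory.Complement
import Cfsg.Prelude.Def_Involutions
import Cfsg.Agent.H21.Basic
import Cfsg.Agent.H21.ElemCent
import Cfsg.Agent.StrEmb.Basic

/-!
# Groups in which every involution centralizer is an elementary abelian 2-group: the action on `G/N_G(T)`
-/

set_option autoImplicit false
set_option linter.style.haveILetI false
set_option linter.unusedSectionVars false

namespace Cfsg.Agent.H21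

open Subgroup

variable {G : Type*} [Group G]

/-- The normalizer of the Sylow subgroup. -/
abbrev Hn (T : Sylow 2 G) : Subgroup G := Subgroup.normalizer ((T : Subgroup G) : Set G)

/-- The two-point stabilizer. -/
abbrev Dn (T : Sylow 2 G) (u : G) : Subgroup G := Hn T ⊓ (Hn T).map (MulAut.conj u).toMonoidHom

/-- Standing hypotheses. -/
structure ElemSetup (T : Sylow 2 G) : Prop where
  cent : ElemCent G
  notCyclic : ¬ IsCyclic (T : Subgroup G)
  notNormal : ¬ (T : Subgroup G).Normal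

variable [Finite G] {T : Sylow 2 G}

namespace ElemSetup

theorem ne_bot (h : ElemSetup T) : (T : Subgroup G) ≠ ⊥ := by
  intro hb
  apply h.notNormal
  rw [hb]
  infer_instance

theorem strEmb (h : ElemSetup T) : Cfsg.IsStronglyEmbedded (Hn T) :=
  h.cent.isStronglyEmbedded T h.ne_bot h.notNormal

theorem four_le (h : ElemSetup T) : 4 ≤ Nat.card T := by
  obtain ⟨a, ha⟩ := IsPGroup.iff_card.1 T.isPGroup'
  have ha' : Nat.card T = 2 ^ a := ha
  rcases a with _ | _ | a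
  · exfalso
    apply h.notCyclic
    have h1 : Nat.card (T : Subgroup G) = 1 := by simpa using ha
    haveI : Subsingleton (T : Subgroup G) := (Nat.card_eq_one_iff_unique.1 h1).1
    infer_instance
  · exfalso
    apply h.notCyclic
    have h1 : Nat.card (T : Subgroup G) = 2 := by simpa using ha
    exact isCyclic_of_prime_card h1
  · rw [ha', pow_succ, pow_succ]
    have : 1 ≤ 2 ^ a := Nat.one_le_two_pow
    omega

theorem mem_T_of_mem_H {t : G} (ht : orderOf t = 2) (htH : t ∈ Hn T) : t ∈ (T : Subgroup G) :=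
  mem_sylow_of_mem_normalizer T htH ⟨1, by rw [ht, pow_one]⟩

theorem card_involutions (h : ElemSetup T) :
    Nat.card {t : G // orderOf t = 2 ∧ t ∈ Hn T} = Nat.card T - 1 := by
  classical
  haveI : Fintype (T : Subgroup G) := Fintype.ofFinite _
  have e : {t : G // orderOf t = 2 ∧ t ∈ Hn T} ≃ {t : (T : Subgroup G) // t ≠ 1} :=
    { toFun := fun t => ⟨⟨t, mem_T_of_mem_H t.2.1 t.2.2⟩, fun hc => by
        have h1 : (t : G) = 1 := congrArg Subtype.val hc
        have h2 := t.2.1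
        rw [h1, orderOf_one] at h2
        omega⟩
      invFun := fun t => ⟨t.1, h.cent.orderOf_eq T t.1.2 (fun hc => t.2 (Subtype.ext hc)),
        Subgroup.le_normalizer t.1.2⟩
      left_inv := fun t => rfl
      right_inv := fun t => rfl }
  rw [Nat.card_congr e, Nat.card_eq_fintype_card, Fintype.card_subtype_compl,
    Fintype.card_subtype_eq, Nat.card_eq_fintype_card]

theorem odd_card_D (h : ElemSetup T) {u : G} (huH : u ∉ Hn T) : Odd (Nat.card (Dn T u)) :=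
  h.strEmb.2.2 u huH

theorem not_mem_D_of_mem_T (h : ElemSetup T) {u : G} (huH : u ∉ Hn T) {x : G}
    (hxT : x ∈ (T : Subgroup G)) (hxD : x ∈ Dn T u) : x = 1 := by
  by_contra hx1
  have h1 := h.cent.orderOf_eq T hxT hx1
  have h2 : orderOf (⟨x, hxD⟩ : Dn T u) = 2 := by rw [Subgroup.orderOf_mk, h1]
  have h3 := orderOf_dvd_natCard (⟨x, hxD⟩ : Dn T u)
  rw [h2] at h3
  have h4 := h.odd_card_D huH
  rw [← Nat.not_even_iff_odd, even_iff_two_dvd] at h4
  exact h4 h3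

theorem mem_T_of_commute (h : ElemSetup T) {t c : G} (ht : t ∈ (T : Subgroup G)) (ht1 : t ≠ 1)
    (hc : Commute c t) : c ∈ (T : Subgroup G) := by
  rw [← h.cent.centralizer_eq T ht (h.cent.orderOf_eq T ht ht1),
    Subgroup.mem_centralizer_singleton_iff]
  exact hc.eq

/-- An element of `D` commuting with a nontrivial element of `T` is trivial. -/
theorem eq_one_of_commute (h : ElemSetup T) {u : G} (huH : u ∉ Hn T) {t d : G}
    (ht : t ∈ (T : Subgroup G)) (ht1 : t ≠ 1) (hd : d ∈ Dn T u) (hc : Commute d t) : d = 1 :=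
  h.not_mem_D_of_mem_T huH (h.mem_T_of_commute ht ht1 hc) hd

theorem conj_mem_T {x : G} (hx : x ∈ Hn T) {t : G} (ht : t ∈ (T : Subgroup G)) :
    x * t * x⁻¹ ∈ (T : Subgroup G) :=
  (Subgroup.mem_normalizer_iff.1 hx t).1 ht

theorem exists_conj (h : ElemSetup T) {u : G} (huH : u ∉ Hn T) {s t : G}
    (hs : s ∈ (T : Subgroup G)) (hs1 : s ≠ 1) (ht : t ∈ (T : Subgroup G)) (ht1 : t ≠ 1) :
    ∃ d ∈ Dn T u, d * s * d⁻¹ = t :=
  StrEmb.exists_conj_inf h.strEmb huH (h.cent.orderOf_eq T hs hs1) (Subgroup.le_normalizer hs)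
    (h.cent.orderOf_eq T ht ht1) (Subgroup.le_normalizer ht)

theorem conj_inj (h : ElemSetup T) {u : G} (huH : u ∉ Hn T) {t d d' : G}
    (ht : t ∈ (T : Subgroup G)) (ht1 : t ≠ 1) (hd : d ∈ Dn T u) (hd' : d' ∈ Dn T u)
    (hc : d * t * d⁻¹ = d' * t * d'⁻¹) : d = d' := by
  have h1 : d'⁻¹ * d = 1 := by
    apply h.eq_one_of_commute huH ht ht1 (mul_mem (inv_mem hd') hd)
    show d'⁻¹ * d * t = t * (d'⁻¹ * d)
    have : d'⁻¹ * (d * t * d⁻¹) * d = d'⁻¹ * (d' * t * d'⁻¹) * d := by rw [hc]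
    simpa [mul_assoc] using this
  exact (inv_mul_eq_one.1 h1).symm

theorem exists_T_ne_one (h : ElemSetup T) : ∃ t ∈ (T : Subgroup G), t ≠ 1 := by
  obtain ⟨t, ht⟩ := Subgroup.ne_bot_iff_exists_ne_one.1 h.ne_bot
  exact ⟨t, t.2, fun hc => ht (Subtype.ext hc)⟩

theorem card_D (h : ElemSetup T) {u : G} (huH : u ∉ Hn T) :
    Nat.card (Dn T u) = Nat.card T - 1 := by
  obtain ⟨t₁, ht₁, ht₁1⟩ := h.exists_T_ne_one
  rw [← h.card_involutions]
  refine Nat.card_congr (Equiv.ofBijective (fun d : Dn T u =>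
    (⟨d * t₁ * (d : G)⁻¹, by
      rw [StrEmb.orderOf_conj, h.cent.orderOf_eq T ht₁ ht₁1],
      Subgroup.le_normalizer (conj_mem_T (Subgroup.mem_inf.1 d.2).1 ht₁)⟩ :
      {t : G // orderOf t = 2 ∧ t ∈ Hn T})) ⟨?_, ?_⟩)
  · intro d d' hdd
    exact Subtype.ext (h.conj_inj huH ht₁ ht₁1 d.2 d'.2 (congrArg Subtype.val hdd))
  · rintro ⟨t, ht, htH⟩
    obtain ⟨d, hd, hdt⟩ := h.exists_conj huH ht₁ ht₁1 (mem_T_of_mem_H ht htH) (by
      rintro rfl; rw [orderOf_one] at ht; omega)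
    exact ⟨⟨d, hd⟩, Subtype.ext hdt⟩

/-- The involution `u ∉ H` inverts `D`. -/
theorem inverts (h : ElemSetup T) {u : G} (hu : orderOf u = 2) (huH : u ∉ Hn T) {d : G}
    (hd : d ∈ Dn T u) : u * d * u⁻¹ = d⁻¹ := by
  have h1 := StrEmb.card_inverted h.strEmb hu huH
  rw [h.card_involutions, ← h.card_D huH] at h1
  have h2 : Function.Injective (fun d : {d : G // d ∈ Dn T u ∧ u * d * u⁻¹ = d⁻¹} =>
      (⟨d, d.2.1⟩ : Dn T u)) := fun a b hab => Subtype.ext (congrArg (fun x : Dn T u => (x : G)) hab)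
  have h3 := ((Nat.bijective_iff_injective_and_card _).2 ⟨h2, h1⟩).2 ⟨d, hd⟩
  obtain ⟨a, ha⟩ := h3
  have h4 : (a : G) = d := congrArg Subtype.val ha
  rw [← h4]
  exact a.2.2

theorem D_comm (h : ElemSetup T) {u : G} (hu : orderOf u = 2) (huH : u ∉ Hn T) {d e : G}
    (hd : d ∈ Dn T u) (he : e ∈ Dn T u) : d * e = e * d := by
  have h1 := h.inverts hu huH hd
  have h2 := h.inverts hu huH he
  have h3 := h.inverts hu huH (mul_mem hd he)
  have h4 : u * (d * e) * u⁻¹ = (u * d * u⁻¹) * (u * e * u⁻¹) := by group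
  rw [h3, h1, h2, mul_inv_rev] at h4
  have h5 := congrArg (·⁻¹) h4
  simpa using h5

/-- `H = T D`. -/
theorem exists_mul (h : ElemSetup T) {u : G} (huH : u ∉ Hn T) {x : G} (hx : x ∈ Hn T) :
    ∃ t ∈ (T : Subgroup G), ∃ d ∈ Dn T u, x = t * d := by
  obtain ⟨t₁, ht₁, ht₁1⟩ := h.exists_T_ne_one
  have h1 := conj_mem_T hx ht₁
  have h2 : x * t₁ * x⁻¹ ≠ 1 := by
    intro hc
    apply ht₁1
    have := congrArg (fun y => x⁻¹ * y * x) hc
    simpa [mul_assoc] using this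
  obtain ⟨d, hd, hdt⟩ := h.exists_conj huH ht₁ ht₁1 h1 h2
  have h3 : Commute (d⁻¹ * x) t₁ := by
    show d⁻¹ * x * t₁ = t₁ * (d⁻¹ * x)
    have : d⁻¹ * (d * t₁ * d⁻¹) * x = d⁻¹ * (x * t₁ * x⁻¹) * x := by rw [hdt]
    have h4 : t₁ * (d⁻¹ * x) = d⁻¹ * x * t₁ := by simpa [mul_assoc] using this
    exact h4.symm
  have h4 := h.mem_T_of_commute ht₁ ht₁1 h3
  refine ⟨d * (d⁻¹ * x) * d⁻¹, conj_mem_T (Subgroup.mem_inf.1 hd).1 h4, d, hd, by group⟩

theorem isComplement (h : ElemSetup T) {u : G} (huH : u ∉ Hn T) :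
    Subgroup.IsComplement' ((Dn T u).subgroupOf (Hn T)) ((T : Subgroup G).subgroupOf (Hn T)) := by
  apply Subgroup.IsComplement'.symm
  apply Subgroup.isComplement'_of_disjoint_and_mul_eq_univ
  · rw [Subgroup.disjoint_def]
    intro x hx hx'
    rw [Subgroup.mem_subgroupOf] at hx hx'
    exact Subtype.ext (h.not_mem_D_of_mem_T huH hx hx')
  · ext x
    simp only [Set.mem_univ, iff_true]
    obtain ⟨t, ht, d, hd, hx⟩ := h.exists_mul huH x.2
    exact ⟨⟨t, Subgroup.le_normalizer ht⟩, ht, ⟨d, (Subgroup.mem_inf.1 hd).1⟩, hd, Subtype.ext hx.symm⟩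

theorem card_H (h : ElemSetup T) {u : G} (huH : u ∉ Hn T) :
    Nat.card (Hn T) = Nat.card T * (Nat.card T - 1) := by
  have h1 := (h.isComplement huH).card_mul_card
  rw [← h1, mul_comm]
  congr 1
  · exact Nat.card_congr (Subgroup.subgroupOfEquivOfLe (Subgroup.le_normalizer)).toEquiv
  · rw [← h.card_D huH]
    exact Nat.card_congr (Subgroup.subgroupOfEquivOfLe inf_le_left).toEquiv

/-! ### Fixed points of `D` -/

theorem D_conj_eq {u g : G} (hg : (QuotientGroup.mk g : G ⧸ Hn T) = QuotientGroup.mk u) :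
    Dn T g = Dn T u := by
  have h1 : g⁻¹ * u ∈ Hn T := QuotientGroup.eq.1 hg
  have h2 : (Hn T).map (MulAut.conj u).toMonoidHom = (Hn T).map (MulAut.conj g).toMonoidHom := by
    have h3 : u = g * (g⁻¹ * u) := by group
    rw [h3, map_conj_mul, mem_normalizer_iff_map_conj.1 (Subgroup.le_normalizer h1)]
  show Hn T ⊓ _ = Hn T ⊓ _
  rw [h2]

/-- If `D_u` fixes the point `gH ≠ H` then `D_g = D_u`. -/
theorem D_eq_of_fixed (h : ElemSetup T) {u g : G} (huH : u ∉ Hn T) (hgH : g ∉ Hn T)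
    (hfix : ∀ d ∈ Dn T u, d • (QuotientGroup.mk g : G ⧸ Hn T) = QuotientGroup.mk g) :
    Dn T u = Dn T g := by
  have h1 : Dn T u ≤ Dn T g := by
    intro d hd
    refine StrEmb.mem_inf_conj_iff.2 ⟨?_, hfix d hd⟩
    exact (StrEmb.mem_inf_conj_iff.1 hd).1
  exact Subgroup.eq_of_le_of_card_ge h1 (by rw [h.card_D huH, h.card_D hgH])

/-- `N_H(D) = D`. -/
theorem mem_D_of_mem_normalizer (h : ElemSetup T) {u : G} (huH : u ∉ Hn T) {x : G}
    (hx : x ∈ Hn T) (hxN : x ∈ Subgroup.normalizer ((Dn T u : Subgroup G) : Set G)) :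
    x ∈ Dn T u := by
  obtain ⟨t, ht, d, hd, rfl⟩ := h.exists_mul huH hx
  have htN : t ∈ Subgroup.normalizer ((Dn T u : Subgroup G) : Set G) := by
    have := mul_mem hxN (inv_mem (Subgroup.le_normalizer hd))
    rwa [mul_inv_cancel_right] at this
  by_cases ht1 : t = 1
  · rw [ht1, one_mul]; exact hd
  exfalso
  have h4 := h.four_le
  have h5 := h.card_D huH
  have h6 : 1 < Nat.card (Dn T u) := by omega
  haveI : Nontrivial (Dn T u) := Finite.one_lt_card_iff_nontrivial.1 h6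
  obtain ⟨⟨e, he⟩, he1⟩ := exists_ne (1 : Dn T u)
  have h7 : t * e * t⁻¹ ∈ Dn T u := (Subgroup.mem_normalizer_iff.1 htN e).1 he
  have h8 : t * (e * t⁻¹ * e⁻¹) ∈ (T : Subgroup G) :=
    mul_mem ht (conj_mem_T (Subgroup.mem_inf.1 he).1 (inv_mem ht))
  have h9 : t * e * t⁻¹ * e⁻¹ ∈ Dn T u := mul_mem h7 (inv_mem he)
  have h10 := h.not_mem_D_of_mem_T huH (by simpa [mul_assoc] using h8) h9
  have h11 : Commute e t := by
    have : t * e * t⁻¹ = e := by
      rw [mul_inv_eq_one] at h10; exact h10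
    show e * t = t * e
    rw [mul_inv_eq_iff_eq_mul] at this
    exact this.symm
  exact he1 (Subtype.ext (h.eq_one_of_commute huH ht ht1 he h11))

theorem sq_ne_one_of_mem_D (h : ElemSetup T) {u : G} (huH : u ∉ Hn T) {d : G} (hd : d ∈ Dn T u)
    (hd2 : d * d = 1) : d = 1 := by
  by_contra hd1
  have h1 : orderOf d = 2 := orderOf_eq_prime (by rw [pow_two, hd2]) hd1
  exact hd1 (h.not_mem_D_of_mem_T huH (mem_T_of_mem_H h1 (Subgroup.mem_inf.1 hd).1) hd)

/-- `D` fixes exactly two points. -/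
theorem fixed_points (h : ElemSetup T) {u : G} (hu : orderOf u = 2) (huH : u ∉ Hn T) (z : G ⧸ Hn T)
    (hz : ∀ d ∈ Dn T u, d • z = z) : z = QuotientGroup.mk 1 ∨ z = QuotientGroup.mk u := by
  classical
  haveI : Fintype G := Fintype.ofFinite G
  haveI : Fintype (G ⧸ Hn T) := Fintype.ofFinite _
  set D := Dn T u with hD
  set x₀ : G ⧸ Hn T := QuotientGroup.mk 1 with hx₀
  set F : Finset (G ⧸ Hn T) := Finset.univ.filter (fun z => ∀ d ∈ D, d • z = z) with hF
  have hmemF : ∀ z, z ∈ F ↔ ∀ d ∈ D, d • z = z := by intro z; simp [hF]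
  have hx₀F : x₀ ∈ F := (hmemF _).2 fun d hd => (StrEmb.mem_inf_conj_iff.1 hd).1
  have huF : (QuotientGroup.mk u : G ⧸ Hn T) ∈ F :=
    (hmemF _).2 fun d hd => (StrEmb.mem_inf_conj_iff.1 hd).2
  set q1 := Nat.card T - 1 with hq1
  have hq1pos : 0 < q1 := by have := h.four_le; omega
  set N := Subgroup.normalizer (D : Set G) with hN
  set C := Subgroup.centralizer (D : Set G) with hC
  have huN : u ∈ N := by
    apply mem_normalizer_of_map_conj_le
    rintro _ ⟨d, hd, rfl⟩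
    show u * d * u⁻¹ ∈ D
    rw [h.inverts hu huH hd]
    exact inv_mem hd
  -- lower bound for `C`
  have hlow : (F.card - 1) * q1 ≤ Nat.card C := by
    have h1 : ∀ z ∈ F.erase x₀, Nat.card {i : G // orderOf i = 2 ∧ i • x₀ = z} = q1 := by
      intro z hz
      rw [StrEmb.card_swap h.strEmb (Finset.ne_of_mem_erase hz).symm, h.card_involutions]
    have h2 : ((F.erase x₀).sum fun z => Nat.card {i : G // orderOf i = 2 ∧ i • x₀ = z}) =
        (F.card - 1) * q1 := by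
      rw [Finset.sum_congr rfl h1, Finset.sum_const, Finset.card_erase_of_mem hx₀F, smul_eq_mul]
    rw [← h2]
    have h3 : ((F.erase x₀).sum fun z => Nat.card {i : G // orderOf i = 2 ∧ i • x₀ = z}) =
        Nat.card (Σ z : {z // z ∈ F.erase x₀}, {i : G // orderOf i = 2 ∧ i • x₀ = z}) := by
      rw [Nat.card_sigma, ← Finset.sum_coe_sort]
    rw [h3]
    have key : ∀ i : G, orderOf i = 2 → i • x₀ ∈ F → i • x₀ ≠ x₀ → i * u ∈ C := by
      intro i hi hiF hix
      have hx : i • x₀ = QuotientGroup.mk i := StrEmb.smul_mk_one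
      rw [hx] at hiF hix
      have hiH : i ∉ Hn T := by
        intro hc
        apply hix
        rw [hx₀, eq_comm, QuotientGroup.eq]
        simpa using hc
      have hDi : D = Dn T i := h.D_eq_of_fixed huH hiH ((hmemF _).1 hiF)
      rw [hC, Subgroup.mem_centralizer_iff]
      intro d hd
      have h4 := h.inverts hu huH hd
      have h5 := h.inverts hi hiH (d := d⁻¹) (inv_mem (by rw [← hDi]; exact hd))
      rw [inv_inv] at h5
      have h6 : (i * u) * d * (i * u)⁻¹ = d := by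
        have : (i * u) * d * (i * u)⁻¹ = i * (u * d * u⁻¹) * i⁻¹ := by group
        rw [this, h4, h5]
      rw [mul_inv_eq_iff_eq_mul] at h6
      exact h6.symm
    apply Nat.card_le_card_of_injective (fun p : (Σ z : {z // z ∈ F.erase x₀},
      {i : G // orderOf i = 2 ∧ i • x₀ = z}) => (⟨p.2 * u, key p.2 p.2.2.1
        (by rw [p.2.2.2]; exact Finset.mem_of_mem_erase p.1.2)
        (by rw [p.2.2.2]; exact Finset.ne_of_mem_erase p.1.2)⟩ : C))
    rintro ⟨⟨z, hz⟩, ⟨i, hi, hiz⟩⟩ ⟨⟨z', hz'⟩, ⟨i', hi', hiz'⟩⟩ heq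
    have h4 : i * u = i' * u := congrArg (fun x : C => (x : G)) heq
    have h5 : i = i' := mul_right_cancel h4
    subst h5
    have h6 : z = z' := hiz.symm.trans hiz'
    subst h6
    rfl
  -- `2 |C| ≤ |N|`
  have hCN : C ≤ N := Subgroup.centralizer_le_normalizer _
  have huC : u ∉ C := by
    intro hc
    have h6 : 1 < Nat.card D := by
      have h61 := h.four_le
      have h62 := h.card_D huH
      rw [hD, h62]
      omega
    haveI : Nontrivial D := Finite.one_lt_card_iff_nontrivial.1 h6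
    obtain ⟨⟨e, he⟩, he1⟩ := exists_ne (1 : D)
    apply he1
    have h7 := h.inverts hu huH he
    have h8 := Subgroup.mem_centralizer_iff.1 hc e he
    have h9 : u * e * u⁻¹ = e := by rw [← h8, mul_inv_cancel_right]
    rw [h9] at h7
    have h10 : e * e = 1 := by nth_rewrite 2 [h7]; exact mul_inv_cancel e
    exact Subtype.ext (h.sq_ne_one_of_mem_D huH he h10)
  have h2C : 2 * Nat.card C ≤ Nat.card N := by
    have h1 : Nat.card C ∣ Nat.card N := Subgroup.card_dvd_of_le hCN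
    obtain ⟨k, hk⟩ := h1
    have hCpos : 0 < Nat.card C := Nat.card_pos
    have hNpos : 0 < Nat.card N := Nat.card_pos
    have hk2 : 2 ≤ k := by
      by_contra hc
      have hk1 : k = 0 ∨ k = 1 := by omega
      rcases hk1 with rfl | rfl
      · omega
      · rw [mul_one] at hk
        have := Subgroup.eq_of_le_of_card_ge hCN hk.le
        apply huC
        rw [this]
        exact huN
    rw [hk, mul_comm 2]
    exact Nat.mul_le_mul_left _ hk2
  -- `|N| ≤ |F| |D|`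
  have hNF : Nat.card N ≤ F.card * q1 := by
    have h1 := MulAction.card_orbit_mul_card_stabilizer_eq_card_group N x₀
    simp only [← Nat.card_eq_fintype_card] at h1
    rw [← h1]
    apply Nat.mul_le_mul
    · have h2 : MulAction.orbit N x₀ ⊆ (F : Set (G ⧸ Hn T)) := by
        rintro _ ⟨n, rfl⟩
        rw [Finset.mem_coe, hmemF]
        intro d hd
        have h3 : (n : G)⁻¹ * d * n ∈ D := by
          have := (Subgroup.mem_normalizer_iff.1 (inv_mem n.2) d).1 hd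
          rwa [inv_inv] at this
        have h4 := (hmemF x₀).1 hx₀F _ h3
        show d • ((n : G) • x₀) = (n : G) • x₀
        have h5 : d • ((n : G) • x₀) = (n : G) • (((n : G)⁻¹ * d * n) • x₀) := by
          simp only [← mul_smul, mul_assoc, mul_inv_cancel_left]
        rw [h5, h4]
      have h3 := Nat.card_mono (Finset.finite_toSet F) h2
      refine h3.trans ?_
      rw [Nat.card_eq_fintype_card]
      exact (Fintype.card_coe F).le
    · rw [hq1, ← h.card_D huH]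
      apply Nat.card_le_card_of_injective (fun n : MulAction.stabilizer N x₀ =>
        (⟨((n : N) : G), by
          apply h.mem_D_of_mem_normalizer huH _ n.1.2
          have h2 : ((n : N) : G) • (QuotientGroup.mk 1 : G ⧸ Hn T) = QuotientGroup.mk 1 := n.2
          have h21 := (StrEmb.smul_mk_eq_iff _ _).1 h2
          simpa using h21⟩ : Dn T u))
      intro a b hab
      exact Subtype.ext (Subtype.ext (congrArg (fun x : Dn T u => (x : G)) hab))
  have hfin : F.card ≤ 2 := by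
    have h1 : 2 * ((F.card - 1) * q1) ≤ F.card * q1 :=
      (Nat.mul_le_mul_left 2 hlow).trans (h2C.trans hNF)
    rw [← mul_assoc] at h1
    have h2 := Nat.le_of_mul_le_mul_right h1 hq1pos
    omega
  by_contra hcon
  push Not at hcon
  have h3 : ({x₀, QuotientGroup.mk u, z} : Finset (G ⧸ Hn T)) ⊆ F := by
    intro y hy
    simp only [Finset.mem_insert, Finset.mem_singleton] at hy
    rcases hy with rfl | rfl | rfl
    · exact hx₀F
    · exact huF
    · exact (hmemF _).2 hz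
  have h4 := Finset.card_le_card h3
  have h5 : (QuotientGroup.mk 1 : G ⧸ Hn T) ≠ QuotientGroup.mk u := StrEmb.mk_one_ne_mk huH
  rw [Finset.card_eq_three.2 ⟨x₀, QuotientGroup.mk u, z, h5, hcon.1.symm, hcon.2.symm, rfl⟩] at h4
  omega

/-- `N_G(D) = D ⊔ ⟨u⟩`. -/
theorem normalizer_D (h : ElemSetup T) {u : G} (hu : orderOf u = 2) (huH : u ∉ Hn T) :
    Subgroup.normalizer ((Dn T u : Subgroup G) : Set G) = Dn T u ⊔ Subgroup.zpowers u := by
  have huN : u ∈ Subgroup.normalizer ((Dn T u : Subgroup G) : Set G) := by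
    apply mem_normalizer_of_map_conj_le
    rintro _ ⟨d, hd, rfl⟩
    show u * d * u⁻¹ ∈ Dn T u
    rw [h.inverts hu huH hd]
    exact inv_mem hd
  apply le_antisymm
  · intro n hn
    have h1 : ∀ d ∈ Dn T u, d • (QuotientGroup.mk n : G ⧸ Hn T) = QuotientGroup.mk n := by
      intro d hd
      have h3 : n⁻¹ * d * n ∈ Dn T u := by
        have := (Subgroup.mem_normalizer_iff.1 (inv_mem hn) d).1 hd
        rwa [inv_inv] at this
      rw [StrEmb.smul_mk_eq_iff]
      exact (Subgroup.mem_inf.1 h3).1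
    rcases h.fixed_points hu huH _ h1 with h2 | h2
    · rw [eq_comm, QuotientGroup.eq] at h2
      apply Subgroup.mem_sup_left
      exact h.mem_D_of_mem_normalizer huH (by simpa using h2) hn
    · rw [eq_comm, QuotientGroup.eq] at h2
      have h3 := h.mem_D_of_mem_normalizer huH h2 (mul_mem (inv_mem huN) hn)
      have h4 : n = u * (u⁻¹ * n) := by group
      rw [h4]
      exact mul_mem (Subgroup.mem_sup_right (Subgroup.mem_zpowers u)) (Subgroup.mem_sup_left h3)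
  · exact sup_le Subgroup.le_normalizer (Subgroup.zpowers_le.2 huN)

/-! ### Transitivity -/

theorem exists_swap_involution (h : ElemSetup T) {z : G ⧸ Hn T}
    (hz : z ≠ QuotientGroup.mk 1) : ∃ u : G, orderOf u = 2 ∧ u ∉ Hn T ∧ z = QuotientGroup.mk u := by
  have h1 := StrEmb.card_swap h.strEmb hz.symm
  rw [h.card_involutions] at h1
  have h2 : 0 < Nat.card {i : G // orderOf i = 2 ∧ i • (QuotientGroup.mk 1 : G ⧸ Hn T) = z} := by
    have := h.four_le
    omega
  obtain ⟨⟨u, hu, huz⟩⟩ := (Nat.card_pos_iff.1 h2).1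
  rw [StrEmb.smul_mk_one] at huz
  refine ⟨u, hu, ?_, huz.symm⟩
  intro hc
  apply hz
  rw [← huz, eq_comm, QuotientGroup.eq]
  simpa using hc

/-- `C_H(d) = D` for `1 ≠ d ∈ D`. -/
theorem mem_D_of_commute (h : ElemSetup T) {u : G} (hu : orderOf u = 2) (huH : u ∉ Hn T)
    {d c : G} (hd : d ∈ Dn T u) (hd1 : d ≠ 1) (hc : c ∈ Hn T) (hcd : Commute c d) : c ∈ Dn T u := by
  obtain ⟨t, ht, e, he, rfl⟩ := h.exists_mul huH hc
  by_cases ht1 : t = 1
  · rw [ht1, one_mul]; exact he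
  exfalso
  apply hd1
  apply h.eq_one_of_commute huH ht ht1 hd
  have h1 : Commute e d := h.D_comm hu huH he hd
  have h2 : Commute (t * e * e⁻¹) d := hcd.mul_left h1.inv_left
  rw [mul_inv_cancel_right] at h2
  exact h2.symm

/-- Elements of `H ∖ T` are `T`-conjugate into `D`. -/
theorem exists_conj_mem_D (h : ElemSetup T) {u : G} (huH : u ∉ Hn T) {x : G} (hx : x ∈ Hn T)
    (hxT : x ∉ (T : Subgroup G)) : ∃ t ∈ (T : Subgroup G), t⁻¹ * x * t ∈ Dn T u := by
  obtain ⟨t', ht', d, hd, rfl⟩ := h.exists_mul huH hx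
  have hd1 : d ≠ 1 := by rintro rfl; exact hxT (by simpa using ht')
  have hdH : d ∈ Hn T := (Subgroup.mem_inf.1 hd).1
  let f : ↥(T : Subgroup G) → ↥(T : Subgroup G) := fun t =>
    ⟨(t : G) * (d * (t : G)⁻¹ * d⁻¹), mul_mem t.2 (conj_mem_T hdH (inv_mem t.2))⟩
  have hf : Function.Injective f := by
    intro s t hst
    have h1 : (s : G) * (d * (s : G)⁻¹ * d⁻¹) = t * (d * (t : G)⁻¹ * d⁻¹) :=
      congrArg (fun x : (T : Subgroup G) => (x : G)) hst
    by_contra hne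
    have h2 : (t : G)⁻¹ * s ≠ 1 := by
      intro hc
      apply hne
      exact Subtype.ext (inv_mul_eq_one.1 hc).symm
    apply hd1
    have h21 : (t : G)⁻¹ * s ∈ (T : Subgroup G) :=
      Subgroup.mul_mem _ (Subgroup.inv_mem _ t.2) s.2
    apply h.eq_one_of_commute huH h21 h2 hd
    have h3 : (t : G)⁻¹ * s * d = d * ((t : G)⁻¹ * s) := by
      have h4 : (t : G)⁻¹ * ((s : G) * (d * (s : G)⁻¹ * d⁻¹)) * d * s =
          (t : G)⁻¹ * (t * (d * (t : G)⁻¹ * d⁻¹)) * d * s := by rw [h1]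
      have h5 : (t : G)⁻¹ * ((s : G) * (d * (s : G)⁻¹ * d⁻¹)) * d * s = (t : G)⁻¹ * s * d := by
        group
      have h6 : (t : G)⁻¹ * (t * (d * (t : G)⁻¹ * d⁻¹)) * d * s = d * ((t : G)⁻¹ * s) := by
        group
      rw [h5, h6] at h4
      exact h4
    exact h3.symm
  obtain ⟨t, ht⟩ := (Finite.injective_iff_surjective.1 hf) ⟨t', ht'⟩
  have h1 : (t : G) * (d * (t : G)⁻¹ * d⁻¹) = t' := congrArg (fun x : (T : Subgroup G) => (x : G)) ht
  refine ⟨t, t.2, ?_⟩
  rw [← h1]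
  have h2 : (t : G)⁻¹ * ((t : G) * (d * (t : G)⁻¹ * d⁻¹) * d) * t = d := by group
  rw [h2]
  exact hd

/-- `T` is transitive on the points different from `H`. -/
theorem exists_T_smul (h : ElemSetup T) {u : G} (hu : orderOf u = 2) (huH : u ∉ Hn T)
    {z : G ⧸ Hn T} (hz : z ≠ QuotientGroup.mk 1) :
    ∃ t ∈ (T : Subgroup G), t • (QuotientGroup.mk u : G ⧸ Hn T) = z := by
  obtain ⟨v, hv, hvH, rfl⟩ := h.exists_swap_involution hz
  have h6 : 1 < Nat.card (Dn T v) := by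
    have h61 := h.four_le
    have h62 := h.card_D hvH
    rw [h62]
    omega
  haveI : Nontrivial (Dn T v) := Finite.one_lt_card_iff_nontrivial.1 h6
  obtain ⟨⟨e, he⟩, he1⟩ := exists_ne (1 : Dn T v)
  have heH : e ∈ Hn T := (Subgroup.mem_inf.1 he).1
  have heT : e ∉ (T : Subgroup G) := fun hc => he1 (Subtype.ext (h.not_mem_D_of_mem_T hvH hc he))
  obtain ⟨t, ht, hte⟩ := h.exists_conj_mem_D huH heH heT
  refine ⟨t, ht, ?_⟩
  have htH : t ∈ Hn T := Subgroup.le_normalizer ht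
  have hte1 : t⁻¹ * e * t ≠ 1 := by
    intro hc
    apply he1
    have := congrArg (fun y => t * y * t⁻¹) hc
    exact Subtype.ext (by simpa [mul_assoc] using this)
  -- the conjugate of `D_v` lies in `D_u`
  have hle : (Dn T v).map (MulAut.conj t⁻¹).toMonoidHom ≤ Dn T u := by
    rintro _ ⟨c, hc, rfl⟩
    have h7 : (MulAut.conj t⁻¹).toMonoidHom c = t⁻¹ * c * t := by simp
    rw [h7]
    apply h.mem_D_of_commute hu huH hte hte1
    · exact mul_mem (mul_mem (inv_mem htH) (Subgroup.mem_inf.1 hc).1) htH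
    · have h8 := h.D_comm hv hvH hc he
      show t⁻¹ * c * t * (t⁻¹ * e * t) = t⁻¹ * e * t * (t⁻¹ * c * t)
      have h9 : t⁻¹ * (c * e) * t = t⁻¹ * (e * c) * t := by rw [h8]
      simpa [mul_assoc] using h9
  have heq : (Dn T v).map (MulAut.conj t⁻¹).toMonoidHom = Dn T u :=
    Subgroup.eq_of_le_of_card_ge hle (by rw [map_conj_card, h.card_D huH, h.card_D hvH])
  have hfix : ∀ d ∈ Dn T v, d • (t • (QuotientGroup.mk u : G ⧸ Hn T)) = t • QuotientGroup.mk u := by
    intro d hd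
    have h7 : t⁻¹ * d * t ∈ Dn T u := by
      rw [← heq]
      exact ⟨d, hd, by simp⟩
    have h8 := (StrEmb.mem_inf_conj_iff.1 h7).2
    have h9 : d • (t • (QuotientGroup.mk u : G ⧸ Hn T)) =
        t • ((t⁻¹ * d * t) • (QuotientGroup.mk u : G ⧸ Hn T)) := by
      simp only [← mul_smul, mul_assoc, mul_inv_cancel_left]
    rw [h9, h8]
  rcases h.fixed_points hv hvH _ hfix with h8 | h8
  · exfalso
    have h9 : (QuotientGroup.mk (t * u) : G ⧸ Hn T) = QuotientGroup.mk 1 := h8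
    rw [eq_comm, QuotientGroup.eq] at h9
    apply huH
    have h10 : t⁻¹ * (t * u) ∈ Hn T := mul_mem (inv_mem htH) (by simpa using h9)
    simpa using h10
  · exact h8

theorem T_fix (h : ElemSetup T) {t : G} (ht : t ∈ (T : Subgroup G)) (ht1 : t ≠ 1)
    {z : G ⧸ Hn T} (hz : t • z = z) : z = QuotientGroup.mk 1 := by
  apply StrEmb.eq_of_smul_eq h.strEmb (h.cent.orderOf_eq T ht ht1) hz
  rw [StrEmb.smul_mk_eq_iff]
  have : t ∈ Hn T := Subgroup.le_normalizer ht
  rwa [inv_one, one_mul, mul_one]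

theorem T_smul_inj (h : ElemSetup T) {s t : G} (hs : s ∈ (T : Subgroup G))
    (ht : t ∈ (T : Subgroup G)) {z : G ⧸ Hn T} (hz : z ≠ QuotientGroup.mk 1)
    (hst : s • z = t • z) : s = t := by
  by_contra hne
  apply hz
  apply h.T_fix (t := t⁻¹ * s) (mul_mem (inv_mem ht) hs)
  · intro hc
    exact hne (inv_mul_eq_one.1 hc).symm
  · rw [mul_smul, hst, ← mul_smul, inv_mul_cancel, one_smul]

theorem H_smul_one {x : G} (hx : x ∈ Hn T) :
    x • (QuotientGroup.mk 1 : G ⧸ Hn T) = QuotientGroup.mk 1 := by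
  rw [StrEmb.smul_mk_eq_iff, inv_one, one_mul, mul_one]
  exact hx

theorem mem_H_of_smul_one {x : G} (hx : x • (QuotientGroup.mk 1 : G ⧸ Hn T) = QuotientGroup.mk 1) :
    x ∈ Hn T := by
  have := (StrEmb.smul_mk_eq_iff _ _).1 hx
  rwa [inv_one, one_mul, mul_one] at this

/-- Any three distinct points can be moved to the base triple. -/
theorem exists_base (h : ElemSetup T) {u : G} (hu : orderOf u = 2) (huH : u ∉ Hn T) {t₁ : G}
    (ht₁ : t₁ ∈ (T : Subgroup G)) (ht₁1 : t₁ ≠ 1) (x₁ x₂ x₃ : G ⧸ Hn T) (h12 : x₁ ≠ x₂)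
    (h13 : x₁ ≠ x₃) (h23 : x₂ ≠ x₃) : ∃ g : G, g • x₁ = QuotientGroup.mk 1 ∧
      g • x₂ = QuotientGroup.mk u ∧ g • x₃ = t₁ • QuotientGroup.mk u := by
  obtain ⟨g₁, hg₁⟩ : ∃ g₁ : G, g₁ • x₁ = QuotientGroup.mk 1 := by
    induction x₁ using QuotientGroup.induction_on with | _ a
    exact ⟨a⁻¹, by rw [StrEmb.smul_mk_eq_mk_iff]; simp⟩
  have h2 : g₁ • x₂ ≠ QuotientGroup.mk 1 := by
    intro hc
    exact h12 (MulAction.injective g₁ (hg₁.trans hc.symm))
  obtain ⟨t, ht, htx⟩ := h.exists_T_smul hu huH h2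
  have hg₂ : (t⁻¹ * g₁) • x₂ = QuotientGroup.mk u := by
    rw [mul_smul, ← htx, ← mul_smul, inv_mul_cancel, one_smul]
  have hg₂1 : (t⁻¹ * g₁) • x₁ = QuotientGroup.mk 1 := by
    rw [mul_smul, hg₁, H_smul_one (inv_mem (Subgroup.le_normalizer ht))]
  have h3 : (t⁻¹ * g₁) • x₃ ≠ QuotientGroup.mk 1 := by
    intro hc
    exact h13 (MulAction.injective (t⁻¹ * g₁) (hg₂1.trans hc.symm))
  obtain ⟨s, hs, hsx⟩ := h.exists_T_smul hu huH h3
  have hs1 : s ≠ 1 := by
    rintro rfl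
    rw [one_smul] at hsx
    exact h23 (MulAction.injective (t⁻¹ * g₁) (hg₂.trans hsx))
  obtain ⟨d, hd, hds⟩ := h.exists_conj huH hs hs1 ht₁ ht₁1
  have hd1 := (StrEmb.mem_inf_conj_iff.1 hd).1
  have hd2 := (StrEmb.mem_inf_conj_iff.1 hd).2
  refine ⟨d * (t⁻¹ * g₁), ?_, ?_, ?_⟩
  · rw [mul_smul, hg₂1, hd1]
  · rw [mul_smul, hg₂, hd2]
  · rw [mul_smul, ← hsx, ← hds]
    nth_rewrite 2 [← hd2]
    simp only [← mul_smul, mul_assoc, inv_mul_cancel, mul_one]

theorem sharply_transitive (h : ElemSetup T) (x₁ x₂ x₃ y₁ y₂ y₃ : G ⧸ Hn T) (h12 : x₁ ≠ x₂)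
    (h13 : x₁ ≠ x₃) (h23 : x₂ ≠ x₃) (k12 : y₁ ≠ y₂) (k13 : y₁ ≠ y₃) (k23 : y₂ ≠ y₃) :
    ∃ g : G, g • x₁ = y₁ ∧ g • x₂ = y₂ ∧ g • x₃ = y₃ := by
  obtain ⟨u, hu, huH, -⟩ : ∃ u : G, orderOf u = 2 ∧ u ∉ Hn T ∧ True := by
    by_cases hx : x₁ = QuotientGroup.mk 1
    · obtain ⟨u, h1, h2, -⟩ := h.exists_swap_involution (z := x₂) (by rw [← hx]; exact h12.symm)
      exact ⟨u, h1, h2, trivial⟩
    · obtain ⟨u, h1, h2, -⟩ := h.exists_swap_involution hx
      exact ⟨u, h1, h2, trivial⟩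
  obtain ⟨t₁, ht₁, ht₁1⟩ := h.exists_T_ne_one
  obtain ⟨g, hg1, hg2, hg3⟩ := h.exists_base hu huH ht₁ ht₁1 x₁ x₂ x₃ h12 h13 h23
  obtain ⟨k, hk1, hk2, hk3⟩ := h.exists_base hu huH ht₁ ht₁1 y₁ y₂ y₃ k12 k13 k23
  refine ⟨k⁻¹ * g, ?_, ?_, ?_⟩
  · rw [mul_smul, hg1, ← hk1, ← mul_smul, inv_mul_cancel, one_smul]
  · rw [mul_smul, hg2, ← hk2, ← mul_smul, inv_mul_cancel, one_smul]
  · rw [mul_smul, hg3, ← hk3, ← mul_smul, inv_mul_cancel, one_smul]

theorem sharp (h : ElemSetup T) (g : G) (x₁ x₂ x₃ : G ⧸ Hn T) (h12 : x₁ ≠ x₂)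
    (h13 : x₁ ≠ x₃) (h23 : x₂ ≠ x₃) (hg1 : g • x₁ = x₁) (hg2 : g • x₂ = x₂) (hg3 : g • x₃ = x₃) :
    g = 1 := by
  obtain ⟨u, hu, huH, -⟩ : ∃ u : G, orderOf u = 2 ∧ u ∉ Hn T ∧ True := by
    by_cases hx : x₁ = QuotientGroup.mk 1
    · obtain ⟨u, h1, h2, -⟩ := h.exists_swap_involution (z := x₂) (by rw [← hx]; exact h12.symm)
      exact ⟨u, h1, h2, trivial⟩
    · obtain ⟨u, h1, h2, -⟩ := h.exists_swap_involution hx
      exact ⟨u, h1, h2, trivial⟩
  obtain ⟨t₁, ht₁, ht₁1⟩ := h.exists_T_ne_one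
  obtain ⟨k, hk1, hk2, hk3⟩ := h.exists_base hu huH ht₁ ht₁1 x₁ x₂ x₃ h12 h13 h23
  have key : ∀ (x y : G ⧸ Hn T), k • x = y → g • x = x → (k * g * k⁻¹) • y = y := by
    intro x y h1 h2
    rw [← h1, mul_smul, mul_smul, ← mul_smul k⁻¹ k, inv_mul_cancel, one_smul, h2]
  have e1 := key _ _ hk1 hg1
  have e2 := key _ _ hk2 hg2
  have e3 := key _ _ hk3 hg3
  have hD : k * g * k⁻¹ ∈ Dn T u := StrEmb.mem_inf_conj_iff.2 ⟨e1, e2⟩
  have hu1 : (QuotientGroup.mk u : G ⧸ Hn T) ≠ QuotientGroup.mk 1 := (StrEmb.mk_one_ne_mk huH).symm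
  have hd1 : k * g * k⁻¹ = 1 := by
    generalize k * g * k⁻¹ = d at e1 e2 e3 hD ⊢
    apply h.eq_one_of_commute huH ht₁ ht₁1 hD
    have e4 : (d * t₁ * d⁻¹) • (QuotientGroup.mk u : G ⧸ Hn T) = t₁ • QuotientGroup.mk u := by
      nth_rewrite 1 [← e2]
      rw [← mul_smul, inv_mul_cancel_right, mul_smul, e3]
    have e5 := h.T_smul_inj (conj_mem_T (Subgroup.mem_inf.1 hD).1 ht₁) ht₁ hu1 e4
    exact mul_inv_eq_iff_eq_mul.1 e5
  have := congrArg (fun y => k⁻¹ * y * k) hd1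
  simpa [mul_assoc] using this

theorem card_points (h : ElemSetup T) : Nat.card (G ⧸ Hn T) = Nat.card T + 1 := by
  classical
  haveI : Fintype (G ⧸ Hn T) := Fintype.ofFinite _
  obtain ⟨g, hg⟩ : ∃ g : G, g ∉ Hn T := by
    by_contra hc
    push Not at hc
    exact h.strEmb.1 ((Subgroup.eq_top_iff' _).2 hc)
  have hg1 : (QuotientGroup.mk g : G ⧸ Hn T) ≠ QuotientGroup.mk 1 := (StrEmb.mk_one_ne_mk hg).symm
  obtain ⟨u, hu, huH, -⟩ := h.exists_swap_involution hg1
  have hu1 : (QuotientGroup.mk u : G ⧸ Hn T) ≠ QuotientGroup.mk 1 := (StrEmb.mk_one_ne_mk huH).symm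
  have e : ↥(T : Subgroup G) ≃ {z : G ⧸ Hn T // z ≠ QuotientGroup.mk 1} :=
    Equiv.ofBijective (fun t => ⟨(t : G) • QuotientGroup.mk u, by
      intro hc
      apply hu1
      have h1 := H_smul_one (T := T) (inv_mem (Subgroup.le_normalizer t.2))
      rw [← hc, ← mul_smul, inv_mul_cancel, one_smul] at h1
      rw [h1, hc]⟩) ⟨by
        intro s t hst
        exact Subtype.ext (h.T_smul_inj s.2 t.2 hu1 (congrArg Subtype.val hst)), by
        rintro ⟨z, hz⟩
        obtain ⟨t, ht, htz⟩ := h.exists_T_smul hu huH hz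
        exact ⟨⟨t, ht⟩, Subtype.ext htz⟩⟩
  have h1 : Nat.card {z : G ⧸ Hn T // z ≠ QuotientGroup.mk 1} = Nat.card (G ⧸ Hn T) - 1 := by
    rw [Nat.card_eq_fintype_card, Fintype.card_subtype_compl, Fintype.card_subtype_eq,
      Nat.card_eq_fintype_card]
  have h2 : 0 < Nat.card (G ⧸ Hn T) := Nat.card_pos
  have h3 := Nat.card_congr e
  rw [h1] at h3
  have h4 : Nat.card (T : Subgroup G) = Nat.card T := rfl
  omega

theorem card_G (h : ElemSetup T) :
    Nat.card G = (Nat.card T + 1) * (Nat.card T * (Nat.card T - 1)) := by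
  obtain ⟨g, hg⟩ : ∃ g : G, g ∉ Hn T := by
    by_contra hc
    push Not at hc
    exact h.strEmb.1 ((Subgroup.eq_top_iff' _).2 hc)
  rw [Subgroup.card_eq_card_quotient_mul_card_subgroup (Hn T), h.card_points, h.card_H hg]

end ElemSetup

end Cfsg.Agent.H21
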