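import Mathlib

/-!
# A field from an abelian group acting regularly on the nontrivial elements of an abelian group
-/

set_option autoImplicit false
set_option linter.style.haveILetI false

namespace Cfsg.Agent.H21

open Subgroup

universe u

theorem exists_field_aux {G : Type u} [Group G] (T D : Subgroup G)
    (hDc : ∀ a ∈ D, ∀ b ∈ D, a * b = b * a)
    (hDT : ∀ d ∈ D, ∀ t ∈ T, d * t * d⁻¹ ∈ T) (t₁ : G) (ht₁ : t₁ ∈ T) (ht₁1 : t₁ ≠ 1)
    (htrans : ∀ t ∈ T, t ≠ 1 → ∃ d ∈ D, d * t₁ * d⁻¹ = t)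
    (hreg : ∀ d ∈ D, d * t₁ * d⁻¹ = t₁ → d = 1) :
    ∃ (K : Type u) (_ : Field K) (e : K ≃ T),
      (∀ a b, e (a + b) = e a * e b) ∧
      (∀ a : K, a ≠ 0 → ∃ d ∈ D, ∀ b : K, ((e (a * b) : T) : G) = d * (e b : T) * d⁻¹) ∧
      (∀ d ∈ D, ∃ a : K, a ≠ 0 ∧ ∀ b : K, ((e (a * b) : T) : G) = d * (e b : T) * d⁻¹) := by
  classical
  letI cD : CommGroup D := { (inferInstance : Group D) with
    mul_comm := fun a b => Subtype.ext (hDc a a.2 b b.2) }
  let K := WithZero D
  let f : K → T := fun x => WithZero.recZeroCoe (motive := fun _ => T) 1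
    (fun (d : D) => (⟨(d : G) * t₁ * (d : G)⁻¹, hDT d d.2 t₁ ht₁⟩ : T)) x
  have f0 : f 0 = 1 := rfl
  have fd : ∀ d : D, ((f (d : K) : T) : G) = (d : G) * t₁ * (d : G)⁻¹ := fun d => rfl
  have fne : ∀ d : D, f (d : K) ≠ 1 := by
    intro d hd
    apply ht₁1
    have h1 : (d : G) * t₁ * (d : G)⁻¹ = 1 := by rw [← fd]; exact congrArg Subtype.val hd
    have := congrArg (fun y => (d : G)⁻¹ * y * d) h1
    simpa [mul_assoc] using this
  have finj : Function.Injective f := by
    intro x y hxy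
    induction x using WithZero.recZeroCoe with
    | zero =>
      induction y using WithZero.recZeroCoe with
      | zero => rfl
      | coe d => exact absurd hxy.symm (fne d)
    | coe d =>
      induction y using WithZero.recZeroCoe with
      | zero => exact absurd hxy (fne d)
      | coe e =>
        have h1 : (d : G) * t₁ * (d : G)⁻¹ = (e : G) * t₁ * (e : G)⁻¹ :=
          congrArg Subtype.val hxy
        have h2 : (e : G)⁻¹ * d = 1 := by
          apply hreg _ (mul_mem (inv_mem e.2) d.2)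
          have := congrArg (fun y => (e : G)⁻¹ * y * e) h1
          simpa [mul_assoc] using this
        have h3 : (e : G) = d := inv_mul_eq_one.1 h2
        rw [Subtype.ext h3]
  have fsurj : Function.Surjective f := by
    rintro ⟨t, ht⟩
    by_cases ht1 : t = 1
    · exact ⟨0, Subtype.ext ht1.symm⟩
    · obtain ⟨d, hd, hdt⟩ := htrans t ht ht1
      exact ⟨((⟨d, hd⟩ : D) : K), Subtype.ext hdt⟩
  let e : K ≃ T := Equiv.ofBijective f ⟨finj, fsurj⟩
  have e0 : e 0 = 1 := f0
  have econj : ∀ (d : D) (x : K), ((e (d * x) : T) : G) = (d : G) * (e x : T) * (d : G)⁻¹ := by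
    intro d x
    induction x using WithZero.recZeroCoe with
    | zero => rw [mul_zero, e0]; simp
    | coe y =>
      have h1 : ((d : K) * (y : K)) = ((d * y : D) : K) := rfl
      rw [h1]
      show ((d * y : D) : G) * t₁ * ((d * y : D) : G)⁻¹ = (d : G) * ((y : G) * t₁ * (y : G)⁻¹) * (d : G)⁻¹
      rw [Subgroup.coe_mul]
      group
  letI aK : Add K := ⟨fun a b => e.symm (e a * e b)⟩
  letI nK : Neg K := ⟨fun a => e.symm (e a)⁻¹⟩
  have hadd : ∀ a b : K, e (a + b) = e a * e b := fun a b => e.apply_symm_apply _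
  have hneg : ∀ a : K, e (-a) = (e a)⁻¹ := fun a => e.apply_symm_apply _
  letI : Field K := Field.ofMinimalAxioms K
    (fun a b c => e.injective (by rw [hadd, hadd, hadd, hadd, mul_assoc]))
    (fun a => e.injective (by rw [hadd, e0, one_mul]))
    (fun a => e.injective (by rw [hadd, hneg, e0, inv_mul_cancel]))
    (fun a b c => mul_assoc a b c)
    (fun a b => mul_comm a b)
    (fun a => one_mul a)
    (fun a ha => mul_inv_cancel₀ ha)
    (inv_zero)
    (fun a b c => by
      induction a using WithZero.recZeroCoe with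
      | zero =>
        rw [zero_mul, zero_mul, zero_mul]
        apply e.injective
        rw [hadd, e0, one_mul]
      | coe d =>
        apply e.injective
        apply Subtype.ext
        rw [hadd, econj, hadd, Subgroup.coe_mul, Subgroup.coe_mul, econj, econj]
        group)
    ⟨0, 1, zero_ne_one⟩
  refine ⟨K, inferInstance, e, hadd, ?_, ?_⟩
  · intro a ha
    induction a using WithZero.recZeroCoe with
    | zero => exact absurd rfl ha
    | coe d => exact ⟨d, d.2, fun b => econj d b⟩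
  · intro d hd
    exact ⟨((⟨d, hd⟩ : D) : K), WithZero.coe_ne_zero, fun b => econj ⟨d, hd⟩ b⟩

theorem exists_field_of_regular {G : Type u} [Group G] (T D : Subgroup G) [Finite T]
    (hDc : ∀ a ∈ D, ∀ b ∈ D, a * b = b * a)
    (hDT : ∀ d ∈ D, ∀ t ∈ T, d * t * d⁻¹ ∈ T) (t₁ : G) (ht₁ : t₁ ∈ T) (ht₁1 : t₁ ≠ 1)
    (htrans : ∀ t ∈ T, t ≠ 1 → ∃ d ∈ D, d * t₁ * d⁻¹ = t)
    (hreg : ∀ t ∈ T, t ≠ 1 → ∀ d ∈ D, d * t * d⁻¹ = t → d = 1) :
    ∃ (F : Type) (_ : Field F) (_ : Fintype F) (τ : F → G) (δ : Fˣ →* G),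
      (∀ a b, τ (a + b) = τ a * τ b) ∧ Function.Injective τ ∧ (∀ a, τ a ∈ T) ∧
      (∀ t ∈ T, ∃ a, τ a = t) ∧ (∀ a, δ a ∈ D) ∧ (∀ d ∈ D, ∃ a, δ a = d) ∧
      (∀ (a : Fˣ) (b : F), δ a * τ b * (δ a)⁻¹ = τ (a * b)) := by
  obtain ⟨K, fK, e, hadd, h1, h2⟩ := exists_field_aux T D hDc hDT t₁ ht₁ ht₁1 htrans
    (hreg t₁ ht₁ ht₁1)
  haveI : Finite K := Finite.of_equiv T e.symm
  let ε : Shrink.{0} K ≃+* K := Shrink.ringEquiv.{0} K
  haveI : Finite (Shrink.{0} K) := Finite.of_equiv K ε.symm.toEquiv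
  have hex : ∀ a : (Shrink.{0} K)ˣ, ∃ d ∈ D, ∀ b : K,
      ((e (ε a * b) : T) : G) = d * (e b : T) * d⁻¹ := by
    intro a
    apply h1
    intro hc
    apply a.ne_zero
    exact (map_eq_zero_iff ε ε.injective).1 hc
  choose δ hδD hδ using hex
  have e0 : e 0 = 1 := by
    have := hadd 0 0
    rw [add_zero] at this
    exact (mul_eq_left.1 this.symm)
  have e1 : ((e 1 : T) : G) ≠ 1 := by
    intro hc
    have h3 : e 1 = 1 := Subtype.ext hc
    rw [← e0] at h3
    exact one_ne_zero (e.injective h3)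
  have huniq : ∀ c d : G, c ∈ D → d ∈ D → c * (e 1 : T) * c⁻¹ = d * (e 1 : T) * d⁻¹ → c = d := by
    intro c d hc hd hcd
    have h3 : d⁻¹ * c = 1 := by
      apply hreg _ (e 1).2 e1 _ (mul_mem (inv_mem hd) hc)
      have := congrArg (fun y => d⁻¹ * y * d) hcd
      simpa [mul_assoc] using this
    exact (inv_mul_eq_one.1 h3).symm
  refine ⟨Shrink.{0} K, inferInstance, Fintype.ofFinite _, fun a => ((e (ε a) : T) : G),
    MonoidHom.mk' δ ?_, ?_, ?_, ?_, ?_, ?_, ?_, ?_⟩
  · intro a b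
    apply huniq _ _ (hδD _) (mul_mem (hδD a) (hδD b))
    rw [← hδ (a * b) 1, Units.val_mul, map_mul ε, mul_assoc, hδ, hδ]
    group
  · intro a b
    show ((e (ε (a + b)) : T) : G) = _
    rw [map_add, hadd, Subgroup.coe_mul]
  · intro a b hab
    exact ε.injective (e.injective (Subtype.ext hab))
  · intro a
    exact (e (ε a)).2
  · intro t ht
    refine ⟨ε.symm (e.symm ⟨t, ht⟩), ?_⟩
    simp
  · intro a
    exact hδD a
  · intro d hd
    obtain ⟨a, ha, had⟩ := h2 d hd
    have hne : ε.symm a ≠ 0 := by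
      intro hc
      exact ha ((map_eq_zero_iff ε.symm ε.symm.injective).1 hc)
    refine ⟨Units.mk0 (ε.symm a) hne, ?_⟩
    show δ (Units.mk0 (ε.symm a) hne) = d
    apply huniq _ _ (hδD _) hd
    rw [← hδ, ← had, Units.val_mk0, RingEquiv.apply_symm_apply]
  · intro a b
    show δ a * _ * (δ a)⁻¹ = ((e (ε (a * b)) : T) : G)
    rw [map_mul, hδ]

end Cfsg.Agent.H21
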