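import Mathlib
import Cfsg.Agent.H4.CardSL

/-!
# Recognition of `SL₂(F)`, `F` finite of characteristic 2, from its action on the projective line
-/

set_option autoImplicit false
set_option linter.style.haveILetI false
set_option linter.unusedSectionVars false

namespace Cfsg.Agent.H21

open Matrix OnePoint

section Proj

variable {F : Type*} [Field F] [DecidableEq F]

/-- `SL₂(F)` acting on the projective line `OnePoint F`. -/
def slAct (A : Matrix.SpecialLinearGroup (Fin 2) F) (x : OnePoint F) : OnePoint F :=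
  (Matrix.SpecialLinearGroup.toGL A) • x

theorem slAct_mul (A B : Matrix.SpecialLinearGroup (Fin 2) F) (x : OnePoint F) :
    slAct (A * B) x = slAct A (slAct B x) := by
  rw [slAct, map_mul, mul_smul]; rfl

theorem slAct_one (x : OnePoint F) : slAct 1 x = x := by
  rw [slAct, map_one, one_smul]

theorem slAct_infty (A : Matrix.SpecialLinearGroup (Fin 2) F) :
    slAct A (∞ : OnePoint F) = if A 1 0 = 0 then ∞ else ((A 0 0 / A 1 0 : F) : OnePoint F) :=
  OnePoint.smul_infty_eq_ite _

theorem slAct_some (A : Matrix.SpecialLinearGroup (Fin 2) F) (k : F) :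
    slAct A (k : OnePoint F) = if A 1 0 * k + A 1 1 = 0 then ∞ else
      (((A 0 0 * k + A 0 1) / (A 1 0 * k + A 1 1) : F) : OnePoint F) :=
  OnePoint.smul_some_eq_ite

/-- An element of `SL₂(F)` by its entries. -/
def mkSL (a b c d : F) (h : a * d - b * c = 1) : Matrix.SpecialLinearGroup (Fin 2) F :=
  ⟨!![a, b; c, d], by rw [Matrix.det_fin_two_of, h]⟩

theorem slAct_mkSL_infty (a b c d : F) (h : a * d - b * c = 1) :
    slAct (mkSL a b c d h) (∞ : OnePoint F) = if c = 0 then ∞ else ((a / c : F) : OnePoint F) :=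
  slAct_infty _

theorem slAct_mkSL_some (a b c d : F) (h : a * d - b * c = 1) (k : F) :
    slAct (mkSL a b c d h) (k : OnePoint F) = if c * k + d = 0 then ∞ else
      (((a * k + b) / (c * k + d) : F) : OnePoint F) :=
  slAct_some _ _

theorem eq_one_of_slAct [CharP F 2] {A : Matrix.SpecialLinearGroup (Fin 2) F}
    (h : ∀ x, slAct A x = x) : A = 1 := by
  have hdet := A.2
  rw [Matrix.det_fin_two] at hdet
  have h1 := h ∞
  rw [slAct_infty] at h1
  have h10 : A 1 0 = 0 := by
    by_contra hc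
    rw [if_neg hc] at h1
    exact OnePoint.coe_ne_infty _ h1
  have h10' : (A : Matrix (Fin 2) (Fin 2) F) 1 0 = 0 := h10
  rw [h10', mul_zero, sub_zero] at hdet
  have h11 : A 1 1 ≠ 0 := by
    intro hc
    have hc' : (A : Matrix (Fin 2) (Fin 2) F) 1 1 = 0 := hc
    rw [hc', mul_zero] at hdet
    exact zero_ne_one hdet
  have h2 := h ((0 : F) : OnePoint F)
  rw [slAct_some, h10, zero_mul, zero_add, if_neg h11, OnePoint.coe_eq_coe, mul_zero, zero_add,
    div_eq_zero_iff] at h2
  have h01 : A 0 1 = 0 := h2.resolve_right h11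
  have h3 := h ((1 : F) : OnePoint F)
  rw [slAct_some, h10, zero_mul, zero_add, if_neg h11, OnePoint.coe_eq_coe, h01, add_zero, mul_one,
    div_eq_one_iff_eq h11] at h3
  have h00 : A 0 0 = 1 := by
    have h4 : (A 0 0) * (A 0 0) = 1 := by
      nth_rewrite 2 [h3]; exact hdet
    have h5 : (A 0 0 - 1) * (A 0 0 - 1) = 0 := by
      have h6 : (2 : F) = 0 := CharTwo.two_eq_zero
      linear_combination h4 - (A 0 0 - 1) * h6
    exact sub_eq_zero.1 (mul_self_eq_zero.1 h5)
  ext i j
  fin_cases i <;> fin_cases j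
  · simpa using h00
  · simpa using h01
  · simpa using h10
  · simpa [h00] using h3.symm

end Proj

section Recog

variable {G Ω F : Type*} [Group G] [Finite G] [MulAction G Ω] [Field F] [Fintype F] [DecidableEq F]
  [CharP F 2]

theorem exists_sqrt (a : F) : ∃ s : F, s * s = a := by
  obtain ⟨s, hs⟩ := FiniteField.isSquare_of_char_two (ringChar.eq F 2 ▸ rfl) a
  exact ⟨s, hs.symm⟩

theorem nonempty_mulEquiv_sl2 (inf o : Ω) (τ : F → G) (δ : Fˣ →* G) (u : G)
    (hτinf : ∀ b, τ b • inf = inf) (hτadd : ∀ a b, τ (a + b) = τ a * τ b)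
    (hsurj : ∀ x, x ≠ inf → ∃ b, τ b • o = x) (hinj : ∀ b, τ b • o = o → b = 0)
    (ho : o ≠ inf) (hδinf : ∀ a, δ a • inf = inf) (hδo : ∀ a, δ a • o = o)
    (hconj : ∀ (a : Fˣ) (b : F), δ a * τ b * (δ a)⁻¹ = τ (a * b))
    (hu1 : u • inf = o) (hu2 : u • o = inf) (hinv : ∀ a, u * δ a * u⁻¹ = (δ a)⁻¹)
    (hH : ∀ g : G, g • inf = inf → ∃ b a, g = τ b * δ a)
    (hfaith : ∀ g : G, (∀ x : Ω, g • x = x) → g = 1)
    (hcard : Nat.card G = (Fintype.card F + 1) * (Fintype.card F * (Fintype.card F - 1))) :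
    Nonempty (G ≃* Matrix.SpecialLinearGroup (Fin 2) F) := by
  have hτ0 : τ 0 = 1 := by
    have := hτadd 0 0
    rw [add_zero] at this
    exact (mul_eq_left.1 this.symm)
  let ψ : OnePoint F → Ω := fun x => x.elim inf (fun b => τ b • o)
  have ψinf : ψ ∞ = inf := rfl
  have ψcoe : ∀ b : F, ψ (b : OnePoint F) = τ b • o := fun b => rfl
  have hτo : ∀ b, τ b • o ≠ inf := by
    intro b hb
    apply ho
    have h1 : (τ b)⁻¹ • (τ b • o) = (τ b)⁻¹ • (τ b • inf) := by rw [hb, hτinf]
    simpa using h1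
  have ψsurj : Function.Surjective ψ := by
    intro x
    by_cases hx : x = inf
    · exact ⟨∞, by rw [hx, ψinf]⟩
    · obtain ⟨b, hb⟩ := hsurj x hx
      exact ⟨(b : OnePoint F), hb⟩
  have hτneg : ∀ b, τ (-b) = (τ b)⁻¹ := by
    intro b
    have := hτadd (-b) b
    rw [neg_add_cancel, hτ0] at this
    exact eq_inv_of_mul_eq_one_left this.symm
  have hτinj : ∀ a b, τ a • o = τ b • o → a = b := by
    intro a b hab
    have h1 : τ (-b + a) • o = o := by
      rw [hτadd, hτneg, mul_smul, hab, inv_smul_smul]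
    have := hinj _ h1
    linear_combination this
  have ψinj : Function.Injective ψ := by
    intro x y hxy
    induction x using OnePoint.rec with
    | infty =>
      induction y using OnePoint.rec with
      | infty => rfl
      | coe b => exact absurd hxy.symm (hτo b)
    | coe a =>
      induction y using OnePoint.rec with
      | infty => exact absurd hxy (hτo a)
      | coe b => rw [hτinj a b hxy]
  -- the constant `c`
  have huo : u • (τ 1 • o) ≠ inf := by
    intro hc
    have h1 : u • (τ 1 • o) = u • o := by rw [hc, hu2]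
    have h2 := smul_left_cancel u h1
    exact one_ne_zero (hinj 1 h2)
  obtain ⟨c, hc⟩ := hsurj _ huo
  have hc0 : c ≠ 0 := by
    rintro rfl
    rw [hτ0, one_smul] at hc
    have h1 : u • inf = u • (τ 1 • o) := hu1.trans hc
    have := smul_left_cancel u h1
    exact hτo 1 this.symm
  have huψ : ∀ a : F, a ≠ 0 → u • ψ (a : OnePoint F) = ψ ((a⁻¹ * c : F) : OnePoint F) := by
    intro a ha
    have h1 : τ a • o = δ (Units.mk0 a ha) • (τ 1 • o) := by
      have h2 := hconj (Units.mk0 a ha) 1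
      rw [mul_one, Units.val_mk0] at h2
      rw [← h2, mul_smul, mul_smul]
      congr 2
      rw [inv_smul_eq_iff, hδo]
    have h3 : u * δ (Units.mk0 a ha) = (δ (Units.mk0 a ha))⁻¹ * u := by
      rw [← hinv]; group
    have h4 : (δ (Units.mk0 a ha))⁻¹ = δ (Units.mk0 a ha)⁻¹ := (map_inv δ _).symm
    rw [ψcoe, ψcoe, h1, ← mul_smul, h3, mul_smul, ← hc, h4]
    have h5 := hconj (Units.mk0 a ha)⁻¹ c
    have h6 : (((Units.mk0 a ha)⁻¹ : Fˣ) : F) = a⁻¹ := by simp
    rw [h6] at h5
    rw [← h5, mul_smul, mul_smul]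
    congr 2
    rw [eq_comm, inv_smul_eq_iff, hδo]
  let P : G → Prop := fun g => ∃ A : Matrix.SpecialLinearGroup (Fin 2) F, ∀ x, g • ψ x = ψ (slAct A x)
  have Pmul : ∀ g h, P g → P h → P (g * h) := by
    rintro g h ⟨A, hA⟩ ⟨B, hB⟩
    exact ⟨A * B, fun x => by rw [mul_smul, hB, hA, slAct_mul]⟩
  have Pτ : ∀ b, P (τ b) := by
    intro b
    refine ⟨mkSL 1 b 0 1 (by ring), fun x => ?_⟩
    induction x using OnePoint.rec with
    | infty => rw [slAct_mkSL_infty, if_pos rfl, ψinf, hτinf]
    | coe a =>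
      rw [slAct_mkSL_some, if_neg (by simp), zero_mul, zero_add, div_one, one_mul, ψcoe, ψcoe,
        ← mul_smul, ← hτadd, add_comm]
  have Pδ : ∀ a, P (δ a) := by
    intro a
    obtain ⟨s, hs⟩ := exists_sqrt (a : F)
    have hs0 : s ≠ 0 := by rintro rfl; rw [mul_zero] at hs; exact a.ne_zero hs.symm
    refine ⟨mkSL s 0 0 s⁻¹ (by rw [mul_inv_cancel₀ hs0]; ring), fun x => ?_⟩
    induction x using OnePoint.rec with
    | infty => rw [slAct_mkSL_infty, if_pos rfl, ψinf, hδinf]
    | coe b =>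
      have h1 : δ a • ψ (b : OnePoint F) = ψ ((a * b : F) : OnePoint F) := by
        rw [ψcoe, ψcoe, ← hconj, mul_smul, mul_smul]
        congr 2
        rw [eq_comm, inv_smul_eq_iff, hδo]
      rw [slAct_mkSL_some, h1, if_neg (by simp [hs0]), zero_mul, zero_add, add_zero, ← hs]
      congr 2
      field_simp
  have Pu : P u := by
    obtain ⟨s, hs⟩ := exists_sqrt c
    have hs0 : s ≠ 0 := by rintro rfl; rw [mul_zero] at hs; exact hc0 hs.symm
    refine ⟨mkSL 0 s s⁻¹ 0 (by
      rw [zero_mul, zero_sub, mul_inv_cancel₀ hs0]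
      exact CharTwo.neg_eq _), fun x => ?_⟩
    induction x using OnePoint.rec with
    | infty =>
      rw [slAct_mkSL_infty, if_neg (inv_ne_zero hs0), ψinf, hu1, zero_div, ψcoe, hτ0, one_smul]
    | coe b =>
      rw [slAct_mkSL_some]
      by_cases hb : b = 0
      · subst hb
        rw [if_pos (by simp), ψcoe, hτ0, one_smul, hu2, ψinf]
      · rw [if_neg (by simp [hs0, hb]), huψ b hb, zero_mul, zero_add, add_zero, ← hs]
        congr 2
        field_simp
  have Pall : ∀ g, P g := by
    intro g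
    by_cases hg : g • inf = inf
    · obtain ⟨b, a, rfl⟩ := hH g hg
      exact Pmul _ _ (Pτ b) (Pδ a)
    · obtain ⟨b, hb⟩ := hsurj _ hg
      have h1 : ((τ b * u)⁻¹ * g) • inf = inf := by
        rw [mul_smul, ← hb, inv_smul_eq_iff, mul_smul, hu1]
      obtain ⟨b', a', h2⟩ := hH _ h1
      have h3 : g = (τ b * u) * (τ b' * δ a') := by rw [← h2]; group
      rw [h3]
      exact Pmul _ _ (Pmul _ _ (Pτ b) Pu) (Pmul _ _ (Pτ b') (Pδ a'))
  choose Φ hΦ using Pall
  have huniq : ∀ A B : Matrix.SpecialLinearGroup (Fin 2) F,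
      (∀ x, ψ (slAct A x) = ψ (slAct B x)) → A = B := by
    intro A B hAB
    have h1 : B⁻¹ * A = 1 := by
      apply eq_one_of_slAct
      intro x
      have h2 := ψinj (hAB x)
      rw [slAct_mul, h2, ← slAct_mul, inv_mul_cancel, slAct_one]
    exact (inv_mul_eq_one.1 h1).symm
  let φ : G →* Matrix.SpecialLinearGroup (Fin 2) F := MonoidHom.mk' Φ (by
    intro g h
    apply huniq
    intro x
    rw [← hΦ, mul_smul, hΦ, hΦ, slAct_mul])
  have hφinj : Function.Injective φ := by
    rw [injective_iff_map_eq_one]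
    intro g hg
    apply hfaith
    intro y
    obtain ⟨x, rfl⟩ := ψsurj y
    rw [hΦ]
    have : Φ g = 1 := hg
    rw [this, slAct_one]
  have hcardSL : Nat.card (Matrix.SpecialLinearGroup (Fin 2) F) = Nat.card G := by
    have h1 := H4.card_SL_mul (F := F) 2 (by norm_num)
    have h2 : Nat.card (GL (Fin 2) F) = (Fintype.card F ^ 2 - 1) * (Fintype.card F ^ 2 - Fintype.card F) := by
      rw [Matrix.card_GL_field]
      simp [Fin.prod_univ_two]
    rw [h2] at h1
    rw [hcard]
    have hq : 2 ≤ Fintype.card F := Fintype.one_lt_card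
    obtain ⟨m, hm⟩ := Nat.exists_eq_add_of_le hq
    rw [hm] at h1 ⊢
    have h3 : 2 + m - 1 = m + 1 := by omega
    have h4 : (2 + m) ^ 2 - 1 = (m + 1) * (m + 3) := by
      have : (2 + m) ^ 2 = (m + 1) * (m + 3) + 1 := by ring
      omega
    have h5 : (2 + m) ^ 2 - (2 + m) = (m + 2) * (m + 1) := by
      have : (2 + m) ^ 2 = (m + 2) * (m + 1) + (2 + m) := by ring
      omega
    rw [h3, h4, h5] at h1
    have h6 : 0 < m + 1 := by omega
    apply Nat.eq_of_mul_eq_mul_left h6
    rw [h1, h3]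
    ring
  exact ⟨MulEquiv.ofBijective φ ((Nat.bijective_iff_injective_and_card _).2 ⟨hφinj, hcardSL.symm⟩)⟩

omit [DecidableEq F] in
theorem center_sl2_eq_bot : Subgroup.center (Matrix.SpecialLinearGroup (Fin 2) F) = ⊥ := by
  have h1 := H4.card_center_SL (F := F) 2 (by norm_num)
  have h2 : Nat.gcd 2 (Fintype.card F - 1) = 1 := by
    have h3 : Even (Fintype.card F) := by
      obtain ⟨n, hp, hn⟩ := FiniteField.card F 2
      rw [hn]
      exact (Nat.even_pow.2 ⟨even_two, n.ne_zero⟩)
    have h4 : 1 ≤ Fintype.card F := Fintype.card_pos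
    have h5 : Odd (Fintype.card F - 1) := by
      obtain ⟨k, hk⟩ := h3
      exact ⟨k - 1, by omega⟩
    exact (Nat.coprime_two_left).2 h5
  rw [h2] at h1
  exact Subgroup.card_eq_one.1 h1

omit [DecidableEq F] in
theorem nonempty_mulEquiv_psl2 : Nonempty (Matrix.SpecialLinearGroup (Fin 2) F ≃*
    Matrix.ProjectiveSpecialLinearGroup (Fin 2) F) :=
  ⟨(QuotientGroup.quotientBot.symm.trans
    (QuotientGroup.quotientMulEquivOfEq center_sl2_eq_bot.symm))⟩

end Recog

end Cfsg.Agent.H21
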