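import Cfsg.Agent.H21.PRf
import Cfsg.Agent.H67.Basic

set_option autoImplicit false

namespace Cfsg.Agent.H21.PR

open Subgroup

variable {G : Type*} [Group G] [Finite G] {p m : ℕ}

theorem Dat.conclusion (H : Dat G p m) :
    ∃ A : Subgroup G, IsMulCommutative A ∧ ¬ p ∣ Nat.card A ∧ ∃ k : ℕ, A.index = p ^ k := by
  obtain ⟨l', hl', hl'p, -, w, hw, hwc⟩ := H.other 0
  have hx : NC p w := ⟨hw.coprime hl' H.hp hl'p, hwc⟩
  have hm : m ≠ 0 := by
    rw [← H.idx w hx]
    exact Subgroup.index_ne_zero_of_finite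
  by_cases h : ∀ r : ℕ, r.Prime → r ∣ m → r = p
  · exact H.abelian_compl (Nat.eq_prime_pow_of_unique_prime_dvd hm (fun {d} hd hd' => h d hd hd'))
  · push Not at h
    obtain ⟨r, hr, hrm, hrp⟩ := h
    obtain ⟨x, X⟩ := exists_XD H hr hrp hrm
    exact X.false.elim

/-- the case of a single prime. -/
theorem single {q : ℕ} (hp : p.Prime) (hq : q.Prime) (hqp : q ≠ p)
    (hc : ∀ l : ℕ, l.Prime → l ≠ p → l ≠ q → ∀ w : G, QEl l w → w ∈ center G) :
    ∃ (q : ℕ) (_ : Fact q.Prime) (P : Sylow p G) (Q : Sylow q G) (A : Subgroup G), q ≠ p ∧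
        A ≤ Subgroup.center G ∧ Nat.card ↥((P : Subgroup G) ⊔ (Q : Subgroup G)) = Nat.card P * Nat.card Q ∧
        ((P : Subgroup G) ⊔ (Q : Subgroup G)).Normal ∧
        ((P : Subgroup G) ⊔ (Q : Subgroup G)) ⊓ A = ⊥ ∧ ((P : Subgroup G) ⊔ (Q : Subgroup G)) ⊔ A = ⊤ := by
  have : Fact p.Prime := ⟨hp⟩
  have hqf : Fact q.Prime := ⟨hq⟩
  have hcen : ∀ y : G, (orderOf y).Coprime p → (orderOf y).Coprime q → y ∈ center G := by
    intro y h1 h2
    by_contra h3
    obtain ⟨l, j, k, hl, hj, hk, hd⟩ := exists_primary (center G) _ y rfl h3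
    refine hj (hc l hl ?_ ?_ _ ⟨k, hk⟩)
    · rintro rfl
      exact hl.one_lt.ne' (Nat.Coprime.eq_one_of_dvd (Nat.Coprime.coprime_dvd_left hd h1) dvd_rfl)
    · rintro rfl
      exact hl.one_lt.ne' (Nat.Coprime.eq_one_of_dvd (Nat.Coprime.coprime_dvd_left hd h2) dvd_rfl)
  let A : Subgroup G :=
    { carrier := {y | (orderOf y).Coprime p ∧ (orderOf y).Coprime q}
      mul_mem' := by
        rintro a b ⟨ha, ha'⟩ ⟨hb, hb'⟩
        have h1 : Commute a b := Subgroup.mem_center_iff.1 (hcen b hb hb') a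
        exact ⟨Nat.Coprime.coprime_dvd_left h1.orderOf_mul_dvd_mul_orderOf (Nat.Coprime.mul_left ha hb),
          Nat.Coprime.coprime_dvd_left h1.orderOf_mul_dvd_mul_orderOf (Nat.Coprime.mul_left ha' hb')⟩
      one_mem' := by simp
      inv_mem' := by
        rintro a ⟨ha, ha'⟩
        exact ⟨by rw [orderOf_inv]; exact ha, by rw [orderOf_inv]; exact ha'⟩ }
  have hAc : A ≤ center G := fun y hy => hcen y hy.1 hy.2
  have hAn : A.Normal := by
    constructor
    intro y hy g
    have h1 : g * y * g⁻¹ = y := by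
      have h2 := Subgroup.mem_center_iff.1 (hAc hy) g
      rw [h2]; group
    rw [h1]; exact hy
  have hndA : ∀ l : ℕ, l.Prime → (l = p ∨ l = q) → ¬ l ∣ Nat.card A := by
    intro l hl hlpq hdv
    have : Fact l.Prime := ⟨hl⟩
    obtain ⟨a, ha⟩ := exists_prime_orderOf_dvd_card' (G := A) l hdv
    have h1 := a.2
    have h2 : orderOf (a : G) = l := by rw [Subgroup.orderOf_coe, ha]
    rcases hlpq with rfl | rfl
    · have h3 := h1.1
      rw [h2] at h3
      exact hl.one_lt.ne' (Nat.Coprime.eq_one_of_dvd h3 dvd_rfl)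
    · have h3 := h1.2
      rw [h2] at h3
      exact hl.one_lt.ne' (Nat.Coprime.eq_one_of_dvd h3 dvd_rfl)
  have hSA : ∀ l : ℕ, [Fact l.Prime] → l ≠ p → l ≠ q → ∀ S : Sylow l G, (S : Subgroup G) ≤ A := by
    intro l hl hlp hlq S y hy
    have h1 := sylow_qel S hy
    exact ⟨h1.coprime hl.out hp hlp, h1.coprime hl.out hq hlq⟩
  have hidx : ∀ l : ℕ, l.Prime → l ∣ A.index → l = p ∨ l = q := by
    intro l hl hdv
    by_contra hcon
    push Not at hcon
    have : Fact l.Prime := ⟨hl⟩
    obtain ⟨S⟩ : Nonempty (Sylow l G) := inferInstance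
    exact S.not_dvd_index (hdv.trans (Subgroup.index_dvd_of_le (hSA l hcon.1 hcon.2 S)))
  have hcop : Nat.Coprime (Nat.card A) A.index := by
    rw [Nat.coprime_iff_gcd_eq_one]
    by_contra hg
    obtain ⟨l, hl, hld⟩ := Nat.exists_prime_and_dvd hg
    exact hndA l hl (hidx l hl (hld.trans (Nat.gcd_dvd_right _ _))) (hld.trans (Nat.gcd_dvd_left _ _))
  obtain ⟨K, hK⟩ := Subgroup.exists_right_complement'_of_coprime hcop
  obtain ⟨P⟩ : Nonempty (Sylow p G) := inferInstance
  obtain ⟨Q⟩ : Nonempty (Sylow q G) := inferInstance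
  have hlK : ∀ (l : ℕ), l.Prime → (l = p ∨ l = q) → ∀ y : G, QEl l y → y ∈ K := by
    intro l hl hlpq y hy
    obtain ⟨a, ha, k, hk, rfl⟩ : ∃ a ∈ A, ∃ k ∈ K, y = a * k := by
      have h1 : y ∈ A ⊔ K := by rw [hK.sup_eq_top]; trivial
      obtain ⟨a, ha, k, hk, h2⟩ := Subgroup.mem_sup_of_normal_left.1 h1
      exact ⟨a, ha, k, hk, h2.symm⟩
    obtain ⟨n, hn⟩ := hy
    have hcak : Commute a k := (Subgroup.mem_center_iff.1 (hAc ha) k).symm
    refine pow_coprime_mem (K := K) (m := Nat.card A) (n := l ^ n) ?_ (by rw [hn]; exact K.one_mem) ?_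
    · rw [hcak.mul_pow]
      have h1 : a ^ Nat.card A = 1 := by
        have := pow_card_eq_one' (x := (⟨a, ha⟩ : A))
        exact congrArg Subtype.val this
      rw [h1, one_mul]
      exact K.pow_mem hk _
    · exact Nat.Coprime.pow_right n ((Nat.Prime.coprime_iff_not_dvd hl).2 (hndA l hl hlpq)).symm
  have hPK : (P : Subgroup G) ⊔ (Q : Subgroup G) ≤ K :=
    sup_le (fun y hy => hlK p hp (Or.inl rfl) y (sylow_qel P hy)) (fun y hy => hlK q hq (Or.inr rfl) y (sylow_qel Q hy))
  have hbot : ((P : Subgroup G) ⊔ (Q : Subgroup G)) ⊓ A = ⊥ := by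
    rw [eq_bot_iff]
    intro y hy
    have h1 := hK.disjoint.le_bot ⟨hy.2, hPK hy.1⟩
    exact h1
  have htop : ((P : Subgroup G) ⊔ (Q : Subgroup G)) ⊔ A = ⊤ := by
    rw [← Subgroup.index_eq_one]
    by_contra hcon
    obtain ⟨l, hl, hld⟩ := Nat.exists_prime_and_dvd hcon
    have : Fact l.Prime := ⟨hl⟩
    by_cases hlp : l = p
    · subst hlp
      exact P.not_dvd_index (hld.trans (Subgroup.index_dvd_of_le (le_sup_left.trans le_sup_left)))
    · by_cases hlq : l = q
      · subst hlq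
        exact Q.not_dvd_index (hld.trans (Subgroup.index_dvd_of_le (le_sup_right.trans le_sup_left)))
      · obtain ⟨S⟩ : Nonempty (Sylow l G) := inferInstance
        exact S.not_dvd_index (hld.trans (Subgroup.index_dvd_of_le ((hSA l hlp hlq S).trans le_sup_right)))
  have hnorm : ((P : Subgroup G) ⊔ (Q : Subgroup G)).Normal := by
    rw [← Subgroup.normalizer_eq_top_iff, eq_top_iff, ← htop]
    refine sup_le Subgroup.le_normalizer ?_
    intro a ha
    rw [Subgroup.mem_normalizer_iff]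
    intro y
    have h1 : a * y * a⁻¹ = y := by
      have h2 := Subgroup.mem_center_iff.1 (hAc ha) y
      rw [← h2]; group
    rw [h1]
  have hcomp : IsComplement' ((P : Subgroup G) ⊔ (Q : Subgroup G)) A := by
    refine Subgroup.isComplement'_of_disjoint_and_mul_eq_univ (disjoint_iff.2 hbot) ?_
    rw [← Subgroup.mul_normal, htop]
    rfl
  have hcard : Nat.card ↥((P : Subgroup G) ⊔ (Q : Subgroup G)) = A.index := by
    exact hcomp.index_eq_card.symm
  refine ⟨q, hqf, P, Q, A, hqp, hAc, ?_, hnorm, hbot, htop⟩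
  apply Nat.dvd_antisymm
  · rw [hcard]
    have h0 : A.index ≠ 0 := Subgroup.index_ne_zero_of_finite
    rw [← Nat.factorization_prime_le_iff_dvd h0 (Nat.mul_ne_zero Nat.card_pos.ne' Nat.card_pos.ne')]
    intro l hl
    by_cases hld : l ∣ A.index
    · have h1 : A.index.factorization l ≤ (Nat.card G).factorization l :=
        (Nat.factorization_le_iff_dvd h0 Nat.card_pos.ne').2 A.index_dvd_card l
      refine h1.trans ?_
      rcases hidx l hl hld with rfl | rfl
      · have h2 : (Nat.card P).factorization l = (Nat.card G).factorization l := by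
          rw [P.card_eq_multiplicity, Nat.factorization_pow_self hl]
        rw [← h2]
        exact (Nat.factorization_le_iff_dvd Nat.card_pos.ne' (Nat.mul_ne_zero Nat.card_pos.ne' Nat.card_pos.ne')).2
          (dvd_mul_right _ _) l
      · have h2 : (Nat.card Q).factorization l = (Nat.card G).factorization l := by
          rw [Q.card_eq_multiplicity, Nat.factorization_pow_self hl]
        rw [← h2]
        exact (Nat.factorization_le_iff_dvd Nat.card_pos.ne' (Nat.mul_ne_zero Nat.card_pos.ne' Nat.card_pos.ne')).2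
          (dvd_mul_left _ _) l
    · rw [Nat.factorization_eq_zero_of_not_dvd hld]
      exact Nat.zero_le _
  · apply Nat.Coprime.mul_dvd_of_dvd_of_dvd
    · rw [P.card_eq_multiplicity, Q.card_eq_multiplicity]
      exact Nat.coprime_pow_primes _ _ hp hq (Ne.symm hqp)
    · exact Subgroup.card_dvd_of_le le_sup_left
    · exact Subgroup.card_dvd_of_le le_sup_right

end Cfsg.Agent.H21.PR
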