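import Mathlib
import Cfsg.Prelude.Def_CaseTheorems
import Cfsg.Agent.H20.Residual
import Cfsg.Agent.S0111

/-!
# Abelian Sylow 2-subgroups in groups without subgroups of index 2
-/

set_option autoImplicit false
set_option linter.style.haveILetI false

namespace Cfsg.Agent.H21

open Subgroup

variable {G : Type*} [Group G] [Finite G]

open scoped IsMulCommutative in
/-- `C_S(N_G(S)) = 1`. -/
theorem eq_one_of_central_normalizer (hG : ∀ H : Subgroup G, H.index ≠ 2) (S : Sylow 2 G)
    [hS : IsMulCommutative (S : Subgroup G)] {c : G} (hc : c ∈ (S : Subgroup G))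
    (hcN : ∀ n ∈ Subgroup.normalizer ((S : Subgroup G) : Set G), n * c * n⁻¹ = c) : c = 1 := by
  have key : ∀ (k : ℕ) (g₀ : G), g₀⁻¹ * c ^ k * g₀ ∈ (S : Subgroup G) →
      g₀⁻¹ * c ^ k * g₀ = c ^ k := by
    intro k g₀ hg
    obtain ⟨n, hn, h⟩ := S.conj_eq_normalizer_conj_of_mem (c ^ k) g₀ (Subgroup.pow_mem _ hc k) hg
    rw [h]
    have h1 := hcN n⁻¹ (Subgroup.inv_mem _ hn)
    rw [inv_inv] at h1
    have h2 : n⁻¹ * c ^ k * n = (n⁻¹ * c * n) ^ k := by
      have := conj_pow (i := k) (a := n⁻¹) (b := c)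
      rw [inv_inv] at this
      exact this.symm
    rw [h2, h1]
  have h1 := MonoidHom.transfer_eq_pow (MonoidHom.id (S : Subgroup G)) c key
  have hres : Cfsg.pResidual 2 G = ⊤ := H20.pResidual_two_eq_top_iff.2 hG
  have h2 : c ∈ Cfsg.pResidual 2 G := by rw [hres]; exact Subgroup.mem_top c
  have h3 := H20.pResidual_le_ker (p := 2) S.isPGroup'
    (MonoidHom.transfer (MonoidHom.id (S : Subgroup G))) h2
  rw [MonoidHom.mem_ker, h1] at h3
  have h4 : c ^ (S : Subgroup G).index = 1 := congrArg (fun x : (S : Subgroup G) => (x : G)) h3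
  have h5 : orderOf c ∣ (S : Subgroup G).index := orderOf_dvd_of_pow_eq_one h4
  obtain ⟨k, hk⟩ := IsPGroup.iff_orderOf.1 S.isPGroup' ⟨c, hc⟩
  rw [Subgroup.orderOf_mk] at hk
  rcases k with _ | k
  · rw [pow_zero, orderOf_eq_one_iff] at hk
    exact hk
  · exfalso
    apply S.not_dvd_index
    rw [hk] at h5
    exact (dvd_pow_self 2 (by omega)).trans h5

open scoped IsMulCommutative in
/-- If `E` has index 2 in `W = Ω₁(S)` then every involution of `S` is `N_G(S)`-conjugate into `E`. -/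
theorem exists_conj_mem_hyperplane (hG : ∀ H : Subgroup G, H.index ≠ 2) (S : Sylow 2 G)
    (hS : IsMulCommutative (S : Subgroup G)) (W E : Subgroup G) (hWS : W ≤ (S : Subgroup G))
    (hWN : Subgroup.normalizer ((S : Subgroup G) : Set G) ≤ Subgroup.normalizer (W : Set G))
    (hE : E.relIndex W = 2) {t : G} (ht : t ∈ W) :
    ∃ n ∈ Subgroup.normalizer ((S : Subgroup G) : Set G), n * t * n⁻¹ ∈ E := by
  classical
  by_contra hcon
  push Not at hcon
  set N := Subgroup.normalizer ((S : Subgroup G) : Set G) with hN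
  set S' := (S : Subgroup G).subgroupOf N with hS'
  haveI : IsMulCommutative W := ⟨⟨fun a b => by
    apply Subtype.ext
    exact congrArg (fun x : (S : Subgroup G) => (x : G))
      (hS.is_comm.comm ⟨a, hWS a.2⟩ ⟨b, hWS b.2⟩)⟩⟩
  haveI : Fintype (N ⧸ S') := Fintype.ofFinite _
  have hWconj : ∀ n ∈ N, ∀ w ∈ W, n * w * n⁻¹ ∈ W := fun n hn w hw =>
    (Subgroup.mem_normalizer_iff.1 (hWN hn) w).1 hw
  let F : N ⧸ S' → W := fun q => ⟨(q.out : G) * t * (q.out : G)⁻¹, hWconj _ q.out.2 _ ht⟩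
  let c : N → (W →* W) := fun m => MonoidHom.mk' (fun w => ⟨(m : G) * w * (m : G)⁻¹,
    hWconj _ m.2 _ w.2⟩) (fun a b => by
      apply Subtype.ext
      show (m : G) * ((a : G) * b) * (m : G)⁻¹ = (m : G) * a * (m : G)⁻¹ * ((m : G) * b * (m : G)⁻¹)
      group)
  have hF : ∀ (m : N) (q : N ⧸ S'), c m (F q) = F (m • q) := by
    intro m q
    apply Subtype.ext
    show (m : G) * ((q.out : G) * t * (q.out : G)⁻¹) * (m : G)⁻¹ =
      ((m • q).out : G) * t * ((m • q).out : G)⁻¹
    have h1 : ((m * q.out : N) : N ⧸ S') = ((m • q).out : N ⧸ S') := by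
      rw [QuotientGroup.out_eq', ← smul_eq_mul, MulAction.Quotient.coe_smul_out]
    rw [QuotientGroup.eq, Subgroup.mem_subgroupOf] at h1
    set s : G := (((m * q.out)⁻¹ * (m • q).out : N) : G) with hs
    have h2 : ((m • q).out : G) = (m : G) * q.out * s := by
      rw [hs]; simp [mul_assoc]
    have h3 : s * t = t * s :=
      congrArg (fun x : (S : Subgroup G) => (x : G)) (hS.is_comm.comm ⟨s, h1⟩ ⟨t, hWS ht⟩)
    rw [h2]
    have h4 : (m : G) * q.out * s * t * ((m : G) * q.out * s)⁻¹ =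
        (m : G) * q.out * (s * t * s⁻¹) * ((m : G) * q.out)⁻¹ := by group
    rw [h4, h3]
    group
  set ν : W := ∏ q : N ⧸ S', F q with hν
  have hinv : ∀ m : N, c m ν = ν := by
    intro m
    rw [hν, map_prod]
    simp only [hF]
    exact Equiv.prod_comp (MulAction.toPerm m) F
  have hν1 : (ν : G) = 1 := by
    apply eq_one_of_central_normalizer hG S (hWS ν.2)
    intro n hn
    exact congrArg (fun x : W => (x : G)) (hinv ⟨n, hn⟩)
  -- the homomorphism with kernel `E`
  obtain ⟨φ, hφ⟩ := S0111.exists_hom_of_index_two (E.subgroupOf W) hE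
  have hz2 : ∀ x : Multiplicative (ZMod 2), x ≠ 1 → x = Multiplicative.ofAdd 1 := by decide
  have hφF : ∀ q, φ (F q) = Multiplicative.ofAdd 1 := by
    intro q
    apply hz2
    intro hc
    exact hcon _ q.out.2 (Subgroup.mem_subgroupOf.1 ((hφ _).1 hc))
  have h1 : φ ν = 1 := by
    rw [show ν = 1 from Subtype.ext hν1, map_one]
  rw [hν, map_prod, Finset.prod_congr rfl (fun q _ => hφF q), Finset.prod_const,
    Finset.card_univ, ← Nat.card_eq_fintype_card] at h1
  have hodd : Odd (Nat.card (N ⧸ S')) := by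
    rw [← Nat.not_even_iff_odd, even_iff_two_dvd]
    intro h2
    apply S.not_dvd_index
    refine (show 2 ∣ S'.index from h2).trans ?_
    exact Subgroup.relIndex_dvd_index_of_le Subgroup.le_normalizer
  obtain ⟨k, hk⟩ := hodd
  rw [hk, pow_add, pow_mul] at h1
  have h3 : (Multiplicative.ofAdd (1 : ZMod 2)) ^ 2 = 1 := rfl
  rw [h3, one_pow, one_mul, pow_one] at h1
  exact absurd h1 (by decide)

end Cfsg.Agent.H21
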