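import Mathlib
import Cfsg.Agent.H17.SylowInter
import Cfsg.Agent.H17.Orbits
import Cfsg.Agent.S0742
import Cfsg.Agent.S0254

/-!
# Simple groups of order 360
-/

set_option autoImplicit false
set_option linter.style.haveILetI false
set_option linter.unusedSectionVars false

namespace Cfsg.Agent.H21.O360

open Subgroup MulAction

universe u

variable {G : Type u} [Group G] [Finite G] [IsSimpleGroup G]

theorem fact3 : Fact (Nat.Prime 3) := ⟨by norm_num⟩

attribute [local instance] fact3

theorem nc (h : Nat.card G = 360) : ¬ IsMulCommutative G := H17.not_comm_of_not_prime (by rw [h]; norm_num)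

theorem index_ge (h : Nat.card G = 360) {H : Subgroup G} (hH : H ≠ ⊤) : 6 ≤ H.index := by
  by_contra hcon
  push Not at hcon
  have h1 := H17.two_mul_card_dvd_factorial (nc h) H hH
  have h2 : H.index ≠ 0 := by
    intro hc
    have := Subgroup.card_mul_index H
    rw [hc, h] at this
    omega
  rw [h] at h1
  have h3 := Nat.le_of_dvd (Nat.factorial_pos _) h1
  have h4 : H.index.factorial ≤ (5 : ℕ).factorial := Nat.factorial_le (by omega)
  have h5 : (5 : ℕ).factorial = 120 := by decide
  omega

theorem cardP (h : Nat.card G = 360) (P : Sylow 3 G) : Nat.card (P : Subgroup G) = 9 :=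
  H17.card_sylow_eq P (k := 2) (m := 40) (by rw [h]; rfl) (by norm_num)

theorem indexP (h : Nat.card G = 360) (P : Sylow 3 G) : (P : Subgroup G).index = 40 :=
  H17.card_sylow_mul P (k := 2) (m := 40) (by rw [h]; rfl) (by norm_num)

theorem commP (h : Nat.card G = 360) (P : Sylow 3 G) : IsMulCommutative (P : Subgroup G) :=
  H17.isMulCommutative_of_card_prime_sq (p := 3) (by rw [cardP h P]; rfl)

/-- Distinct Sylow 3-subgroups meet trivially. -/
theorem inf_eq_bot (h : Nat.card G = 360) {P R : Sylow 3 G} (hPR : P ≠ R) :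
    (P : Subgroup G) ⊓ (R : Subgroup G) = ⊥ := by
  by_contra hD
  set D := (P : Subgroup G) ⊓ (R : Subgroup G) with hDdef
  set N := Subgroup.centralizer (D : Set G) with hN
  have hPN : (P : Subgroup G) ≤ N := by
    intro x hx
    rw [hN, mem_centralizer_iff]
    intro y hy
    have := commP h P
    exact congrArg Subtype.val (mul_comm' (⟨y, hy.1⟩ : (P : Subgroup G)) ⟨x, hx⟩)
  have hRN : (R : Subgroup G) ≤ N := by
    intro x hx
    rw [hN, mem_centralizer_iff]
    intro y hy
    have := commP h R
    exact congrArg Subtype.val (mul_comm' (⟨y, hy.2⟩ : (R : Subgroup G)) ⟨x, hx⟩)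
  have hNtop : N ≠ ⊤ := by
    intro hc
    apply hD
    rw [eq_bot_iff, ← H17.center_eq_bot (nc h)]
    intro x hx
    rw [mem_center_iff]
    intro g
    have : g ∈ N := hc ▸ mem_top g
    rw [hN, mem_centralizer_iff] at this
    exact (this x hx).symm
  have h1 := H17.one_lt_card_sylow_of_two hPR hPN hRN
  have h2 := H17.card_sylow_mul_index_dvd P hPN
  rw [indexP h P] at h2
  have h3 := index_ge h hNtop
  have h4 : Nat.card (Sylow 3 N) % 3 = 1 := H17.card_sylow_mod
  have h5 : Nat.card (Sylow 3 N) ∣ 40 := (Dvd.intro _ rfl).trans h2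
  have h6 : Nat.card (Sylow 3 N) = 4 ∧ N.index = 10 := by
    generalize Nat.card (Sylow 3 N) = n at *
    generalize N.index = m at *
    have h7 : n ∈ Nat.divisors 40 := Nat.mem_divisors.2 ⟨h5, by norm_num⟩
    rw [show Nat.divisors 40 = {1, 2, 4, 5, 8, 10, 20, 40} by decide +kernel] at h7
    simp only [Finset.mem_insert, Finset.mem_singleton] at h7
    rcases h7 with rfl | rfl | rfl | rfl | rfl | rfl | rfl | rfl
    · omega
    · omega
    · refine ⟨rfl, ?_⟩
      have h8 : m ∣ 10 := by
        have : 4 * m ∣ 4 * 10 := h2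
        exact Nat.dvd_of_mul_dvd_mul_left (by norm_num) this
      have h9 : m ∈ Nat.divisors 10 := Nat.mem_divisors.2 ⟨h8, by norm_num⟩
      rw [show Nat.divisors 10 = {1, 2, 5, 10} by decide +kernel] at h9
      simp only [Finset.mem_insert, Finset.mem_singleton] at h9
      omega
    · omega
    · omega
    · exfalso
      have := Nat.le_of_dvd (by norm_num) h2
      omega
    · omega
    · exfalso
      have := Nat.le_of_dvd (by norm_num) h2
      omega
  obtain ⟨hn4, hi10⟩ := h6
  have hcardN : Nat.card N = 36 := by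
    have := Subgroup.card_mul_index N
    rw [hi10, h] at this
    omega
  set PN : Sylow 3 N := P.subtype hPN with hPNdef
  have hcardPN : Nat.card (PN : Subgroup N) = 9 :=
    H17.card_sylow_eq PN (k := 2) (m := 4) (by rw [hcardN]; rfl) (by norm_num)
  have hnorm : Nat.card (Subgroup.normalizer ((PN : Subgroup N) : Set N)) = 9 := by
    have := H17.card_normalizer_mul PN
    rw [hn4, hcardN] at this
    omega
  have hPNc : IsMulCommutative (PN : Subgroup N) :=
    H17.isMulCommutative_of_card_prime_sq (p := 3) (by rw [hcardPN]; rfl)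
  have hnc : Subgroup.normalizer ((PN : Subgroup N) : Set N) ≤ Subgroup.centralizer ((PN : Subgroup N) : Set N) := by
    have h7 : (PN : Subgroup N) = Subgroup.normalizer ((PN : Subgroup N) : Set N) :=
      Subgroup.eq_of_le_of_card_ge Subgroup.le_normalizer (by rw [hnorm, hcardPN])
    rw [← h7]
    intro x hx
    rw [mem_centralizer_iff]
    intro y hy
    exact congrArg Subtype.val (mul_comm' (⟨y, hy⟩ : (PN : Subgroup N)) ⟨x, hx⟩)
  have hcomp := MonoidHom.ker_transferSylow_isComplement' PN hnc
  set V := (MonoidHom.transferSylow PN hnc).ker with hV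
  have hcardV : Nat.card V = 4 := by
    have h7 : Nat.card V * Nat.card (PN : Subgroup N) = Nat.card N := hcomp.card_mul_card
    rw [hcardPN, hcardN] at h7
    omega
  set V' : Subgroup G := V.map N.subtype with hV'
  have hcardV' : Nat.card V' = 4 := by
    rw [hV', Subgroup.card_map_of_injective N.subtype_injective, hcardV]
  have hV'N : V' ≤ N := Subgroup.map_subtype_le _
  have hNV : N ≤ Subgroup.normalizer (V' : Set G) := by
    rw [← Subgroup.normal_subgroupOf_iff_le_normalizer hV'N]
    have : V'.subgroupOf N = V := Subgroup.comap_map_eq_self_of_injective N.subtype_injective V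
    rw [this]
    infer_instance
  haveI : Fact (Nat.Prime 2) := ⟨Nat.prime_two⟩
  have hV'p : IsPGroup 2 V' := IsPGroup.of_card (n := 2) (by rw [hcardV']; rfl)
  obtain ⟨T, hT⟩ := hV'p.exists_le_sylow
  have hcardT : Nat.card (T : Subgroup G) = 8 :=
    H17.card_sylow_eq T (k := 3) (m := 45) (by rw [h]; rfl) (by norm_num)
  have hTV : (T : Subgroup G) ≤ Subgroup.normalizer (V' : Set G) := by
    rw [← Subgroup.normal_subgroupOf_iff_le_normalizer hT]
    apply Subgroup.normal_of_index_eq_two
    have := H17.relIndex_mul_card_of_le hT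
    rw [hcardV', hcardT] at this
    have h8 : V'.relIndex (T : Subgroup G) = 2 := by omega
    exact h8
  have h7 : 36 ∣ Nat.card (Subgroup.normalizer (V' : Set G)) := by
    rw [← hcardN]; exact Subgroup.card_dvd_of_le hNV
  have h8 : 8 ∣ Nat.card (Subgroup.normalizer (V' : Set G)) := by
    rw [← hcardT]; exact Subgroup.card_dvd_of_le hTV
  have h9 := Subgroup.card_mul_index (Subgroup.normalizer (V' : Set G))
  rw [h] at h9
  have h10 : (Subgroup.normalizer (V' : Set G)) ≠ ⊤ := by
    intro hc
    have h11 : V'.Normal := Subgroup.normalizer_eq_top_iff.1 hc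
    rcases h11.eq_bot_or_eq_top with h12 | h12
    · rw [h12, Subgroup.card_bot] at hcardV'; omega
    · rw [h12, Subgroup.card_top, h] at hcardV'; omega
  have h11 := index_ge h h10
  have h12 : 72 ∣ Nat.card (Subgroup.normalizer (V' : Set G)) := by
    generalize Nat.card (Subgroup.normalizer (V' : Set G)) = n at *
    omega
  obtain ⟨k, hk⟩ := h12
  rw [hk] at h9
  have h13 : k ≠ 0 := by rintro rfl; omega
  nlinarith [Nat.pos_of_ne_zero h13]

theorem card_syl (h : Nat.card G = 360) : Nat.card (Sylow 3 G) = 10 := by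
  obtain ⟨P⟩ : Nonempty (Sylow 3 G) := inferInstance
  have h1 : Nat.card (Sylow 3 G) ≡ 1 [MOD 3 ^ 2] := by
    apply H17.card_sylow_modEq_of_large_index P
    intro R hR
    have h2 : (R : Subgroup G).subgroupOf (P : Subgroup G) = ⊥ := by
      rw [Subgroup.subgroupOf_eq_bot, disjoint_iff]
      exact inf_eq_bot h hR
    rw [h2, Subgroup.index_bot, cardP h P]
    norm_num
  have h2 := H17.card_sylow_mem (p := 3) (G := G) (k := 2) (m := 40) (by rw [h]; rfl) (by norm_num)
  have h3 : Nat.card (Sylow 3 G) ≠ 1 := H17.card_sylow_ne_one (nc h) (by rw [h]; norm_num)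
  rw [Finset.mem_filter] at h2
  have h4 := h2.1
  rw [show Nat.divisors 40 = {1, 2, 4, 5, 8, 10, 20, 40} by decide +kernel] at h4
  simp only [Finset.mem_insert, Finset.mem_singleton] at h4
  have h5 : Nat.card (Sylow 3 G) % 9 = 1 := h1
  omega

theorem smul_eq_self_of_mem {P : Sylow 3 G} {u : G} (hu : u ∈ (P : Subgroup G)) : u • P = P :=
  Sylow.smul_eq_iff_mem_normalizer.2 (Subgroup.le_normalizer hu)

/-- Elements of `P` fixing another Sylow 3-subgroup are trivial. -/
theorem eq_one_of_fix (h : Nat.card G = 360) {P Q : Sylow 3 G} (hPQ : P ≠ Q) {u : G}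
    (hu : u ∈ (P : Subgroup G)) (hfix : u • Q = Q) : u = 1 := by
  have h1 : (⟨u, hu⟩ : (P : Subgroup G)) ∈ MulAction.stabilizer (P : Subgroup G) Q := by
    rw [mem_stabilizer_iff]; exact hfix
  rw [H17.stabilizer_sylow_eq, Subgroup.mem_subgroupOf] at h1
  have h2 : u ∈ (P : Subgroup G) ⊓ (Q : Subgroup G) := ⟨hu, h1⟩
  rw [inf_eq_bot h hPQ, mem_bot] at h2
  exact h2

/-- `P` is regular on the other Sylow 3-subgroups. -/
theorem exists_smul (h : Nat.card G = 360) {P Q R : Sylow 3 G} (hQ : Q ≠ P) (hR : R ≠ P) :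
    ∃ u ∈ (P : Subgroup G), u • Q = R := by
  classical
  haveI : Fintype (Sylow 3 G) := Fintype.ofFinite _
  have hf : Function.Injective (fun u : (P : Subgroup G) =>
      (⟨(u : G) • Q, fun hc => hQ (by
        have h1 := congrArg (fun X => (u : G)⁻¹ • X) hc
        simp only [inv_smul_smul] at h1
        rw [h1]
        exact smul_eq_self_of_mem (inv_mem u.2))⟩ : {X : Sylow 3 G // X ≠ P})) := by
    intro u v huv
    have h1 : (u : G) • Q = (v : G) • Q := congrArg Subtype.val huv
    have h2 : ((v : G)⁻¹ * u) • Q = Q := by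
      rw [mul_smul, h1, inv_smul_smul]
    have h3 := eq_one_of_fix h (Ne.symm hQ) (mul_mem (inv_mem v.2) u.2) h2
    exact Subtype.ext (inv_mul_eq_one.1 h3).symm
  have hcard : Nat.card (P : Subgroup G) = Nat.card {X : Sylow 3 G // X ≠ P} := by
    have h1 : Nat.card {X : Sylow 3 G // X ≠ P} = 9 := by
      have h2 := card_syl h
      rw [Nat.card_eq_fintype_card] at h2 ⊢
      rw [Fintype.card_subtype_compl, h2, Fintype.card_subtype_eq]
    rw [cardP h P, h1]
  obtain ⟨u, hu⟩ := ((Nat.bijective_iff_injective_and_card _).2 ⟨hf, hcard⟩).2 ⟨R, hR⟩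
  exact ⟨u, u.2, congrArg Subtype.val hu⟩

theorem two_trans (h : Nat.card G = 360) : IsMultiplyPretransitive G (Sylow 3 G) 2 := by
  rw [is_two_pretransitive_iff]
  intro a b c d hab hcd
  obtain ⟨g, hg⟩ := MulAction.exists_smul_eq G a c
  have h1 : g • b ≠ c := by
    intro hc
    exact hab (MulAction.injective g (hg.trans hc.symm))
  obtain ⟨u, hu, hub⟩ := exists_smul h h1 (Ne.symm hcd)
  refine ⟨u * g, ?_, ?_⟩
  · rw [mul_smul, hg, smul_eq_self_of_mem hu]
  · rw [mul_smul, hub]

theorem faithful (h : Nat.card G = 360) : Function.Injective (MulAction.toPermHom G (Sylow 3 G)) := by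
  rw [← MonoidHom.ker_eq_bot_iff]
  rcases (inferInstance : (MulAction.toPermHom G (Sylow 3 G)).ker.Normal).eq_bot_or_eq_top with h1 | h1
  · exact h1
  · exfalso
    obtain ⟨P⟩ : Nonempty (Sylow 3 G) := inferInstance
    have h2 : ∀ R : Sylow 3 G, R = P := by
      intro R
      obtain ⟨g, hg⟩ := MulAction.exists_smul_eq G P R
      have h3 : g ∈ (MulAction.toPermHom G (Sylow 3 G)).ker := h1 ▸ mem_top g
      rw [MonoidHom.mem_ker] at h3
      have h4 := congrArg (fun σ : Equiv.Perm (Sylow 3 G) => σ P) h3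
      have h5 : g • P = P := h4
      rw [← hg, h5]
    haveI : Subsingleton (Sylow 3 G) := ⟨fun a b => (h2 a).trans (h2 b).symm⟩
    have h3 := card_syl h
    rw [Nat.card_eq_one_iff_unique.2 ⟨inferInstance, ⟨P⟩⟩] at h3
    omega

theorem eq_one_of_all (h : Nat.card G = 360) {g : G} (hg : ∀ R : Sylow 3 G, g • R = R) : g = 1 := by
  apply faithful h
  rw [map_one]
  ext1 R
  exact hg R

/-- The involutions fixing two Sylow 3-subgroups fix no others. -/
theorem invol_fix (h : Nat.card G = 360) {t : G} (ht : orderOf t = 2) {P Q : Sylow 3 G} (hPQ : P ≠ Q)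
    (htP : t • P = P) (htQ : t • Q = Q) {u : G} (hu : u ∈ (P : Subgroup G)) (hfix : t • (u • Q) = u • Q) :
    u = 1 := by
  classical
  haveI : Fintype (Sylow 3 G) := Fintype.ofFinite _
  have ht1 : t ≠ 1 := by rintro rfl; rw [orderOf_one] at ht; omega
  have htn : t ∈ Subgroup.normalizer ((P : Subgroup G) : Set G) := Sylow.smul_eq_iff_mem_normalizer.1 htP
  have key : ∀ v ∈ (P : Subgroup G), (t • (v • Q) = v • Q ↔ t * v * t⁻¹ = v) := by
    intro v hv
    have h1 : t * v * t⁻¹ ∈ (P : Subgroup G) := (Subgroup.mem_normalizer_iff.1 htn v).1 hv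
    have h2 : t • (v • Q) = (t * v * t⁻¹) • Q := by
      rw [mul_smul, mul_smul]
      have : t⁻¹ • Q = Q := by rw [inv_smul_eq_iff, htQ]
      rw [this]
    rw [h2]
    constructor
    · intro h3
      have h4 : (v⁻¹ * (t * v * t⁻¹)) • Q = Q := by rw [mul_smul, h3, inv_smul_smul]
      have h5 := eq_one_of_fix h hPQ (mul_mem (inv_mem hv) h1) h4
      exact (inv_mul_eq_one.1 h5).symm
    · intro h3; rw [h3]
  -- the centralizer of `t` in `P`
  set C : Subgroup G := (P : Subgroup G) ⊓ Subgroup.centralizer ({t} : Set G) with hC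
  have hCmem : ∀ v, v ∈ C ↔ v ∈ (P : Subgroup G) ∧ t * v * t⁻¹ = v := by
    intro v
    rw [hC, Subgroup.mem_inf, mem_centralizer_singleton_iff, mul_inv_eq_iff_eq_mul, eq_comm (a := t * v)]
  -- fixed points
  have e : Option C ≃ Function.fixedPoints (MulAction.toPerm t : Equiv.Perm (Sylow 3 G)) := by
    refine Equiv.ofBijective (fun o => match o with
      | none => ⟨P, htP⟩
      | some v => ⟨(v : G) • Q, (key v ((hCmem v).1 v.2).1).2 ((hCmem v).1 v.2).2⟩) ⟨?_, ?_⟩
    · have hne : ∀ v : C, P ≠ (v : G) • Q := by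
        intro v hv
        apply hPQ
        have h1 := congrArg (fun X => (v : G)⁻¹ • X) hv
        simp only [inv_smul_smul] at h1
        rw [← h1]
        exact (smul_eq_self_of_mem (inv_mem ((hCmem v).1 v.2).1)).symm
      intro a b hab
      cases a with
      | none =>
        cases b with
        | none => rfl
        | some w => exact absurd (congrArg Subtype.val hab) (hne w)
      | some v =>
        cases b with
        | none => exact absurd (congrArg Subtype.val hab).symm (hne v)
        | some w =>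
          have h1 : (v : G) • Q = (w : G) • Q := congrArg Subtype.val hab
          have h2 : ((w : G)⁻¹ * v) • Q = Q := by rw [mul_smul, h1, inv_smul_smul]
          have h3 := eq_one_of_fix h hPQ (mul_mem (inv_mem ((hCmem w).1 w.2).1) ((hCmem v).1 v.2).1) h2
          rw [show v = w from Subtype.ext (inv_mul_eq_one.1 h3).symm]
    · rintro ⟨R, hR⟩
      by_cases hRP : R = P
      · exact ⟨none, Subtype.ext hRP.symm⟩
      · obtain ⟨v, hv, hvR⟩ := exists_smul h (Ne.symm hPQ) hRP
        have h1 : t • (v • Q) = v • Q := by rw [hvR]; exact hR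
        exact ⟨some ⟨v, (hCmem v).2 ⟨hv, (key v hv).1 h1⟩⟩, Subtype.ext hvR⟩
  have hcardC : Nat.card C = 1 ∨ Nat.card C = 3 ∨ Nat.card C = 9 := by
    have h1 : Nat.card C ∣ 9 := by rw [← cardP h P]; exact Subgroup.card_dvd_of_le inf_le_left
    have h2 : Nat.card C ∈ Nat.divisors 9 := Nat.mem_divisors.2 ⟨h1, by norm_num⟩
    rw [show Nat.divisors 9 = {1, 3, 9} by decide +kernel] at h2
    simpa using h2
  have hfixcard : Fintype.card (Function.fixedPoints (MulAction.toPerm t : Equiv.Perm (Sylow 3 G))) = Nat.card C + 1 := by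
    rw [← Nat.card_eq_fintype_card, ← Nat.card_congr e, Finite.card_option]
  set σ : Equiv.Perm (Sylow 3 G) := MulAction.toPermHom G (Sylow 3 G) t with hσ
  have hσord : orderOf σ = 2 := by rw [hσ, orderOf_injective _ (faithful h), ht]
  obtain ⟨n, hn⟩ := Equiv.Perm.cycleType_prime_order (σ := σ) (by rw [hσord]; norm_num)
  have hsign := Equiv.Perm.sign_of_cycleType_eq_replicate (σ := σ) (n := 2) (by norm_num) (by
    rw [hn, hσord, Multiset.card_replicate])
  have hsign1 : Equiv.Perm.sign σ = 1 :=
    H17.sign_eq_one_of_perfect (H17.commutator_eq_top (nc h)) (MulAction.toPermHom G (Sylow 3 G)) t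
  have hcard10 : Fintype.card (Sylow 3 G) = 10 := by rw [← Nat.card_eq_fintype_card, card_syl h]
  have hfc : Fintype.card (Function.fixedPoints σ) = Nat.card C + 1 := hfixcard
  rw [hsign1, hfc, hcard10] at hsign
  have huC : u ∈ C := (hCmem u).2 ⟨hu, (key u hu).1 hfix⟩
  rcases hcardC with h1 | h1 | h1
  · rw [Subgroup.card_eq_one.1 h1, mem_bot] at huC
    exact huC
  · exfalso
    rw [h1] at hsign
    revert hsign
    decide
  · exfalso
    apply ht1
    apply eq_one_of_all h
    intro R
    by_cases hRP : R = P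
    · rw [hRP, htP]
    · obtain ⟨v, hv, hvR⟩ := exists_smul h (Ne.symm hPQ) hRP
      have h2 : C = (P : Subgroup G) := Subgroup.eq_of_le_of_card_ge inf_le_left (by rw [h1, cardP h P])
      rw [← h2] at hv
      rw [← hvR]
      exact (key v ((hCmem v).1 hv).1).2 ((hCmem v).1 hv).2

theorem card_stab (h : Nat.card G = 360) (P : Sylow 3 G) : Nat.card (MulAction.stabilizer G P) = 36 := by
  have h1 := MulAction.index_stabilizer G P
  have h2 : (MulAction.orbit G P).ncard = 10 := by
    rw [MulAction.orbit_eq_univ, Set.ncard_univ, card_syl h]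
  have h3 := Subgroup.card_mul_index (MulAction.stabilizer G P)
  rw [h1, h2, h] at h3
  omega

theorem card_stab2 (h : Nat.card G = 360) {P Q : Sylow 3 G} (hPQ : P ≠ Q) :
    Nat.card (MulAction.stabilizer G P ⊓ MulAction.stabilizer G Q : Subgroup G) = 4 := by
  have h1 : MulAction.stabilizer G P ⊓ MulAction.stabilizer G Q ≤ MulAction.stabilizer G P := inf_le_left
  have h2 : Subgroup.IsComplement' ((P : Subgroup G).subgroupOf (MulAction.stabilizer G P))
      ((MulAction.stabilizer G Q).subgroupOf (MulAction.stabilizer G P)) := by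
    apply Subgroup.isComplement'_of_disjoint_and_mul_eq_univ
    · rw [disjoint_def]
      intro x hx hx'
      rw [Subgroup.mem_subgroupOf] at hx hx'
      exact Subtype.ext (eq_one_of_fix h hPQ hx hx')
    · rw [Set.eq_univ_iff_forall]
      intro g
      have hg : (g : G) • P = P := g.2
      have h3 : (g : G) • Q ≠ P := by
        intro hc
        exact hPQ (MulAction.injective (g : G) (hg.trans hc.symm))
      obtain ⟨u, hu, hug⟩ := exists_smul h (Ne.symm hPQ) h3
      have huS : u ∈ MulAction.stabilizer G P := smul_eq_self_of_mem hu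
      refine ⟨⟨u, huS⟩, hu, (⟨u, huS⟩ : MulAction.stabilizer G P)⁻¹ * g, ?_, by group⟩
      rw [SetLike.mem_coe, Subgroup.mem_subgroupOf]
      show (u⁻¹ * (g : G)) • Q = Q
      rw [mul_smul, ← hug, inv_smul_smul]
  have h3 := h2.card_mul_card
  have hPle : (P : Subgroup G) ≤ MulAction.stabilizer G P := fun x hx => smul_eq_self_of_mem hx
  rw [Nat.card_congr (Subgroup.subgroupOfEquivOfLe hPle).toEquiv, cardP h P, card_stab h P] at h3
  have h4 : Nat.card ((MulAction.stabilizer G Q).subgroupOf (MulAction.stabilizer G P)) = 4 := by omega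
  rw [← h4, ← Subgroup.inf_subgroupOf_left]
  exact (Nat.card_congr (Subgroup.subgroupOfEquivOfLe h1).toEquiv).symm

theorem zass (h : Nat.card G = 360) : Cfsg.IsZassenhausGroup G (Sylow 3 G) := by
  obtain ⟨P⟩ : Nonempty (Sylow 3 G) := inferInstance
  obtain ⟨Q, hQ⟩ : ∃ Q : Sylow 3 G, P ≠ Q := by
    by_contra hcon
    push Not at hcon
    have h3 := card_syl h
    rw [Nat.card_eq_one_iff_unique.2 ⟨⟨fun a b => (hcon a).symm.trans (hcon b)⟩, ⟨P⟩⟩] at h3
    omega
  refine ⟨⟨fun hg => faithful h (Equiv.ext hg)⟩, two_trans h, ?_, ?_, ?_⟩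
  · intro g a b c hab hbc hac ha hb hc
    by_contra hg1
    -- an involution in the cyclic group
    have hg : g ∈ MulAction.stabilizer G a ⊓ MulAction.stabilizer G b := ⟨ha, hb⟩
    have h4 : orderOf g ∣ 4 := by
      rw [← card_stab2 h hab, ← Nat.card_zpowers]
      exact Subgroup.card_dvd_of_le (zpowers_le.2 hg)
    obtain ⟨k, hk⟩ : ∃ k : ℕ, orderOf (g ^ k) = 2 := by
      have h5 : orderOf g ∈ Nat.divisors 4 := Nat.mem_divisors.2 ⟨h4, by norm_num⟩
      rw [show Nat.divisors 4 = {1, 2, 4} by decide +kernel] at h5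
      simp only [Finset.mem_insert, Finset.mem_singleton] at h5
      rcases h5 with h5 | h5 | h5
      · exact absurd (orderOf_eq_one_iff.1 h5) hg1
      · exact ⟨1, by rw [pow_one, h5]⟩
      · exact ⟨2, by rw [orderOf_pow, h5]; norm_num⟩
    have hfa : g ^ k • a = a := pow_mem (show g ∈ MulAction.stabilizer G a from ha) k
    have hfb : g ^ k • b = b := pow_mem (show g ∈ MulAction.stabilizer G b from hb) k
    have hfc : g ^ k • c = c := pow_mem (show g ∈ MulAction.stabilizer G c from hc) k
    obtain ⟨u, hu, hub⟩ := exists_smul h (Ne.symm hab) (Ne.symm hac)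
    have := invol_fix h hk hab hfa hfb hu (by rw [hub, hfc])
    rw [this, one_smul] at hub
    exact hbc hub
  · have h4 := card_stab2 h hQ
    obtain ⟨g, hg, hg1⟩ : ∃ g ∈ MulAction.stabilizer G P ⊓ MulAction.stabilizer G Q, g ≠ 1 := by
      by_contra hcon
      push Not at hcon
      have : MulAction.stabilizer G P ⊓ MulAction.stabilizer G Q = ⊥ := (eq_bot_iff).2 (fun w hw => hcon w hw)
      rw [this, Subgroup.card_bot] at h4
      omega
    exact ⟨g, hg1, P, Q, hQ, hg.1, hg.2⟩
  · intro N hN htr
    refine ⟨P, ?_⟩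
    intro hbot
    rcases hN.eq_bot_or_eq_top with h1 | h1
    · subst h1
      obtain ⟨g, hg⟩ := htr.exists_smul_eq P Q
      have : g = 1 := Subsingleton.elim _ _
      rw [this, one_smul] at hg
      exact hQ hg
    · subst h1
      have h2 : ∀ g : G, g • P = P → g = 1 := by
        intro g hg
        have : (⟨g, mem_top g⟩ : (⊤ : Subgroup G)) ∈ MulAction.stabilizer (⊤ : Subgroup G) P := hg
        rw [hbot, mem_bot] at this
        exact congrArg Subtype.val this
      have h3 := cardP h P
      have h4 : (P : Subgroup G) = ⊥ := (eq_bot_iff).2 (fun w hw => h2 w (smul_eq_self_of_mem hw))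
      rw [h4, Subgroup.card_bot] at h3
      omega

/-- A simple group of order 360 is `PSL₂(9)`, hence `A₆`. -/
theorem main (h : Nat.card G = 360) : Nonempty (G ≃* alternatingGroup (Fin 6)) := by
  haveI : Fintype (Sylow 3 G) := Fintype.ofFinite _
  obtain ⟨P⟩ : Nonempty (Sylow 3 G) := inferInstance
  obtain ⟨Q, hQ⟩ : ∃ Q : Sylow 3 G, P ≠ Q := by
    by_contra hcon
    push Not at hcon
    have h3 := card_syl h
    rw [Nat.card_eq_one_iff_unique.2 ⟨⟨fun a b => (hcon a).symm.trans (hcon b)⟩, ⟨P⟩⟩] at h3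
    omega
  have hcard10 : Fintype.card (Sylow 3 G) = 10 := by rw [← Nat.card_eq_fintype_card, card_syl h]
  obtain ⟨p, f, K, iK, iF, hp, hp2, hK, hΩ, ⟨e⟩⟩ := S0742.result (zass h) hQ
    (by rw [card_stab2 h hQ]; decide) (by rw [card_stab2 h hQ, hcard10])
  have hK9 : Fintype.card K = 9 := by rw [hK]; omega
  obtain ⟨e2⟩ := S0254.result (F := K) hK9
  exact ⟨e.trans e2⟩

end Cfsg.Agent.H21.O360
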