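import Mathlib

/-! Elementary abelian 2-groups with an endomorphism `R`, `1 + R + R² = 0`, as vector spaces over the field with four
elements. -/

set_option autoImplicit false

namespace Cfsg.Agent.H21.Four

variable {F : Type*} [Field F] [Finite F]

theorem two_zero (hF : Nat.card F = 4) : (2 : F) = 0 := by
  classical
  let _ := Fintype.ofFinite F
  have h1 : ((Fintype.card F : ℕ) : F) = 0 := FiniteField.cast_card_eq_zero F
  rw [← Nat.card_eq_fintype_card, hF] at h1
  have h2 : (2 : F) * 2 = 0 := by
    have : ((4 : ℕ) : F) = 2 * 2 := by norm_num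
    rw [← this, h1]
  exact mul_self_eq_zero.1 h2

theorem charp (hF : Nat.card F = 4) : CharP F 2 :=
  CharTwo.of_one_ne_zero_of_two_eq_zero one_ne_zero (two_zero hF)

theorem pow4 (hF : Nat.card F = 4) (a : F) : a ^ 4 = a := by
  classical
  let _ := Fintype.ofFinite F
  have := FiniteField.pow_card a
  rwa [← Nat.card_eq_fintype_card, hF] at this

theorem exists_lam (hF : Nat.card F = 4) : ∃ lam : F, lam * lam = lam + 1 := by
  classical
  have h2 := two_zero hF
  let _ := Fintype.ofFinite F
  obtain ⟨a, ha0, ha1⟩ : ∃ a : F, a ≠ 0 ∧ a ≠ 1 := by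
    by_contra hcon
    push Not at hcon
    have h1 : Nat.card F ≤ 2 := by
      have h2 : Function.Surjective (fun b : Bool => if b then (1 : F) else 0) := by
        intro t
        by_cases ht : t = 0
        · exact ⟨false, by simp [ht]⟩
        · exact ⟨true, by simp [hcon t ht]⟩
      have h3 := Nat.card_le_card_of_surjective _ h2
      simpa using h3
    omega
  have h4 := pow4 hF a
  have h5 : a * (a - 1) * (a * a + a + 1) = 0 := by
    have : a * (a - 1) * (a * a + a + 1) = a ^ 4 - a := by ring
    rw [this, h4, sub_self]
  have h6 := (mul_eq_zero.1 h5).resolve_left (mul_ne_zero ha0 (sub_ne_zero.2 ha1))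
  refine ⟨a, ?_⟩
  linear_combination h6 - (a + 1) * h2

theorem lam_ne_zero {lam : F} (hl : lam * lam = lam + 1) : lam ≠ 0 := by
  rintro rfl
  simp at hl

theorem lam_ne_one (hF : Nat.card F = 4) {lam : F} (hl : lam * lam = lam + 1) : lam ≠ 1 := by
  rintro rfl
  have h2 := two_zero hF
  rw [mul_one] at hl
  have : (1 : F) = 0 := by linear_combination hl + h2
  exact one_ne_zero this

theorem four_cases (hF : Nat.card F = 4) {lam : F} (hl : lam * lam = lam + 1) (a : F) :
    a = 0 ∨ a = 1 ∨ a = lam ∨ a = lam * lam := by
  have h2 := two_zero hF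
  have h4 := pow4 hF a
  have h5 : a * (a - 1) * ((a - lam) * (a - lam * lam)) = 0 := by
    have e1 : a * (a - 1) * ((a - lam) * (a - lam * lam)) = a * (a - 1) * (a * a + a + 1) := by
      have : (a - lam) * (a - lam * lam) = a * a + a + 1 := by
        have e2 : (a - lam) * (a - lam * lam) = a * a - (lam + lam * lam) * a + lam * (lam * lam) := by ring
        rw [e2, hl]
        have e3 : lam * (lam + 1) = 1 + 2 * lam := by
          have : lam * (lam + 1) = lam * lam + lam := by ring
          rw [this, hl]; ring
        rw [e3, h2]
        have e4 : lam + (lam + 1) = 1 + 2 * lam := by ring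
        rw [e4, h2]
        linear_combination (-a) * h2
      rw [this]
    rw [e1]
    have : a * (a - 1) * (a * a + a + 1) = a ^ 4 - a := by ring
    rw [this, h4, sub_self]
  rcases mul_eq_zero.1 h5 with h | h
  · rcases mul_eq_zero.1 h with h | h
    · exact Or.inl h
    · exact Or.inr (Or.inl (sub_eq_zero.1 h))
  · rcases mul_eq_zero.1 h with h | h
    · exact Or.inr (Or.inr (Or.inl (sub_eq_zero.1 h)))
    · exact Or.inr (Or.inr (Or.inr (sub_eq_zero.1 h)))

/-- module structure -/
theorem coord (hF : Nat.card F = 4) {lam : F} (hl : lam * lam = lam + 1) {W : Type*} [AddCommGroup W] [Finite W]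
    (R : W →+ W) (hR : ∀ w, R (R w) = R w + w) (h2 : ∀ w : W, w + w = 0) {d : ℕ} (hW : Nat.card W = 4 ^ d) :
    ∃ e : W ≃+ (Fin d → F), ∀ w i, e (R w) i = lam * e w i := by
  classical
  have t2 := two_zero hF
  have hl0 := lam_ne_zero hl
  have hl1 := lam_ne_one hF hl
  have hll0 : lam * lam ≠ 0 := mul_ne_zero hl0 hl0
  have hll1 : lam * lam ≠ 1 := by
    rw [hl]
    intro h
    exact hl0 (by linear_combination h)
  have hlll : lam * lam ≠ lam := by
    rw [hl]
    intro h
    exact one_ne_zero (α := F) (by linear_combination h)
  have hcs := four_cases hF hl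
  let f : F → W → W := fun a w => if a = 0 then 0 else if a = 1 then w else if a = lam then R w else R (R w)
  have f0 : ∀ w, f 0 w = 0 := fun w => if_pos rfl
  have f1 : ∀ w, f 1 w = w := fun w => by
    show (if (1 : F) = 0 then 0 else if (1 : F) = 1 then w else _) = w
    rw [if_neg one_ne_zero, if_pos rfl]
  have fl : ∀ w, f lam w = R w := fun w => by
    show (if lam = 0 then 0 else if lam = 1 then w else if lam = lam then R w else _) = R w
    rw [if_neg hl0, if_neg hl1, if_pos rfl]
  have fll : ∀ w, f (lam * lam) w = R w + w := fun w => by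
    show (if lam * lam = 0 then 0 else if lam * lam = 1 then w else if lam * lam = lam then R w else R (R w)) = R w + w
    rw [if_neg hll0, if_neg hll1, if_neg hlll, hR]
  have s1 : (1 : F) + 1 = 0 := by linear_combination t2
  have s2 : (1 : F) + lam = lam * lam := by rw [hl]; ring
  have s3 : (1 : F) + lam * lam = lam := by rw [hl]; linear_combination t2
  have s4 : lam + 1 = lam * lam := hl.symm
  have s5 : lam + lam = 0 := by linear_combination lam * t2
  have s6 : lam + lam * lam = 1 := by rw [hl]; linear_combination lam * t2
  have s7 : lam * lam + 1 = lam := by rw [hl]; linear_combination t2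
  have s8 : lam * lam + lam = 1 := by rw [hl]; linear_combination lam * t2
  have s9 : lam * lam + lam * lam = 0 := by linear_combination lam * lam * t2
  have p1 : lam * (lam * lam) = 1 := by
    rw [hl]
    have : lam * (lam + 1) = lam * lam + lam := by ring
    rw [this, s8]
  have p2 : lam * lam * lam = 1 := by rw [mul_assoc, p1]
  have p3 : lam * lam * (lam * lam) = lam := by rw [mul_assoc, p1, mul_one]
  have hneg : ∀ w : W, -w = w := fun w => neg_eq_of_add_eq_zero_left (h2 w)
  let _ : Module F W :=
    { smul := f
      one_smul := f1
      mul_smul := by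
        intro a b w
        show f (a * b) w = f a (f b w)
        rcases hcs a with rfl | rfl | rfl | rfl
        · rw [zero_mul, f0, f0]
        · rw [one_mul, f1]
        · rcases hcs b with rfl | rfl | rfl | rfl
          · rw [mul_zero, f0, fl, map_zero]
          · rw [mul_one, f1]
          · rw [fll, fl, fl, hR]
          · rw [p1, f1, fll, fl, map_add, hR, add_right_comm, h2, zero_add]
        · rcases hcs b with rfl | rfl | rfl | rfl
          · rw [mul_zero, f0, fll, map_zero, add_zero]
          · rw [mul_one, f1]
          · rw [p2, f1, fl, fll, hR, add_right_comm, h2, zero_add]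
          · rw [p3, fll, fl, fll, map_add, hR]
            have : R w + w + R w + (R w + w) = R w + (R w + R w) + (w + w) := by abel
            rw [this, h2, h2, add_zero, add_zero]
      smul_zero := by
        intro a
        show f a 0 = 0
        rcases hcs a with rfl | rfl | rfl | rfl
        · exact f0 0
        · exact f1 0
        · rw [fl, map_zero]
        · rw [fll, map_zero, add_zero]
      smul_add := by
        intro a v w
        show f a (v + w) = f a v + f a w
        rcases hcs a with rfl | rfl | rfl | rfl
        · rw [f0, f0, f0, add_zero]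
        · rw [f1, f1, f1]
        · rw [fl, fl, fl, map_add]
        · rw [fll, fll, fll, map_add]; abel
      add_smul := by
        intro a b w
        show f (a + b) w = f a w + f b w
        rcases hcs a with rfl | rfl | rfl | rfl
        · rw [zero_add, f0, zero_add]
        · rcases hcs b with rfl | rfl | rfl | rfl
          · rw [add_zero, f0, add_zero]
          · rw [s1, f0, f1, h2]
          · rw [s2, fll, f1, fl, add_comm]
          · rw [s3, fl, f1, fll]
            have : w + (R w + w) = R w + (w + w) := by abel
            rw [this, h2, add_zero]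
        · rcases hcs b with rfl | rfl | rfl | rfl
          · rw [add_zero, f0, add_zero]
          · rw [s4, fll, f1, fl]
          · rw [s5, f0, fl, h2]
          · rw [s6, f1, fl, fll, ← add_assoc, h2, zero_add]
        · rcases hcs b with rfl | rfl | rfl | rfl
          · rw [add_zero, f0, add_zero]
          · rw [s7, fl, f1, fll, add_assoc, h2, add_zero]
          · rw [s8, f1, fl, fll, add_right_comm, h2, zero_add]
          · rw [s9, f0, fll, h2]
      zero_smul := f0 }
  have hfr : Module.finrank F W = d := by
    have h1 := Module.natCard_eq_pow_finrank (K := F) (V := W)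
    rw [hW, hF] at h1
    exact (Nat.pow_right_injective (le_refl 2 |>.trans (by norm_num)) h1).symm
  let e : W ≃ₗ[F] (Fin d → F) := LinearEquiv.ofFinrankEq _ _ (by rw [hfr, Module.finrank_fin_fun])
  refine ⟨e.toAddEquiv, fun w i => ?_⟩
  have h1 : R w = lam • w := (fl w).symm
  show e (R w) i = lam * e w i
  rw [h1, map_smul]; rfl

end Cfsg.Agent.H21.Four
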