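import Cfsg.Agent.H21.SI1

/-! Equivariant biadditive maps and homocyclic groups. -/

set_option autoImplicit false

namespace Cfsg.Agent.H21.SI

universe u v

/-- Equivariant biadditive maps `F × F → F` are `c √(x y)`. -/
theorem ev_field {F : Type v} [Field F] [Finite F] [CharP F 2] {lam : F} (hl : Gen lam) (f : F →+ F →+ F)
    (h : ∀ x y, f (lam * x) (lam * y) = lam * f x y) : ∃ c, ∀ x y, f x y * f x y = c * (x * y) := by
  classical
  have : Fintype (F ≃+* F) := by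
    have := Suz2.finite_aut F
    exact Fintype.ofFinite _
  obtain ⟨c, hc⟩ := Suz2.biadd_expand f
  have hsq : ∀ s : F, ∃ t, t * t = s := by
    intro s
    have hinj : Function.Injective (fun y : F => y ^ 2) := fun y z hyz => CharTwo.sq_injective hyz
    obtain ⟨t, ht⟩ := Finite.surjective_of_injective hinj s
    exact ⟨t, by rw [← pow_two]; exact ht⟩
  choose r hr using hsq
  have hinj2 : ∀ a b : F, a * a = b * b → a = b := by
    intro a b hab
    apply CharTwo.sq_injective (R := F)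
    simpa [pow_two] using hab
  -- support
  have hsup : ∀ σ τ : F ≃+* F, c (σ, τ) ≠ 0 → σ lam * τ lam = lam := by
    have h1 : ∀ σ τ : F ≃+* F, c (σ, τ) * (σ lam * τ lam) - lam * c (σ, τ) = 0 := by
      apply Sq.indep_two (fun σ τ => c (σ, τ) * (σ lam * τ lam) - lam * c (σ, τ))
      intro x y
      have e1 := h x y
      rw [hc, hc, Fintype.sum_prod_type, Fintype.sum_prod_type, Finset.mul_sum] at e1
      rw [← sub_eq_zero.2 e1, ← Finset.sum_sub_distrib]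
      apply Finset.sum_congr rfl
      intro σ _
      rw [Finset.mul_sum, ← Finset.sum_sub_distrib]
      apply Finset.sum_congr rfl
      intro τ _
      show (c (σ, τ) * (σ lam * τ lam) - lam * c (σ, τ)) * (σ x * τ y) =
        c (σ, τ) * (σ (lam * x) * τ (lam * y)) - lam * (c (σ, τ) * (σ x * τ y))
      rw [map_mul, map_mul]; ring
    intro σ τ hne
    have h2 := h1 σ τ
    have h3 : c (σ, τ) * (σ lam * τ lam - lam) = 0 := by rw [← h2]; ring
    exact sub_eq_zero.1 ((mul_eq_zero.1 h3).resolve_left hne)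
  have hval : ∀ σ τ : F ≃+* F, c (σ, τ) ≠ 0 → (∀ x, σ x = r x) ∧ (∀ x, τ x = r x) := by
    intro σ τ hne
    have h1 := hsup σ τ hne
    have h2 : ∀ s, σ s * τ s = s := by
      intro s
      by_cases hs : s = 0
      · rw [hs, map_zero, zero_mul]
      · obtain ⟨k, rfl⟩ := hl s hs
        rw [map_pow, map_pow, ← mul_pow, h1]
    have h3 : ∀ s, σ s = τ s := by
      intro s
      have e1 := h2 (s + 1)
      rw [map_add, map_add, map_one, map_one] at e1
      have e2 := h2 s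
      have e3 : σ s + τ s = 0 := by linear_combination e1 - e2
      have e4 := eq_neg_of_add_eq_zero_left e3
      rwa [CharTwo.neg_eq] at e4
    have h4 : ∀ s, τ s = r s := by
      intro s
      apply hinj2
      rw [hr]
      have e1 := h2 s
      rwa [h3] at e1
    exact ⟨fun s => by rw [h3, h4], h4⟩
  refine ⟨(∑ p, c p) * (∑ p, c p), fun x y => ?_⟩
  have h5 : f x y = (∑ p, c p) * (r x * r y) := by
    rw [hc, Finset.sum_mul]
    apply Finset.sum_congr rfl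
    rintro ⟨σ, τ⟩ _
    by_cases h0 : c (σ, τ) = 0
    · rw [h0, zero_mul, zero_mul]
    · obtain ⟨h1, h2⟩ := hval σ τ h0
      show c (σ, τ) * (σ x * τ y) = _
      rw [h1, h2]
  rw [h5]
  calc (∑ p, c p) * (r x * r y) * ((∑ p, c p) * (r x * r y)) =
      (∑ p, c p) * (∑ p, c p) * ((r x * r x) * (r y * r y)) := by ring
    _ = _ := by rw [hr, hr]

/-- Equivariant biadditive maps on groups with coordinates. -/
theorem ev {F : Type v} [Field F] [Finite F] [CharP F 2] {lam : F} (hl : Gen lam) {G₁ G₂ : Type*} [Group G₁] [Group G₂]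
    (p₁ : G₁ → F) (p₂ : G₂ → F) (h₁ : ∀ a b, p₁ (a * b) = p₁ a + p₁ b) (h₂ : ∀ a b, p₂ (a * b) = p₂ a + p₂ b)
    (s₁ : Function.Surjective p₁) (s₂ : Function.Surjective p₂) (ρ₁ : G₁ → G₁) (ρ₂ : G₂ → G₂)
    (r₁ : ∀ a, p₁ (ρ₁ a) = lam * p₁ a) (r₂ : ∀ a, p₂ (ρ₂ a) = lam * p₂ a)
    (γ : G₁ → G₂ → F) (g₁ : ∀ a b x, γ (a * b) x = γ a x + γ b x) (g₂ : ∀ a x y, γ a (x * y) = γ a x + γ a y)
    (k₁ : ∀ a x, p₁ a = 0 → γ a x = 0) (k₂ : ∀ a x, p₂ x = 0 → γ a x = 0)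
    (hγ : ∀ a x, γ (ρ₁ a) (ρ₂ x) = lam * γ a x) : ∃ c, ∀ a x, γ a x * γ a x = c * (p₁ a * p₂ x) := by
  have hp₁1 : p₁ 1 = 0 := by
    have := h₁ 1 1
    rw [mul_one] at this
    exact left_eq_add.1 this
  have hp₂1 : p₂ 1 = 0 := by
    have := h₂ 1 1
    rw [mul_one] at this
    exact left_eq_add.1 this
  have w₁ : ∀ a b x, p₁ a = p₁ b → γ a x = γ b x := by
    intro a b x hab
    have e1 : p₁ (a * b⁻¹) = 0 := by
      have e2 := h₁ (a * b⁻¹) b
      rw [inv_mul_cancel_right, hab] at e2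
      exact (right_eq_add.1 e2)
    have e2 := g₁ (a * b⁻¹) b x
    rw [inv_mul_cancel_right, k₁ _ _ e1, zero_add] at e2
    exact e2
  have w₂ : ∀ a x y, p₂ x = p₂ y → γ a x = γ a y := by
    intro a x y hxy
    have e1 : p₂ (x * y⁻¹) = 0 := by
      have e2 := h₂ (x * y⁻¹) y
      rw [inv_mul_cancel_right, hxy] at e2
      exact (right_eq_add.1 e2)
    have e2 := g₂ a (x * y⁻¹) y
    rw [inv_mul_cancel_right, k₂ _ _ e1, zero_add] at e2
    exact e2
  choose σ₁ hσ₁ using s₁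
  choose σ₂ hσ₂ using s₂
  let f : F →+ F →+ F := AddMonoidHom.mk' (fun s => AddMonoidHom.mk' (fun t => γ (σ₁ s) (σ₂ t)) (by
      intro t t'
      rw [← g₂]
      apply w₂
      rw [h₂, hσ₂, hσ₂, hσ₂])) (by
    intro s s'
    ext t
    show γ (σ₁ (s + s')) (σ₂ t) = γ (σ₁ s) (σ₂ t) + γ (σ₁ s') (σ₂ t)
    rw [← g₁]
    apply w₁
    rw [h₁, hσ₁, hσ₁, hσ₁])
  have hf : ∀ a x, f (p₁ a) (p₂ x) = γ a x := by
    intro a x
    show γ (σ₁ (p₁ a)) (σ₂ (p₂ x)) = γ a x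
    rw [w₁ _ a _ (hσ₁ _), w₂ _ _ x (hσ₂ _)]
  obtain ⟨c, hc⟩ := ev_field hl f (by
    intro s t
    obtain ⟨a, rfl⟩ : ∃ a, p₁ a = s := ⟨σ₁ s, hσ₁ s⟩
    obtain ⟨x, rfl⟩ : ∃ x, p₂ x = t := ⟨σ₂ t, hσ₂ t⟩
    rw [← r₁, ← r₂, hf, hf, hγ])
  exact ⟨c, fun a x => by rw [← hf, hc]⟩

/-- An abelian group whose elements of order at most two form a line -/
structure AStr (A : Type u) [CommGroup A] (F : Type v) [Field F] (lam : F) where
  ρ : A →* A
  ε : A → F
  ε_mul : ∀ a b, a * a = 1 → b * b = 1 → ε (a * b) = ε a + ε b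
  ε_inj : ∀ a, a * a = 1 → ε a = 0 → a = 1
  ε_surj : ∀ s, ∃ a, a * a = 1 ∧ ε a = s
  ε_ρ : ∀ a, a * a = 1 → ε (ρ a) = lam * ε a

namespace AStr

variable {A : Type u} [CommGroup A] {F : Type v} [Field F] {lam : F} (D : AStr A F lam)

theorem sq_mul {a b : A} (ha : a * a = 1) (hb : b * b = 1) : (a * b) * (a * b) = 1 := by
  rw [mul_mul_mul_comm, ha, hb, one_mul]

theorem sq_inv {a : A} (ha : a * a = 1) : a⁻¹ * a⁻¹ = 1 := by rw [← mul_inv, ha, inv_one]

theorem ε_one : D.ε 1 = 0 := by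
  have := D.ε_mul 1 1 (one_mul 1) (one_mul 1)
  rw [mul_one] at this
  exact left_eq_add.1 this

theorem ε_inv {a : A} (ha : a * a = 1) : D.ε a⁻¹ = - D.ε a := by
  have := D.ε_mul a a⁻¹ ha (sq_inv ha)
  rw [mul_inv_cancel, D.ε_one] at this
  exact (neg_eq_of_add_eq_zero_right this.symm).symm

theorem eq_of_ε {a b : A} (ha : a * a = 1) (hb : b * b = 1) (h : D.ε a = D.ε b) : a = b := by
  have h1 := D.ε_mul a b⁻¹ ha (sq_inv hb)
  rw [D.ε_inv hb, h, add_neg_cancel] at h1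
  exact mul_inv_eq_one.1 (D.ε_inj _ (sq_mul ha (sq_inv hb)) h1)

theorem iter (hl : Gen lam) {a : A} (ha : a * a = 1) (ha1 : a ≠ 1) {b : A} (hb : b * b = 1) (hb1 : b ≠ 1) :
    ∃ k : ℕ, (D.ρ^[k]) a = b := by
  have hfix : ∀ k : ℕ, (D.ρ^[k]) a * (D.ρ^[k]) a = 1 ∧ D.ε ((D.ρ^[k]) a) = lam ^ k * D.ε a := by
    intro k
    induction k with
    | zero => exact ⟨ha, by simp⟩
    | succ k ih =>
      rw [Function.iterate_succ_apply']
      refine ⟨by rw [← map_mul, ih.1, map_one], ?_⟩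
      rw [D.ε_ρ _ ih.1, ih.2, pow_succ]; ring
  have h1 : D.ε a ≠ 0 := fun h => ha1 (D.ε_inj _ ha h)
  have h2 : D.ε b ≠ 0 := fun h => hb1 (D.ε_inj _ hb h)
  obtain ⟨k, hk⟩ := hl (D.ε b / D.ε a) (div_ne_zero h2 h1)
  refine ⟨k, D.eq_of_ε (hfix k).1 hb ?_⟩
  rw [(hfix k).2, hk, div_mul_cancel₀ _ h1]

/-- homocyclic structure -/
structure Lev (A : Type u) [CommGroup A] (m : ℕ) : Prop where
  P0 : ∀ a : A, a ^ 2 ^ (m + 1) = 1
  P1 : ∀ c : A, c * c = 1 → ∃ a : A, a ^ 2 ^ m = c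
  P2 : ∀ i j, i + j = m + 1 → ∀ a : A, a ^ 2 ^ j = 1 → ∃ f : A, a = f ^ 2 ^ i

include D in
theorem exists_lev [Finite A] (hA : IsPGroup 2 A) (hl : Gen lam) : ∃ m, Lev A m := by
  classical
  have hp : Fact (Nat.Prime 2) := ⟨Nat.prime_two⟩
  have hex : ∃ k, ∀ a : A, a ^ 2 ^ k = 1 := by
    obtain ⟨k, hk⟩ := hA.exists_card_eq
    exact ⟨k, fun a => by rw [← hk, pow_card_eq_one']⟩
  have hne : ∃ a : A, a ≠ 1 := by
    obtain ⟨a, ha, ha1⟩ := D.ε_surj 1
    refine ⟨a, ?_⟩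
    rintro rfl
    rw [D.ε_one] at ha1
    exact zero_ne_one ha1
  have hk := Nat.find_spec hex
  have hmin : ∀ m, m < Nat.find hex → ¬ ∀ a : A, a ^ 2 ^ m = 1 := fun m hm => Nat.find_min hex hm
  generalize Nat.find hex = k at hk hmin
  have hk0 : k ≠ 0 := by
    intro h0
    obtain ⟨a, ha⟩ := hne
    apply ha
    have := hk a
    rwa [h0, pow_zero, pow_one] at this
  obtain ⟨m, rfl⟩ := Nat.exists_eq_succ_of_ne_zero hk0
  have hm := hmin m (by omega)
  push Not at hm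
  obtain ⟨a0, ha0⟩ := hm
  have hc0 : a0 ^ 2 ^ m * a0 ^ 2 ^ m = 1 := by
    rw [← pow_two, ← pow_mul, ← pow_succ]
    exact hk a0
  have P1 : ∀ c : A, c * c = 1 → ∃ a : A, a ^ 2 ^ m = c := by
    intro c hc
    by_cases hc1 : c = 1
    · exact ⟨1, by rw [one_pow, hc1]⟩
    obtain ⟨j, hj⟩ := D.iter hl hc0 ha0 hc hc1
    refine ⟨(D.ρ^[j]) a0, ?_⟩
    rw [← hj]
    clear hj
    induction j with
    | zero => rfl
    | succ j ih => rw [Function.iterate_succ_apply', Function.iterate_succ_apply', ← map_pow, ih]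
  refine ⟨m, hk, P1, ?_⟩
  intro i j
  induction j generalizing i with
  | zero =>
    intro _ a ha
    rw [pow_zero, pow_one] at ha
    exact ⟨1, by rw [ha, one_pow]⟩
  | succ j ih =>
    intro hij a ha
    have h1 : a ^ 2 ^ j * a ^ 2 ^ j = 1 := by
      rw [← pow_two, ← pow_mul, ← pow_succ]; exact ha
    obtain ⟨e, he⟩ := P1 _ h1
    have h2 : m = i + j := by omega
    rw [h2, pow_add, pow_mul] at he
    have h3 : (a * (e ^ 2 ^ i)⁻¹) ^ 2 ^ j = 1 := by
      rw [mul_pow, inv_pow, he, mul_inv_cancel]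
    obtain ⟨f, hf⟩ := ih (i + 1) (by omega) _ h3
    refine ⟨f ^ 2 * e, ?_⟩
    rw [mul_pow, ← pow_mul, ← pow_succ', ← hf, inv_mul_cancel_right]

end AStr

end Cfsg.Agent.H21.SI
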