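import Cfsg.Agent.Suz2.Dedekind

/-! Additive maps of a finite field of characteristic 2 which preserve a norm form up to an additive map are
semilinear. -/

set_option autoImplicit false

namespace Cfsg.Agent.H21.Sq

variable {F : Type*} [Field F] [Finite F] [CharP F 2]

/-- the subgroup of fixed points -/
def fixedAdd (φ : F ≃+* F) : AddSubgroup F where
  carrier := {x | φ x = x}
  zero_mem' := map_zero φ
  add_mem' := fun {a b} ha hb => by
    show φ (a + b) = a + b
    rw [map_add, ha, hb]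
  neg_mem' := fun {a} ha => by
    show φ (-a) = -a
    rw [map_neg, ha]

theorem mem_fixedAdd {φ : F ≃+* F} {x : F} : x ∈ fixedAdd φ ↔ φ x = x := Iff.rfl

/-- the norm form -/
def nrm (φ : F ≃+* F) (h2 : ∀ x, φ (φ x) = x) (x : F) : fixedAdd φ :=
  ⟨x * φ x, by rw [mem_fixedAdd, map_mul, h2, mul_comm]⟩

/-- the trace form -/
def trc (φ : F ≃+* F) (h2 : ∀ x, φ (φ x) = x) : F →+ fixedAdd φ where
  toFun x := ⟨x + φ x, by rw [mem_fixedAdd, map_add, h2, add_comm]⟩
  map_zero' := by ext; simp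
  map_add' x y := by
    ext
    show x + y + φ (x + y) = x + φ x + (y + φ y)
    rw [map_add]; ring

theorem indep_two [Fintype (F ≃+* F)] (c : (F ≃+* F) → (F ≃+* F) → F)
    (h : ∀ x y : F, ∑ σ, ∑ τ, c σ τ * (σ x * τ y) = 0) : ∀ σ τ, c σ τ = 0 := by
  intro σ τ
  have hind := Suz2.aut_indep F
  have h1 : ∀ y, ∀ σ, ∑ τ : F ≃+* F, c σ τ * τ y = 0 := by
    intro y
    have h2 : ∑ σ : F ≃+* F, (∑ τ : F ≃+* F, c σ τ * τ y) • ((σ : F →+* F) : F → F) = 0 := by
      ext x
      rw [Finset.sum_apply, Pi.zero_apply, ← h x y]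
      apply Finset.sum_congr rfl
      intro σ _
      rw [Pi.smul_apply, smul_eq_mul, Finset.sum_mul]
      apply Finset.sum_congr rfl
      intro τ _
      show c σ τ * τ y * σ x = _
      ring
    exact fun σ => Fintype.linearIndependent_iff.1 hind _ h2 σ
  have h3 : ∑ τ : F ≃+* F, (c σ τ) • ((τ : F →+* F) : F → F) = 0 := by
    ext y
    rw [Finset.sum_apply, Pi.zero_apply, ← h1 y σ]
    rfl
  exact Fintype.linearIndependent_iff.1 hind _ h3 τ

theorem trc_surj_ne (φ : F ≃+* F) (hφ : φ ≠ 1) : ∃ x, x + φ x ≠ 0 := by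
  by_contra hcon
  push Not at hcon
  apply hφ
  ext x
  have := hcon x
  have h1 : φ x = -x := (neg_eq_of_add_eq_zero_right this).symm
  rw [h1, CharTwo.neg_eq]
  rfl

/-- the trace map is onto the fixed field -/
theorem trc_surj (φ : F ≃+* F) (h2 : ∀ x, φ (φ x) = x) (hφ : φ ≠ 1) : Function.Surjective (trc φ h2) := by
  rintro ⟨v, hv⟩
  obtain ⟨x, hx⟩ := trc_surj_ne φ hφ
  have h3 : φ (x + φ x) = x + φ x := by rw [map_add, h2, add_comm]
  refine ⟨v * (x + φ x)⁻¹ * x, ?_⟩
  ext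
  show v * (x + φ x)⁻¹ * x + φ (v * (x + φ x)⁻¹ * x) = v
  have hv' : φ v = v := hv
  rw [map_mul, map_mul, map_inv₀, h3, hv', mul_assoc, mul_assoc, ← mul_add, ← mul_add, inv_mul_cancel₀ hx, mul_one]

/-- **The semilinearity lemma** -/
theorem semilinear [Fintype (F ≃+* F)] (φ : F ≃+* F) (h2 : ∀ x, φ (φ x) = x) (hφ : φ ≠ 1)
    (hcomm : ∀ (σ : F ≃+* F) (x : F), σ (φ x) = φ (σ x)) (A : F →+ F) (g : fixedAdd φ →+ F) (hg : Function.Injective g)
    (h : ∀ x, A x * φ (A x) = g (nrm φ h2 x)) :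
    ∃ (a : F) (σ : F ≃+* F), a ≠ 0 ∧ ∀ x, A x = a * σ x := by
  classical
  obtain ⟨a, ha⟩ := Suz2.add_expand A
  obtain ⟨b, hb⟩ := Suz2.add_expand (g.comp (trc φ h2))
  have hφφ : φ * φ = 1 := RingEquiv.ext h2
  have hφφ' : ∀ σ : F ≃+* F, φ * (φ * σ) = σ := fun σ => by rw [← mul_assoc, hφφ, one_mul]
  -- polarisation
  have hpol : ∀ x y, A x * φ (A y) + φ (A x) * A y = g (trc φ h2 (x * φ y)) := by
    intro x y
    have e1 : nrm φ h2 (x + y) = nrm φ h2 x + nrm φ h2 y + trc φ h2 (x * φ y) := by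
      ext
      show (x + y) * φ (x + y) = x * φ x + y * φ y + (x * φ y + φ (x * φ y))
      rw [map_add, map_mul, h2]; ring
    have e2 := h (x + y)
    rw [e1, map_add g, map_add g, ← h, ← h, map_add A, map_add φ] at e2
    linear_combination e2
  -- coefficients
  have hφA : ∀ y, φ (A y) = ∑ τ : F ≃+* F, φ (a (φ * τ)) * τ y := by
    intro y
    rw [ha, map_sum]
    rw [← Equiv.sum_comp (Equiv.mulLeft φ)]
    apply Finset.sum_congr rfl
    intro τ _
    rw [map_mul]
    congr 1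
    show φ (φ (τ y)) = τ y
    exact h2 _
  have hcoef : ∀ σ τ : F ≃+* F, a σ * φ (a (φ * τ)) + φ (a (φ * σ)) * a τ - (if τ = φ * σ then b σ else 0) = 0 := by
    apply indep_two (fun σ τ => a σ * φ (a (φ * τ)) + φ (a (φ * σ)) * a τ - (if τ = φ * σ then b σ else 0))
    intro x y
    have e1 := hpol x y
    have e2 : g (trc φ h2 (x * φ y)) = ∑ σ : F ≃+* F, b σ * (σ x * (φ * σ) y) := by
      have := hb (x * φ y)
      rw [AddMonoidHom.comp_apply] at this
      rw [this]
      apply Finset.sum_congr rfl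
      intro σ _
      rw [map_mul, hcomm]; rfl
    rw [e2, hφA x, hφA y, ha x, ha y] at e1
    have e3 : ∑ σ : F ≃+* F, ∑ τ : F ≃+* F, (a σ * φ (a (φ * τ)) + φ (a (φ * σ)) * a τ -
        (if τ = φ * σ then b σ else 0)) * (σ x * τ y) =
        (∑ σ : F ≃+* F, a σ * σ x) * (∑ τ : F ≃+* F, φ (a (φ * τ)) * τ y) +
        (∑ σ : F ≃+* F, φ (a (φ * σ)) * σ x) * (∑ τ : F ≃+* F, a τ * τ y) -
        ∑ σ : F ≃+* F, b σ * (σ x * (φ * σ) y) := by
      rw [Finset.sum_mul_sum, Finset.sum_mul_sum, ← Finset.sum_add_distrib, ← Finset.sum_sub_distrib]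
      apply Finset.sum_congr rfl
      intro σ _
      have e4 : b σ * (σ x * (φ * σ) y) = ∑ τ : F ≃+* F, (if τ = φ * σ then b σ else 0) * (σ x * τ y) := by
        rw [Finset.sum_eq_single (φ * σ)]
        · rw [if_pos rfl]
        · intro τ _ hτ
          rw [if_neg hτ, zero_mul]
        · intro h; exact absurd (Finset.mem_univ _) h
      rw [e4, ← Finset.sum_add_distrib, ← Finset.sum_sub_distrib]
      apply Finset.sum_congr rfl
      intro τ _
      ring
    rw [e3, e1, sub_self]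
  -- some `b σ ≠ 0`
  obtain ⟨σ, hσ⟩ : ∃ σ, b σ ≠ 0 := by
    by_contra hcon
    push Not at hcon
    obtain ⟨x, hx⟩ := trc_surj_ne φ hφ
    apply hx
    have e1 := hb x
    rw [AddMonoidHom.comp_apply] at e1
    simp only [hcon, zero_mul, Finset.sum_const_zero] at e1
    have e2 : trc φ h2 x = 0 := hg (by rw [e1, map_zero])
    exact congrArg Subtype.val e2
  have e1 := hcoef σ (φ * σ)
  rw [if_pos rfl, hφφ'] at e1
  have e1' : b σ = a σ * φ (a σ) + φ (a (φ * σ)) * a (φ * σ) := (sub_eq_zero.1 e1).symm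
  have hφσ : σ ≠ φ * σ := by
    intro hh
    apply hφ
    have := mul_right_cancel (b := σ) (a := (1 : F ≃+* F)) (c := φ) (by rw [one_mul]; exact hh)
    exact this.symm
  -- the other coefficients vanish
  have hvan : ∀ τ, τ ≠ σ → τ ≠ φ * σ → a τ = 0 := by
    intro τ h3 h4
    -- use `τ' = φ τ`
    have h5 : φ * τ ≠ φ * σ := fun hh => h3 (mul_left_cancel hh)
    have i1 := hcoef σ (φ * τ)
    rw [if_neg h5, hφφ', sub_zero] at i1
    have i2 := hcoef σ τ
    rw [if_neg h4, sub_zero] at i2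
    -- i1 : a σ φ(a τ) + φ(a φσ) a(φτ) = 0 ; i2 : a σ φ (a φτ) + φ(a φσ) a τ = 0
    have i1' : a σ * φ (a τ) = φ (a (φ * σ)) * a (φ * τ) := by
      have := eq_neg_of_add_eq_zero_left i1
      rwa [CharTwo.neg_eq] at this
    have i2' : a σ * φ (a (φ * τ)) = φ (a (φ * σ)) * a τ := by
      have := eq_neg_of_add_eq_zero_left i2
      rwa [CharTwo.neg_eq] at this
    have i1'' := congrArg φ i1'
    rw [map_mul, map_mul, h2, h2] at i1''
    -- i1'' : φ(a σ) a τ = a(φσ) φ(a φτ)
    have i3 : b σ * a τ = 0 := by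
      rw [e1']
      have : (a σ * φ (a σ) + φ (a (φ * σ)) * a (φ * σ)) * a τ =
          a σ * (φ (a σ) * a τ) + a (φ * σ) * (φ (a (φ * σ)) * a τ) := by ring
      rw [this, i1'', ← i2']
      have : a σ * (a (φ * σ) * φ (a (φ * τ))) + a (φ * σ) * (a σ * φ (a (φ * τ))) =
          2 * (a σ * a (φ * σ) * φ (a (φ * τ))) := by ring
      rw [this, CharTwo.two_eq_zero, zero_mul]
    exact (mul_eq_zero.1 i3).resolve_left hσ
  have hA : ∀ x, A x = a σ * σ x + a (φ * σ) * φ (σ x) := by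
    intro x
    rw [ha x, ← Finset.sum_subset (Finset.subset_univ {σ, φ * σ})]
    · rw [Finset.sum_pair hφσ]; rfl
    · intro τ _ hτ
      simp only [Finset.mem_insert, Finset.mem_singleton, not_or] at hτ
      rw [hvan τ hτ.1 hτ.2, zero_mul]
  -- the quadratic condition
  set α := a σ with hα
  set β := a (φ * σ) with hβ
  have hN : ∀ x, A x * φ (A x) = (α * φ α + β * φ β) * (σ x * φ (σ x)) +
      (α * φ β * (σ x) ^ 2 + φ (α * φ β * (σ x) ^ 2)) := by
    intro x
    rw [hA x, map_add, map_mul, map_mul, h2, map_mul, map_mul, map_pow, h2]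
    ring
  -- the additive function `G`
  have hT : ∀ x, α * φ β * x ^ 2 + φ (α * φ β * x ^ 2) = 0 := by
    let G : fixedAdd φ →+ F :=
      { toFun := fun v => g v - (α * φ α + β * φ β) * σ v.1
        map_zero' := by simp
        map_add' := fun u v => by
          rw [map_add]
          show g u + g v - _ * σ (u.1 + v.1) = _
          rw [map_add]; ring }
    have hG : ∀ x, G (nrm φ h2 x) = α * φ β * (σ x) ^ 2 + φ (α * φ β * (σ x) ^ 2) := by
      intro x
      show g (nrm φ h2 x) - (α * φ α + β * φ β) * σ (x * φ x) = _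
      rw [← h, hN, map_mul σ, hcomm]; ring
    have hGT : ∀ x y, G (trc φ h2 (x * φ y)) = 0 := by
      intro x y
      have e1 : nrm φ h2 (x + y) = nrm φ h2 x + nrm φ h2 y + trc φ h2 (x * φ y) := by
        ext
        show (x + y) * φ (x + y) = x * φ x + y * φ y + (x * φ y + φ (x * φ y))
        rw [map_add, map_mul, h2]; ring
      have e2 := congrArg G e1
      rw [map_add, map_add, hG, hG, hG, map_add] at e2
      have e3 : (σ x + σ y) ^ 2 = σ x ^ 2 + σ y ^ 2 := CharTwo.add_sq _ _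
      rw [e3, mul_add, map_add] at e2
      have e4 : G (trc φ h2 (x * φ y)) = (α * φ β * σ x ^ 2 + α * φ β * σ y ^ 2 + (φ (α * φ β * σ x ^ 2) + φ (α * φ β * σ y ^ 2))) -
          (α * φ β * σ x ^ 2 + φ (α * φ β * σ x ^ 2) + (α * φ β * σ y ^ 2 + φ (α * φ β * σ y ^ 2))) := by
        rw [e2]; ring
      rw [e4]; ring
    have hG0 : ∀ v, G v = 0 := by
      intro v
      obtain ⟨x, hx⟩ := trc_surj φ h2 hφ v
      have := hGT x 1
      rwa [map_one, mul_one, hx] at this
    intro x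
    have e1 := hG (σ.symm x)
    rw [hG0, σ.apply_symm_apply] at e1
    exact e1.symm
  have hαβ : α * φ β = 0 := by
    by_contra hne
    obtain ⟨x, hx⟩ := trc_surj_ne φ hφ
    -- write `x = α φ β y ^ 2`
    have hsur : Function.Surjective (fun y : F => y ^ 2) := by
      have hinj : Function.Injective (fun y : F => y ^ 2) := fun y z hyz => CharTwo.sq_injective hyz
      exact Finite.surjective_of_injective hinj
    obtain ⟨y, hy⟩ := hsur (x / (α * φ β))
    apply hx
    have := hT y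
    have hy' : y ^ 2 = x / (α * φ β) := hy
    rwa [hy', mul_div_cancel₀ _ hne] at this
  rcases mul_eq_zero.1 hαβ with h0 | h0
  · refine ⟨β, φ * σ, ?_, fun x => ?_⟩
    · intro h1
      apply hσ
      rw [e1', h0, h1]; ring
    · rw [hA x, h0, zero_mul, zero_add]; rfl
  · have hβ0 : β = 0 := (map_eq_zero φ).1 h0
    refine ⟨α, σ, ?_, fun x => ?_⟩
    · intro h1
      apply hσ
      rw [e1', hβ0, h1]; ring
    · rw [hA x, hβ0, zero_mul, add_zero]

end Cfsg.Agent.H21.Sq
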