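import Cfsg.Agent.H21.SqBase
import Cfsg.Agent.H21.SqField

/-! Automorphisms of central extensions with a squaring map. -/

set_option autoImplicit false

namespace Cfsg.Agent.H21.Sq

section Gen

variable {T₁ T₂ W₁ W₂ V₁ V₂ : Type*} [Group T₁] [Group T₂] [AddCommGroup W₁] [AddCommGroup W₂] [AddCommGroup V₁]
  [AddCommGroup V₂] {Q₁ : W₁ → V₁} {Q₂ : W₂ → V₂}

theorem SqData.sq' (D : SqData T₁ W₁ V₁ Q₁) (t : T₁) :
    D.ι (Multiplicative.ofAdd (Q₁ (Multiplicative.toAdd (D.π t)))) = t * t := (D.sq t).symm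

/-- two elements commute iff the polarisation vanishes -/
theorem SqData.commute_iff (D : SqData T₁ W₁ V₁ Q₁) (s t : T₁) :
    s * t = t * s ↔ Q₁ (Multiplicative.toAdd (D.π s) + Multiplicative.toAdd (D.π t)) =
      Q₁ (Multiplicative.toAdd (D.π s)) + Q₁ (Multiplicative.toAdd (D.π t)) := by
  have h1 : D.ι (Multiplicative.ofAdd (Q₁ (Multiplicative.toAdd (D.π s) + Multiplicative.toAdd (D.π t)))) =
      (s * t) * (s * t) := by
    rw [← D.sq', map_mul]; rfl
  have h2 : D.ι (Multiplicative.ofAdd (Q₁ (Multiplicative.toAdd (D.π s)) + Q₁ (Multiplicative.toAdd (D.π t)))) =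
      (s * s) * (t * t) := by
    rw [ofAdd_add, map_mul, D.sq', D.sq']
  constructor
  · intro h
    have h3 : (s * t) * (s * t) = (s * s) * (t * t) := by
      calc (s * t) * (s * t) = s * (t * s) * t := by group
        _ = s * (s * t) * t := by rw [h]
        _ = _ := by group
    rw [← h1, ← h2] at h3
    exact Multiplicative.ofAdd.injective (D.inj h3)
  · intro h
    rw [h, h2] at h1
    have h3 : s * (s * t) * t = s * (t * s) * t := by
      calc s * (s * t) * t = (s * s) * (t * t) := by group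
        _ = (s * t) * (s * t) := h1
        _ = _ := by group
    exact mul_left_cancel (mul_right_cancel h3)

theorem SqData.center_eq (D : SqData T₁ W₁ V₁ Q₁)
    (hnd : ∀ w, (∀ w', Q₁ (w + w') = Q₁ w + Q₁ w') → w = 0) : Subgroup.center T₁ = D.ι.range := by
  apply le_antisymm
  · intro t ht
    rw [MonoidHom.mem_range, ← D.exact]
    have h1 : Multiplicative.toAdd (D.π t) = 0 := by
      apply hnd
      intro w'
      obtain ⟨s, hs⟩ := D.surj (Multiplicative.ofAdd w')
      have h2 := (D.commute_iff t s).1 ((Subgroup.mem_center_iff.1 ht s).symm)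
      rw [hs] at h2
      exact h2
    exact h1
  · rintro _ ⟨v, rfl⟩
    rw [Subgroup.mem_center_iff]
    intro t
    exact (D.central v t).symm

/-- the maps induced by an isomorphism -/
theorem SqData.induced (D₁ : SqData T₁ W₁ V₁ Q₁) (D₂ : SqData T₂ W₂ V₂ Q₂) (φ : T₁ ≃* T₂)
    (hc : ∀ t, D₁.π t = 1 → D₂.π (φ t) = 1) :
    ∃ (A : W₁ →+ W₂) (B : V₁ →+ V₂), Function.Injective B ∧
      (∀ t, Multiplicative.toAdd (D₂.π (φ t)) = A (Multiplicative.toAdd (D₁.π t))) ∧
      (∀ v, φ (D₁.ι (Multiplicative.ofAdd v)) = D₂.ι (Multiplicative.ofAdd (B v))) ∧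
      ∀ w, Q₂ (A w) = B (Q₁ w) := by
  have hwell : ∀ s t, D₁.π s = D₁.π t → D₂.π (φ s) = D₂.π (φ t) := by
    intro s t h
    have h1 := hc (s⁻¹ * t) (by rw [map_mul, map_inv, h, inv_mul_cancel])
    rw [map_mul, map_mul, map_inv, map_inv] at h1
    exact inv_mul_eq_one.1 h1
  choose σ hσ using D₁.surj
  let A : W₁ →+ W₂ :=
    { toFun := fun w => Multiplicative.toAdd (D₂.π (φ (σ (Multiplicative.ofAdd w))))
      map_zero' := by
        have := hc (σ (Multiplicative.ofAdd 0)) (by rw [hσ]; rfl)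
        rw [this]; rfl
      map_add' := fun x y => by
        have h1 := hwell (σ (Multiplicative.ofAdd (x + y))) (σ (Multiplicative.ofAdd x) * σ (Multiplicative.ofAdd y))
          (by rw [hσ, map_mul, hσ, hσ]; rfl)
        rw [h1, map_mul, map_mul]; rfl }
  have hA : ∀ t, Multiplicative.toAdd (D₂.π (φ t)) = A (Multiplicative.toAdd (D₁.π t)) := by
    intro t
    show _ = Multiplicative.toAdd (D₂.π (φ (σ (Multiplicative.ofAdd (Multiplicative.toAdd (D₁.π t))))))
    congr 1
    apply hwell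
    rw [hσ]; rfl
  have hB0 : ∀ v, ∃ v', D₂.ι v' = φ (D₁.ι v) := fun v => (D₂.exact _).1 (hc _ (D₁.pi_iota v))
  choose β hβ using hB0
  let B : V₁ →+ V₂ :=
    { toFun := fun v => Multiplicative.toAdd (β (Multiplicative.ofAdd v))
      map_zero' := by
        have h1 : β 1 = 1 := D₂.inj (by rw [hβ, map_one, map_one, map_one])
        show Multiplicative.toAdd (β 1) = 0
        rw [h1]; rfl
      map_add' := fun x y => by
        have h1 : β (Multiplicative.ofAdd (x + y)) = β (Multiplicative.ofAdd x) * β (Multiplicative.ofAdd y) := by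
          apply D₂.inj
          rw [hβ, map_mul, hβ, hβ, ofAdd_add, map_mul, map_mul]
        rw [h1]; rfl }
  have hB : ∀ v, φ (D₁.ι (Multiplicative.ofAdd v)) = D₂.ι (Multiplicative.ofAdd (B v)) := fun v => (hβ _).symm
  refine ⟨A, B, ?_, hA, hB, ?_⟩
  · intro x y hxy
    have h1 := hB x
    rw [hxy, ← hB y] at h1
    exact Multiplicative.ofAdd.injective (D₁.inj (φ.injective h1))
  · intro w
    obtain ⟨t, ht⟩ := D₁.surj (Multiplicative.ofAdd w)
    have h1 : φ (t * t) = φ t * φ t := map_mul _ _ _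
    rw [D₁.sq t, ht, D₂.sq (φ t)] at h1
    have h2 : Multiplicative.toAdd (D₂.π (φ t)) = A w := by rw [hA, ht]; rfl
    rw [h2] at h1
    have h3 : Multiplicative.toAdd (Multiplicative.ofAdd w) = w := rfl
    rw [h3, hB] at h1
    exact (Multiplicative.ofAdd.injective (D₂.inj h1)).symm

end Gen

variable {F : Type*} [Field F] [Finite F] [CharP F 2]

theorem nrm_nondeg (φ : F ≃+* F) (h2 : ∀ x, φ (φ x) = x) (hφ : φ ≠ 1) (w : F)
    (h : ∀ w', nrm φ h2 (w + w') = nrm φ h2 w + nrm φ h2 w') : w = 0 := by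
  by_contra hw
  obtain ⟨x, hx⟩ := trc_surj_ne φ hφ
  apply hx
  have h1 := congrArg Subtype.val (h (φ (w⁻¹ * x)))
  have h3 : (w + φ (w⁻¹ * x)) * φ (w + φ (w⁻¹ * x)) = w * φ w + φ (w⁻¹ * x) * φ (φ (w⁻¹ * x)) := h1
  rw [map_add, h2] at h3
  have h4 : w * (w⁻¹ * x) = x := by rw [← mul_assoc, mul_inv_cancel₀ hw, one_mul]
  have h5 : φ (w⁻¹ * x) * φ w = φ x := by
    rw [← map_mul, mul_comm, h4]
  linear_combination h3 - h4 - h5

/-- automorphisms of a finite field with `2 ^ m` elements -/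
theorem aut_pow {m : ℕ} (hm : Nat.card F = 2 ^ m) (σ : F ≃+* F) : ∃ i < m, ∀ x, σ x = x ^ 2 ^ i := by
  classical
  let _ := Fintype.ofFinite F
  let _ : Algebra (ZMod 2) F := ZMod.algebra F 2
  have hfr : Module.finrank (ZMod 2) F = m := by
    have h1 := Module.card_eq_pow_finrank (K := ZMod 2) (V := F)
    rw [← Nat.card_eq_fintype_card, hm, ZMod.card] at h1
    exact (Nat.pow_right_injective le_rfl h1).symm
  let σ' : Gal(F/ZMod 2) := AlgEquiv.ofRingEquiv (f := σ) (fun r => by
    obtain ⟨n, rfl⟩ := ZMod.natCast_zmod_surjective r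
    simp)
  obtain ⟨i, hi⟩ := (FiniteField.bijective_frobeniusAlgEquivOfAlgebraic_pow (ZMod 2) F).2 σ'
  refine ⟨i.1, lt_of_lt_of_eq i.2 hfr, fun x => ?_⟩
  have h1 : σ x = σ' x := rfl
  rw [h1, ← hi, AlgEquiv.coe_pow, FiniteField.coe_frobeniusAlgEquivOfAlgebraic_iterate, ZMod.card]

theorem pow_inj {m : ℕ} (hm : Nat.card F = 2 ^ m) {i : ℕ} (hi : i < m) (h : ∀ x : F, x ^ 2 ^ i = x) : i = 0 := by
  classical
  by_contra hi0
  let _ := Fintype.ofFinite F
  -- a polynomial argument: all elements are roots of `X ^ (2 ^ i) - X`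
  have h1 : Fintype.card F ≤ 2 ^ i := by
    have h2 : (Polynomial.X ^ 2 ^ i - Polynomial.X : Polynomial F) ≠ 0 :=
      FiniteField.X_pow_card_pow_sub_X_ne_zero F hi0 (by norm_num)
    have h3 := Polynomial.card_roots' (Polynomial.X ^ 2 ^ i - Polynomial.X : Polynomial F)
    rw [FiniteField.X_pow_card_pow_sub_X_natDegree_eq F hi0 (by norm_num)] at h3
    have h4 : (Finset.univ : Finset F).val ≤ (Polynomial.X ^ 2 ^ i - Polynomial.X : Polynomial F).roots := by
      rw [Multiset.le_iff_subset Finset.univ.nodup]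
      intro x _
      rw [Polynomial.mem_roots h2, Polynomial.IsRoot.def]
      simp [h x]
    exact le_trans (Multiset.card_le_card h4) h3
  rw [← Nat.card_eq_fintype_card, hm] at h1
  have := (Nat.pow_le_pow_iff_right (a := 2) (by norm_num)).1 h1
  omega

theorem pow_pow_mod {m : ℕ} (hm : Nat.card F = 2 ^ m) (x : F) : x ^ 2 ^ m = x := by
  classical
  let _ := Fintype.ofFinite F
  rw [← hm, Nat.card_eq_fintype_card, FiniteField.pow_card]

/-- an automorphism of order two fixes the fixed field of `φ` -/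
theorem aut_sq_eq_one {n : ℕ} (hm : Nat.card F = 2 ^ (2 * n)) (σ : F ≃+* F) (hσ : ∀ x, σ (σ x) = x) :
    (∀ x, σ x = x) ∨ ∀ x, σ x = x ^ 2 ^ n := by
  obtain ⟨i, hi, h⟩ := aut_pow hm σ
  have h1 : ∀ x : F, x ^ 2 ^ (i + i) = x := by
    intro x
    have := hσ x
    rw [h, h, ← pow_mul, ← pow_add] at this
    exact this
  by_cases hin : i < n
  · left
    have h3 : i + i = 0 := pow_inj hm (by omega) h1
    intro x
    rw [h]
    have : i = 0 := by omega
    rw [this, pow_zero, pow_one]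
  · right
    have h3 : i + i - 2 * n = 0 := by
      apply pow_inj hm (by omega)
      intro x
      have h4 := h1 x
      have h5 : i + i = 2 * n + (i + i - 2 * n) := by omega
      rw [h5, pow_add, pow_mul, pow_pow_mod hm] at h4
      exact h4
    have : i = n := by omega
    rw [← this]
    exact h

end Cfsg.Agent.H21.Sq
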