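import Cfsg.Agent.H21.TFBase
import Cfsg.Agent.H21.SqAut
import Cfsg.Agent.H21.SI2
import Cfsg.Agent.H21.Four

/-! Groups of order 64 with a fixed-point-free automorphism of order three. -/

set_option autoImplicit false

namespace Cfsg.Agent.H21.Sq

/-- the polarisation -/
def pol {W V : Type*} [AddCommGroup W] [AddCommGroup V] (Q : W → V) (w w' : W) : V := Q (w + w') - Q w - Q w'

theorem SqData.comm_eq {T W V : Type*} [Group T] [AddCommGroup W] [AddCommGroup V] {Q : W → V} (D : SqData T W V Q)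
    (s t : T) : t * s = s * t * D.ι (Multiplicative.ofAdd (pol Q (Multiplicative.toAdd (D.π s)) (Multiplicative.toAdd (D.π t)))) := by
  have h1 : D.ι (Multiplicative.ofAdd (Q (Multiplicative.toAdd (D.π s) + Multiplicative.toAdd (D.π t)))) =
      (s * t) * (s * t) := by
    rw [← D.sq', map_mul]; rfl
  have h2 : D.ι (Multiplicative.ofAdd (pol Q (Multiplicative.toAdd (D.π s)) (Multiplicative.toAdd (D.π t)))) =
      (s * t) * (s * t) * (s * s)⁻¹ * (t * t)⁻¹ := by
    have : Multiplicative.ofAdd (pol Q (Multiplicative.toAdd (D.π s)) (Multiplicative.toAdd (D.π t))) =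
      Multiplicative.ofAdd (Q (Multiplicative.toAdd (D.π s) + Multiplicative.toAdd (D.π t))) *
        (Multiplicative.ofAdd (Q (Multiplicative.toAdd (D.π s))))⁻¹ *
        (Multiplicative.ofAdd (Q (Multiplicative.toAdd (D.π t))))⁻¹ := by
      rw [pol, sub_eq_add_neg, sub_eq_add_neg]; rfl
    rw [this, map_mul, map_mul, map_inv, map_inv, h1, D.sq', D.sq']
  have c1 : ∀ x, (s * s) * x = x * (s * s) := fun x => by rw [← D.sq' s]; exact D.central _ _
  have c2 : ∀ x, (t * t) * x = x * (t * t) := fun x => by rw [← D.sq' t]; exact D.central _ _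
  have h3 := D.iota_sq (Multiplicative.ofAdd (pol Q (Multiplicative.toAdd (D.π s)) (Multiplicative.toAdd (D.π t))))
  have h4 : t * s * D.ι (Multiplicative.ofAdd (pol Q (Multiplicative.toAdd (D.π s)) (Multiplicative.toAdd (D.π t)))) = s * t := by
    rw [h2]
    calc t * s * ((s * t) * (s * t) * (s * s)⁻¹ * (t * t)⁻¹) = t * ((s * s) * (t * s * t)) * (s * s)⁻¹ * (t * t)⁻¹ := by group
      _ = t * ((t * s * t) * (s * s)) * (s * s)⁻¹ * (t * t)⁻¹ := by rw [c1]
      _ = (t * t) * (s * t) * (t * t)⁻¹ := by group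
      _ = (s * t) * (t * t) * (t * t)⁻¹ := by rw [c2]
      _ = s * t := by group
  rw [← h4, mul_assoc, mul_assoc, h3, mul_one]

theorem SqData.pol_add {T W V : Type*} [Group T] [AddCommGroup W] [AddCommGroup V] {Q : W → V} (D : SqData T W V Q)
    (w w' v : W) : pol Q (w + w') v = pol Q w v + pol Q w' v := by
  obtain ⟨s, hs⟩ := D.surj (Multiplicative.ofAdd w)
  obtain ⟨s', hs'⟩ := D.surj (Multiplicative.ofAdd w')
  obtain ⟨t, ht⟩ := D.surj (Multiplicative.ofAdd v)
  have h1 := D.comm_eq s t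
  have h2 := D.comm_eq s' t
  have h3 := D.comm_eq (s * s') t
  rw [map_mul] at h3
  rw [hs, ht] at h1
  rw [hs', ht] at h2
  rw [hs, hs', ht] at h3
  have h4 : t * (s * s') = s * s' * t * (D.ι (Multiplicative.ofAdd (pol Q w' v)) * D.ι (Multiplicative.ofAdd (pol Q w v))) := by
    have h5 := D.central (Multiplicative.ofAdd (pol Q w v)) s'
    calc t * (s * s') = (t * s) * s' := by group
      _ = s * t * (D.ι (Multiplicative.ofAdd (pol Q w v)) * s') := by rw [h1]; simp only [mul_assoc]; rfl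
      _ = s * (t * s') * D.ι (Multiplicative.ofAdd (pol Q w v)) := by rw [h5]; group
      _ = s * (s' * t * D.ι (Multiplicative.ofAdd (pol Q w' v))) * D.ι (Multiplicative.ofAdd (pol Q w v)) := by
        rw [h2]; rfl
      _ = _ := by group
  rw [h3] at h4
  have h5 := mul_left_cancel h4
  rw [← map_mul D.ι] at h5
  have h6 := D.inj h5
  have h7 : pol Q (w + w') v = pol Q w' v + pol Q w v := h6
  rw [h7, add_comm]

theorem SqData.pol_symm {W V : Type*} [AddCommGroup W] [AddCommGroup V] (Q : W → V) (w w' : W) : pol Q w w' = pol Q w' w := by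
  rw [pol, pol, add_comm w]; abel

end Cfsg.Agent.H21.Sq

namespace Cfsg.Agent.H21.Fpf3

open Sq TF

variable {T : Type*} [Group T] [Finite T] {ρ : MulAut T}

theorem comm3 (free : ∀ x : T, ρ x = x → x = 1) (h3 : ∀ x, ρ (ρ (ρ x)) = x) (t : T) :
    t * ρ t * ρ (ρ t) = 1 ∧ t * ρ t = ρ t * t := by
  have hc : ∀ t, t * ρ t * ρ (ρ t) = 1 := by
    intro t
    obtain ⟨n, -, hn⟩ := surj_of_free free ⊤ (fun _ _ => Subgroup.mem_top _) (Subgroup.mem_top t)
    rw [← hn]
    simp only [map_mul, map_inv, h3]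
    group
  have hc' : ∀ t, t * ρ (ρ t) * ρ t = 1 := by
    intro t
    have free2 : ∀ x : T, (ρ * ρ) x = x → x = 1 := by
      intro x hx
      apply free
      have h1 : ρ (ρ x) = x := hx
      have h2 := congrArg ρ h1
      rw [h3] at h2
      exact h2.symm
    obtain ⟨n, -, hn⟩ := surj_of_free free2 ⊤ (fun _ _ => Subgroup.mem_top _) (Subgroup.mem_top t)
    have hn' : n⁻¹ * ρ (ρ n) = t := hn
    rw [← hn']
    simp only [map_mul, map_inv, h3]
    group
  refine ⟨hc t, ?_⟩
  have h1 := hc t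
  have h2 := hc' t
  have h4 : ρ t * ρ (ρ t) = ρ (ρ t) * ρ t := by
    rw [mul_assoc] at h1 h2
    exact mul_left_cancel (h1.trans h2.symm)
  have h5 := congrArg (fun z => ρ (ρ z)) h4
  simp only [map_mul, h3] at h5
  exact h5

theorem center_maps : ∀ x ∈ Subgroup.center T, ρ x ∈ Subgroup.center T := by
  intro z hz
  rw [Subgroup.mem_center_iff] at hz ⊢
  intro g
  obtain ⟨g, rfl⟩ := ρ.surjective g
  rw [← map_mul, ← map_mul, hz]

theorem index_ne_four (free : ∀ x : T, ρ x = x → x = 1) (h3 : ∀ x, ρ (ρ (ρ x)) = x)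
    (hc : Nat.card T = 4 * Nat.card (Subgroup.center T)) : False := by
  obtain ⟨-, -, h⟩ := mod_cycle free (Subgroup.center T) ⊤ le_top center_maps (fun _ _ => Subgroup.mem_top _)
    (by rw [Subgroup.card_top]; exact hc)
  obtain ⟨x, hx⟩ : ∃ x, x ∉ Subgroup.center T := by
    by_contra hcon
    push Not at hcon
    have : Subgroup.center T = ⊤ := by
      rw [Subgroup.eq_top_iff']; exact hcon
    rw [this, Subgroup.card_top] at hc
    have : 0 < Nat.card T := Nat.card_pos
    omega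
  apply hx
  rw [Subgroup.mem_center_iff]
  have c1 := (comm3 free h3 x).2
  have c2 : x * ρ (ρ x) = ρ (ρ x) * x := by
    have := (comm3 free h3 (ρ (ρ x))).2
    rw [h3] at this
    exact this.symm
  have key : ∀ a : T, x * a = a * x → ∀ y, a⁻¹ * y ∈ Subgroup.center T → y * x = x * y := by
    intro a ha y hy
    have h1 := Subgroup.mem_center_iff.1 hy x
    calc y * x = a * ((a⁻¹ * y) * x) := by group
      _ = a * (x * (a⁻¹ * y)) := by rw [← h1]
      _ = (a * x) * (a⁻¹ * y) := by group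
      _ = x * y := by rw [← ha]; group
  intro y
  rcases h x (Subgroup.mem_top _) hx y (Subgroup.mem_top _) with h1 | h1 | h1 | h1
  · exact ((Subgroup.mem_center_iff.1 h1) x).symm
  · exact key x rfl y h1
  · exact key _ c1 y h1
  · exact key _ c2 y h1

theorem card_mod (free : ∀ x : T, ρ x = x → x = 1) (h3 : ∀ x, ρ (ρ (ρ x)) = x) (H : Subgroup T) (hH : ∀ x ∈ H, ρ x ∈ H) :
    Nat.card H % 3 = 1 := by
  classical
  have := Fintype.ofFinite H
  have hp : Fact (Nat.Prime 3) := ⟨Nat.prime_three⟩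
  let f : Function.End H := fun x => ⟨ρ x, hH _ x.2⟩
  have hf : f ^ 3 ^ 1 = 1 := by
    funext x
    apply Subtype.ext
    exact h3 x
  have h1 := Equiv.Perm.card_fixedPoints_modEq hf
  have h2 : Fintype.card (Function.fixedPoints f) = 1 := by
    rw [Fintype.card_eq_one_iff]
    refine ⟨⟨1, Subtype.ext (map_one ρ)⟩, ?_⟩
    rintro ⟨x, hx⟩
    apply Subtype.ext
    apply Subtype.ext
    exact free _ (congrArg Subtype.val hx)
  rw [h2, ← Nat.card_eq_fintype_card] at h1
  exact h1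

theorem pow_cases {k m : ℕ} (hk : k ∣ 2 ^ m) (h3 : k % 3 = 1) : ∃ j, 2 * j ≤ m ∧ k = 4 ^ j := by
  obtain ⟨i, hi, rfl⟩ := (Nat.dvd_prime_pow Nat.prime_two).1 hk
  obtain ⟨j, rfl | rfl⟩ := Nat.even_or_odd' i
  · exact ⟨j, hi, by rw [pow_mul]; norm_num⟩
  · exfalso
    rw [pow_succ, pow_mul] at h3
    have : (2 ^ 2) ^ j % 3 = 1 := by
      rw [Nat.pow_mod]; norm_num
    omega

/-- nonabelian groups of order 64 -/
theorem struct (hT : Nat.card T = 64) (hna : ∃ x y : T, x * y ≠ y * x) (free : ∀ x : T, ρ x = x → x = 1)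
    (h3 : ∀ x, ρ (ρ (ρ x)) = x) :
    Nat.card (Subgroup.center T) = 4 ∧ (∀ x y : T, x⁻¹ * y⁻¹ * x * y ∈ Subgroup.center T) ∧
      (∀ z ∈ Subgroup.center T, z * z = 1) ∧ ∀ x : T, x * x ∈ Subgroup.center T := by
  have hp : Fact (Nat.Prime 2) := ⟨Nat.prime_two⟩
  have hpg : IsPGroup 2 T := IsPGroup.of_card (n := 6) (by rw [hT]; norm_num)
  have : Nontrivial T := by
    obtain ⟨x, y, hxy⟩ := hna
    exact ⟨x * y, y * x, hxy⟩
  have hZ1 := hpg.center_nontrivial
  have hdvd : Nat.card (Subgroup.center T) ∣ 2 ^ 6 := by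
    have := Subgroup.card_subgroup_dvd_card (Subgroup.center T)
    rw [hT] at this
    exact this
  obtain ⟨j, hj, hZ⟩ := pow_cases hdvd (card_mod free h3 _ center_maps)
  have hj0 : j ≠ 0 := by
    rintro rfl
    rw [pow_zero] at hZ
    have := Finite.one_lt_card_iff_nontrivial.2 hZ1
    omega
  have hj3 : j ≠ 3 := by
    rintro rfl
    obtain ⟨x, y, hxy⟩ := hna
    apply hxy
    have h1 : Subgroup.center T = ⊤ := Subgroup.eq_top_of_card_eq _ (by rw [hZ, hT]; norm_num)
    have h2 : y ∈ Subgroup.center T := by rw [h1]; exact Subgroup.mem_top _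
    exact Subgroup.mem_center_iff.1 h2 x
  have hj2 : j ≠ 2 := by
    rintro rfl
    exact index_ne_four free h3 (by rw [hZ, hT]; norm_num)
  have hj1 : j = 1 := by omega
  subst hj1
  rw [pow_one] at hZ
  -- the quotient
  have hZmaps : ∀ x ∈ Subgroup.center T, ρ x ∈ Subgroup.center T := center_maps
  let ρq := qAut ρ (Subgroup.center T) hZmaps
  have hqfree : ∀ x, ρq x = x → x = 1 := qAut_free free _ hZmaps
  have hq3 : ∀ x, ρq (ρq (ρq x)) = x := by
    intro x
    induction x using QuotientGroup.induction_on with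
    | H x =>
      show qAut ρ (Subgroup.center T) hZmaps (qAut ρ (Subgroup.center T) hZmaps (qAut ρ (Subgroup.center T) hZmaps (QuotientGroup.mk x))) = _
      rw [qAut_mk, qAut_mk, qAut_mk, h3]
  have hq16 : Nat.card (T ⧸ Subgroup.center T) = 16 := by
    have := Subgroup.card_eq_card_quotient_mul_card_subgroup (Subgroup.center T)
    rw [hT, hZ] at this
    omega
  have hqp : IsPGroup 2 (T ⧸ Subgroup.center T) := hpg.to_quotient _
  have : Nontrivial (T ⧸ Subgroup.center T) := by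
    rw [← Finite.one_lt_card_iff_nontrivial, hq16]; norm_num
  have hZq1 := hqp.center_nontrivial
  have hdvdq : Nat.card (Subgroup.center (T ⧸ Subgroup.center T)) ∣ 2 ^ 4 := by
    have := Subgroup.card_subgroup_dvd_card (Subgroup.center (T ⧸ Subgroup.center T))
    rw [hq16] at this
    exact this
  obtain ⟨i, hi, hZq⟩ := pow_cases hdvdq (card_mod hqfree hq3 _ center_maps)
  have hi0 : i ≠ 0 := by
    rintro rfl
    rw [pow_zero] at hZq
    have := Finite.one_lt_card_iff_nontrivial.2 hZq1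
    omega
  have hi1 : i ≠ 1 := by
    rintro rfl
    exact index_ne_four hqfree hq3 (by rw [hZq, hq16]; norm_num)
  have hi2 : i = 2 := by omega
  subst hi2
  have hab : ∀ x y : T, x⁻¹ * y⁻¹ * x * y ∈ Subgroup.center T := by
    intro x y
    have h1 : Subgroup.center (T ⧸ Subgroup.center T) = ⊤ := Subgroup.eq_top_of_card_eq _ (by rw [hZq, hq16]; norm_num)
    have h2 : (QuotientGroup.mk y : T ⧸ Subgroup.center T) ∈ Subgroup.center (T ⧸ Subgroup.center T) := by
      rw [h1]; exact Subgroup.mem_top _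
    have h4 := Subgroup.mem_center_iff.1 h2 (QuotientGroup.mk x)
    rw [← QuotientGroup.mk_mul, ← QuotientGroup.mk_mul, eq_comm, QuotientGroup.eq] at h4
    have : x⁻¹ * y⁻¹ * x * y = (y * x)⁻¹ * (x * y) := by group
    rw [this]; exact h4
  obtain ⟨hZ2, -, -⟩ := four_cycle (Subgroup.center T) ρ hZ hZmaps (fun v _ hv => free v hv)
  refine ⟨hZ, hab, hZ2, fun x => ?_⟩
  rw [Subgroup.mem_center_iff]
  intro y
  have h1 := hab x y
  have h2 := hZ2 _ h1
  have h4 := Subgroup.mem_center_iff.1 h1 x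
  -- `[x², y] = [x, y]²`
  have h5 : (x * x)⁻¹ * y⁻¹ * (x * x) * y = 1 := by
    calc (x * x)⁻¹ * y⁻¹ * (x * x) * y = x⁻¹ * (x⁻¹ * y⁻¹ * x * y) * (y⁻¹ * x * y) := by group
      _ = x⁻¹ * ((x⁻¹ * y⁻¹ * x * y) * x) * (x⁻¹ * y⁻¹ * x * y) := by group
      _ = x⁻¹ * (x * (x⁻¹ * y⁻¹ * x * y)) * (x⁻¹ * y⁻¹ * x * y) := by rw [h4]
      _ = (x⁻¹ * y⁻¹ * x * y) * (x⁻¹ * y⁻¹ * x * y) := by group
      _ = 1 := h2
  calc y * (x * x) = (y * (x * x)) * ((x * x)⁻¹ * y⁻¹ * (x * x) * y) := by rw [h5, mul_one]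
    _ = x * x * y := by group

end Cfsg.Agent.H21.Fpf3
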