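import Cfsg.Agent.H21.SI6

/-! Identification. -/

set_option autoImplicit false

namespace Cfsg.Agent.H21.SI

open AStr Str Sq

universe u v

/-- the general form `y² + yz + e z²` -/
def qf {F : Type v} [Field F] (e : F) (w : F × F) : F := w.1 * w.1 + w.1 * w.2 + e * (w.2 * w.2)

theorem iso_hyp {F : Type v} [Field F] [CharP F 2] {T₁ T₂ : Type*} [Group T₁] [Group T₂] [Finite T₁] [Finite T₂] {e : F}
    (D₁ : SqData T₁ (F × F) F (qf e)) (D₂ : SqData T₂ (F × F) F (fun w => w.1 * w.2)) {r : F} (hr : r * r + r = e) :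
    Nonempty (T₁ ≃* T₂) := by
  let A : F × F ≃+ F × F :=
    { toFun := fun w => (w.1 + r * w.2, w.1 + (r + 1) * w.2)
      invFun := fun w => (w.1 + r * (w.1 + w.2), w.1 + w.2)
      left_inv := fun w => by
        have h1 : w.1 + r * w.2 + (w.1 + (r + 1) * w.2) = w.2 + 2 * (w.1 + r * w.2) := by ring
        ext
        · show w.1 + r * w.2 + r * (w.1 + r * w.2 + (w.1 + (r + 1) * w.2)) = w.1
          rw [h1, CharTwo.two_eq_zero, zero_mul, add_zero]
          have : w.1 + r * w.2 + r * w.2 = w.1 + 2 * (r * w.2) := by ring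
          rw [this, CharTwo.two_eq_zero, zero_mul, add_zero]
        · show w.1 + r * w.2 + (w.1 + (r + 1) * w.2) = w.2
          rw [h1, CharTwo.two_eq_zero, zero_mul, add_zero]
      right_inv := fun w => by
        ext
        · show w.1 + r * (w.1 + w.2) + r * (w.1 + w.2) = w.1
          have : w.1 + r * (w.1 + w.2) + r * (w.1 + w.2) = w.1 + 2 * (r * (w.1 + w.2)) := by ring
          rw [this, CharTwo.two_eq_zero, zero_mul, add_zero]
        · show w.1 + r * (w.1 + w.2) + (r + 1) * (w.1 + w.2) = w.2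
          have : w.1 + r * (w.1 + w.2) + (r + 1) * (w.1 + w.2) = w.2 + 2 * (w.1 + r * (w.1 + w.2)) := by ring
          rw [this, CharTwo.two_eq_zero, zero_mul, add_zero]
      map_add' := fun x y => by
        ext
        · show x.1 + y.1 + r * (x.2 + y.2) = x.1 + r * x.2 + (y.1 + r * y.2)
          ring
        · show x.1 + y.1 + (r + 1) * (x.2 + y.2) = x.1 + (r + 1) * x.2 + (y.1 + (r + 1) * y.2)
          ring }
  obtain ⟨φ, -, -⟩ := iso_of_sq D₁ D₂ A (AddEquiv.refl F) (fun w => by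
    show (w.1 + r * w.2) * (w.1 + (r + 1) * w.2) = w.1 * w.1 + w.1 * w.2 + e * (w.2 * w.2)
    rw [← hr]
    have : (w.1 + r * w.2) * (w.1 + (r + 1) * w.2) = w.1 * w.1 + w.1 * w.2 + (r * r + r) * (w.2 * w.2) + 2 * (r * w.1 * w.2) := by ring
    rw [this, CharTwo.two_eq_zero, zero_mul, add_zero])
  exact ⟨φ⟩

theorem iso_ell {E : Type v} [Field E] [Finite E] [CharP E 2] (φ : E ≃+* E) (h2 : ∀ x, φ (φ x) = x) (hφ : φ ≠ 1)
    {T₁ T₂ : Type*} [Group T₁] [Group T₂] [Finite T₁] [Finite T₂] {e : fixF φ}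
    (hcard : Nat.card E = Nat.card (fixF φ) * Nat.card (fixF φ))
    (D₁ : SqData T₁ (fixF φ × fixF φ) (fixF φ) (qf e)) (D₂ : SqData T₂ E (fixedAdd φ) (nrm φ h2))
    (he : ∀ r : fixF φ, r * r + r ≠ e) : Nonempty (T₁ ≃* T₂) := by
  obtain ⟨θ, hθ, hθ'⟩ := exists_theta φ h2 hφ e he
  let A0 : fixF φ × fixF φ →+ E :=
    { toFun := fun w => (w.1 : E) + θ * w.2
      map_zero' := by simp
      map_add' := fun x y => by
        show ((x.1 : E) + y.1) + θ * ((x.2 : E) + y.2) = _
        ring }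
  have hφA : ∀ w, φ (A0 w) = (w.1 : E) + (θ + 1) * w.2 := by
    intro w
    show φ ((w.1 : E) + θ * w.2) = _
    have h1 : φ (w.1 : E) = w.1 := w.1.2
    have h3 : φ (w.2 : E) = w.2 := w.2.2
    rw [map_add, map_mul, hθ', h1, h3]
  have hinj : Function.Injective A0 := by
    rw [injective_iff_map_eq_zero]
    intro w hw
    have h1 := hφA w
    rw [hw, map_zero] at h1
    have h3 : (w.1 : E) + θ * w.2 = 0 := hw
    have h4 : (w.2 : E) = 0 := by linear_combination h3 * (-1) - h1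
    have h5 : (w.1 : E) = 0 := by rw [h4, mul_zero, add_zero] at h3; exact h3
    exact Prod.ext (Subtype.ext h5) (Subtype.ext h4)
  have hbij : Function.Bijective A0 := by
    refine (Nat.bijective_iff_injective_and_card A0).2 ⟨hinj, ?_⟩
    rw [Nat.card_prod, hcard]
  let A : fixF φ × fixF φ ≃+ E := AddEquiv.ofBijective A0 hbij
  let B : fixF φ ≃+ fixedAdd φ :=
    { toFun := fun x => ⟨x.1, x.2⟩
      invFun := fun x => ⟨x.1, x.2⟩
      left_inv := fun _ => rfl
      right_inv := fun _ => rfl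
      map_add' := fun _ _ => rfl }
  obtain ⟨ψ, -, -⟩ := iso_of_sq D₁ D₂ A B (fun w => by
    apply Subtype.ext
    show A0 w * φ (A0 w) = ((w.1 : E) * w.1 + w.1 * w.2 + e * (w.2 * w.2))
    rw [hφA]
    show ((w.1 : E) + θ * w.2) * ((w.1 : E) + (θ + 1) * w.2) = _
    rw [← hθ]
    have : ((w.1 : E) + θ * w.2) * ((w.1 : E) + (θ + 1) * w.2) =
      (w.1 : E) * w.1 + w.1 * w.2 + (θ * θ + θ) * (w.2 * w.2) + 2 * (θ * w.1 * w.2) := by ring
    rw [this, CharTwo.two_eq_zero, zero_mul, add_zero])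
  exact ⟨ψ⟩

theorem card_fixF {E : Type v} [Field E] [Fintype E] {q : ℕ} (hE : Fintype.card E = q ^ 2) : Nat.card (fixF (conjE hE)) = q :=
  Uni.card_fixed hE

/-- the dichotomy for nonabelian groups -/
theorem nonab_final {Q : Type u} [Group Q] [Finite Q] (hQ : IsPGroup 2 Q) (hna : ∃ x y : Q, x * y ≠ y * x) {n : ℕ} (hn : 2 ≤ n)
    (α ρ : MulAut Q) (hα : ∀ x, α (α x) = x) (hρ : orderOf ρ = 2 ^ n - 1) (hc : Commute α ρ)
    (C : Subgroup Q) (hC : ∀ x : Q, x ∈ C ↔ α x = x) (hCc : IsMulCommutative C) (hCcard : Nat.card C = 2 ^ n)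
    (htr : ∀ x y : Q, x ∈ C → y ∈ C → x ≠ 1 → y ≠ 1 → ∃ k : ℕ, (ρ ^ k) x = y)
    {E : Type v} [Field E] [Fintype E] [CharP E 2] (hE : Fintype.card E = (2 ^ n) ^ 2) :
    ∃ e : fixF (conjE hE), Nonempty (SqData Q (fixF (conjE hE) × fixF (conjE hE)) (fixF (conjE hE)) (qf e)) := by
  have hq : 4 ≤ 2 ^ n := by
    calc 4 = 2 ^ 2 := by norm_num
      _ ≤ 2 ^ n := Nat.pow_le_pow_right (by norm_num) hn
  have hcF := card_fixF hE
  have : CharP (fixF (conjE hE)) 2 := charP_fixF _
  obtain ⟨lam, D, hl, hDα, hDρ⟩ := exists_cfg α ρ hα hc hρ (by omega) C hC hCc (by rw [hCcard]; omega) htr (fixF (conjE hE))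
    (by rw [hcF]; omega)
  have hne : ∃ x, D.α x ≠ x := by
    by_contra hcon
    push Not at hcon
    obtain ⟨x, y, hxy⟩ := hna
    apply hxy
    have hx : x ∈ C := by rw [hC, ← hDα]; exact hcon x
    have hy : y ∈ C := by rw [hC, ← hDα]; exact hcon y
    exact congrArg Subtype.val (hCc.is_comm.comm ⟨x, hx⟩ ⟨y, hy⟩)
  have hinj : Function.Injective D.ρ := fun a b h => by
    rw [hDρ, hDρ] at h
    exact ρ.injective h
  obtain ⟨A, _, _, S, m, L, hSα, hSρ, -⟩ := exists_str D hQ hl hinj hne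
  have h4 : ∃ t : fixF (conjE hE), t ≠ 0 ∧ t ≠ 1 := by
    by_contra hcon
    push Not at hcon
    have h1 : Nat.card (fixF (conjE hE)) ≤ 2 := by
      have h2 : Function.Surjective (fun b : Bool => if b then (1 : fixF (conjE hE)) else 0) := by
        intro t
        by_cases ht : t = 0
        · exact ⟨false, by simp [ht]⟩
        · exact ⟨true, by simp [hcon t ht]⟩
      have h3 := Nat.card_le_card_of_surjective _ h2
      simpa using h3
    rw [hcF] at h1
    omega
  obtain ⟨rfl, hg, hsq⟩ := nonab S hl h4 L hna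
  have hodd : Odd (2 ^ n - 1) := by
    have : Even (2 ^ n) := (Nat.even_pow.2 ⟨even_two, by omega⟩)
    exact Nat.Even.sub_odd (by omega) this odd_one
  have hit : ∀ k x, (S.ρT^[k]) x = (ρ ^ k) x := by
    intro k
    induction k with
    | zero => intro x; rfl
    | succ k ih =>
      intro x
      rw [Function.iterate_succ_apply', ih, hSρ, hDρ, pow_succ']; rfl
  exact quad_data S hl L hg hsq hodd (fun x => by rw [hit, ← hρ, pow_orderOf_eq_one]; rfl)

end Cfsg.Agent.H21.SI
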