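import Cfsg.Agent.H21.Fpf3
import Cfsg.Agent.H21.SI7

/-! Groups of order 64 with a fixed-point-free automorphism of order three: coordinates and identification. -/

set_option autoImplicit false

namespace Cfsg.Agent.H21.Fpf3

open Sq TF Four

variable {T : Type*} [Group T] [Finite T] {ρ : MulAut T}

theorem data (hT : Nat.card T = 64) (hna : ∃ x y : T, x * y ≠ y * x) (free : ∀ x : T, ρ x = x → x = 1)
    (h3 : ∀ x, ρ (ρ (ρ x)) = x) {F : Type*} [Field F] [Finite F] (hF : Nat.card F = 4) {lam : F} (hl : lam * lam = lam + 1) :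
    ∃ (Q : F × F → F) (D : SqData T (F × F) F Q),
      (∀ t, Multiplicative.toAdd (D.π (ρ t)) = (lam * (Multiplicative.toAdd (D.π t)).1, lam * (Multiplicative.toAdd (D.π t)).2)) ∧
      (∀ v, ρ (D.ι (Multiplicative.ofAdd v)) = D.ι (Multiplicative.ofAdd (lam * lam * v))) := by
  classical
  obtain ⟨hZ, hab, hZ2, hsq⟩ := struct hT hna free h3
  have hZmaps : ∀ x ∈ Subgroup.center T, ρ x ∈ Subgroup.center T := center_maps
  have hcommq : ∀ x y : T ⧸ Subgroup.center T, x * y = y * x := by
    intro x y
    induction x using QuotientGroup.induction_on with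
    | H x =>
      induction y using QuotientGroup.induction_on with
      | H y =>
        rw [← QuotientGroup.mk_mul, ← QuotientGroup.mk_mul, eq_comm, QuotientGroup.eq]
        have : (y * x)⁻¹ * (x * y) = x⁻¹ * y⁻¹ * x * y := by group
        rw [this]; exact hab x y
  let _ : CommGroup (T ⧸ Subgroup.center T) := { (inferInstance : Group (T ⧸ Subgroup.center T)) with mul_comm := hcommq }
  have hq16 : Nat.card (T ⧸ Subgroup.center T) = 16 := by
    have := Subgroup.card_eq_card_quotient_mul_card_subgroup (Subgroup.center T)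
    rw [hT, hZ] at this
    omega
  let R : Additive (T ⧸ Subgroup.center T) →+ Additive (T ⧸ Subgroup.center T) :=
    MonoidHom.toAdditive (qAut ρ (Subgroup.center T) hZmaps).toMonoidHom
  let mk : T → Additive (T ⧸ Subgroup.center T) := fun t => Additive.ofMul (QuotientGroup.mk t)
  have mk_mul : ∀ x y, mk (x * y) = mk x + mk y := fun _ _ => rfl
  have mk_surj : Function.Surjective mk := fun w => by
    obtain ⟨t, ht⟩ := QuotientGroup.mk_surjective (Additive.toMul w)
    exact ⟨t, congrArg Additive.ofMul ht⟩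
  have mk_eq : ∀ x y : T, mk x = mk y ↔ x⁻¹ * y ∈ Subgroup.center T := fun x y => QuotientGroup.eq
  have hRmk : ∀ t, R (mk t) = mk (ρ t) := fun t => congrArg Additive.ofMul (qAut_mk ρ _ hZmaps t)
  have hW2 : ∀ w : Additive (T ⧸ Subgroup.center T), w + w = 0 := by
    intro w
    obtain ⟨t, rfl⟩ := mk_surj w
    rw [← mk_mul]
    exact (mk_eq _ _).2 (by rw [mul_one]; exact Subgroup.inv_mem _ (hsq t)) |>.trans rfl
  have hWR : ∀ w, R (R w) = R w + w := by
    intro w
    obtain ⟨t, rfl⟩ := mk_surj w
    rw [hRmk, hRmk]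
    have h1 := (comm3 free h3 t).1
    have h2 : mk t + mk (ρ t) + mk (ρ (ρ t)) = 0 := by
      rw [← mk_mul, ← mk_mul, h1]; rfl
    have h4 := eq_neg_of_add_eq_zero_right h2
    rw [h4, neg_eq_of_add_eq_zero_left (hW2 _), add_comm]
  obtain ⟨eW, heW⟩ := coord hF hl R hWR hW2 (d := 2) (by
    show Nat.card (T ⧸ Subgroup.center T) = 4 ^ 2
    rw [hq16]; norm_num)
  -- the centre
  let _ : CommGroup ↥(Subgroup.center T) := { (inferInstance : Group ↥(Subgroup.center T)) with
    mul_comm := fun a b => Subtype.ext ((Subgroup.mem_center_iff.1 b.2) a) }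
  let ρZ : Subgroup.center T →* Subgroup.center T := (sAut ρ (Subgroup.center T) hZmaps).toMonoidHom
  have hρZ : ∀ z, ((ρZ z : Subgroup.center T) : T) = ρ z := fun z => rfl
  let R' : Additive (Subgroup.center T) →+ Additive (Subgroup.center T) := MonoidHom.toAdditive (ρZ.comp ρZ)
  have hV2 : ∀ w : Additive (Subgroup.center T), w + w = 0 := by
    intro w
    apply Subtype.ext (a1 := Additive.toMul (w + w))
    exact hZ2 _ (Additive.toMul w).2
  have hVR : ∀ w : Additive (Subgroup.center T), R' (R' w) = R' w + w := by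
    intro w
    apply Subtype.ext (a1 := Additive.toMul (R' (R' w)))
    show ρ (ρ (ρ (ρ ((Additive.toMul w : Subgroup.center T) : T)))) =
      ρ (ρ ((Additive.toMul w : Subgroup.center T) : T)) * ((Additive.toMul w : Subgroup.center T) : T)
    rw [h3]
    set z : T := ((Additive.toMul w : Subgroup.center T) : T)
    have hz : z ∈ Subgroup.center T := (Additive.toMul w : Subgroup.center T).2
    have h1 := (comm3 free h3 z).1
    have e1 : ρ (ρ z) = (z * ρ z)⁻¹ := eq_inv_of_mul_eq_one_right h1
    rw [e1, mul_inv_rev, inv_mul_cancel_right]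
    have := hZ2 _ (hZmaps z hz)
    exact (inv_eq_of_mul_eq_one_right this).symm
  obtain ⟨eV, heV⟩ := coord (W := Additive (Subgroup.center T)) hF hl R' hVR hV2 (d := 1) (by
    show Nat.card (Subgroup.center T) = 4 ^ 1
    rw [hZ]; norm_num)
  -- the maps
  let π : T →* Multiplicative (F × F) := MonoidHom.mk' (fun t => Multiplicative.ofAdd (eW (mk t) 0, eW (mk t) 1)) (by
    intro x y
    rw [mk_mul, map_add]; rfl)
  let ι : Multiplicative F →* T := MonoidHom.mk' (fun v =>
    ((Additive.toMul (eV.symm (fun _ => Multiplicative.toAdd v)) : Subgroup.center T) : T)) (by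
    intro v w
    have : (fun _ : Fin 1 => Multiplicative.toAdd (v * w)) = (fun _ => Multiplicative.toAdd v) + (fun _ => Multiplicative.toAdd w) := rfl
    rw [this, map_add]; rfl)
  have hπ : ∀ t, Multiplicative.toAdd (π t) = (eW (mk t) 0, eW (mk t) 1) := fun _ => rfl
  have hπ1 : ∀ t, π t = 1 ↔ t ∈ Subgroup.center T := by
    intro t
    constructor
    · intro h
      have h1 : (eW (mk t) 0, eW (mk t) 1) = (0, 0) := Multiplicative.ofAdd.injective h
      have h2 : eW (mk t) = 0 := by
        funext i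
        fin_cases i
        · exact congrArg Prod.fst h1
        · exact congrArg Prod.snd h1
      have h4 : mk t = mk 1 := eW.injective (by rw [h2]; exact (map_zero eW).symm)
      have := (mk_eq _ _).1 h4
      rw [mul_one] at this
      exact inv_mem_iff.1 this
    · intro h
      have h4 : mk t = 0 := (mk_eq t 1).2 (by rw [mul_one]; exact Subgroup.inv_mem _ h)
      show Multiplicative.ofAdd (eW (mk t) 0, eW (mk t) 1) = 1
      rw [h4, map_zero]; rfl
  have hι : ∀ z (hz : z ∈ Subgroup.center T), ι (Multiplicative.ofAdd (eV (Additive.ofMul ⟨z, hz⟩) 0)) = z := by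
    intro z hz
    show ((Additive.toMul (eV.symm (fun _ => eV (Additive.ofMul ⟨z, hz⟩) 0)) : Subgroup.center T) : T) = z
    have : (fun _ : Fin 1 => eV (Additive.ofMul (⟨z, hz⟩ : Subgroup.center T)) 0) = eV (Additive.ofMul ⟨z, hz⟩) := by
      funext i
      fin_cases i
      rfl
    rw [this, eV.symm_apply_apply]; rfl
  have hιmem : ∀ v, ι v ∈ Subgroup.center T := fun v => (Additive.toMul (eV.symm (fun _ => Multiplicative.toAdd v)) : Subgroup.center T).2
  have hιinj : Function.Injective ι := by
    intro v w h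
    have h1 := Subtype.ext (a1 := Additive.toMul (eV.symm (fun _ => Multiplicative.toAdd v)))
      (a2 := Additive.toMul (eV.symm (fun _ => Multiplicative.toAdd w))) h
    have h2 := eV.symm.injective h1
    exact congrFun h2 0
  have hπsurj : Function.Surjective π := by
    intro w
    obtain ⟨t, ht⟩ := mk_surj (eW.symm ![(Multiplicative.toAdd w).1, (Multiplicative.toAdd w).2])
    refine ⟨t, ?_⟩
    show Multiplicative.ofAdd (eW (mk t) 0, eW (mk t) 1) = w
    rw [ht, eW.apply_symm_apply]; rfl
  have hπsurj' := hπsurj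
  choose τ hτ using hπsurj'
  let Q : F × F → F := fun w => eV (Additive.ofMul ⟨τ (Multiplicative.ofAdd w) * τ (Multiplicative.ofAdd w), hsq _⟩) 0
  refine ⟨Q, ⟨π, ι, hπsurj, hιinj, ?_, ?_, ?_, ?_⟩, ?_, ?_⟩
  · intro t
    rw [hπ1]
    constructor
    · intro h
      exact ⟨_, hι t h⟩
    · rintro ⟨v, rfl⟩
      exact hιmem v
  · intro v t
    exact ((Subgroup.mem_center_iff.1 (hιmem v)) t).symm
  · intro v
    have := two_zero hF
    linear_combination v * this
  · intro t
    have h1 : (τ (π t))⁻¹ * t ∈ Subgroup.center T := by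
      rw [← hπ1, map_mul, map_inv, hτ, inv_mul_cancel]
    have h2 : t * t = τ (π t) * τ (π t) := by
      have h4 := Subgroup.mem_center_iff.1 h1 (τ (π t))
      have h5 := hZ2 _ h1
      calc t * t = τ (π t) * ((τ (π t))⁻¹ * t) * τ (π t) * ((τ (π t))⁻¹ * t) := by group
        _ = τ (π t) * (((τ (π t))⁻¹ * t) * τ (π t)) * ((τ (π t))⁻¹ * t) := by group
        _ = τ (π t) * (τ (π t) * ((τ (π t))⁻¹ * t)) * ((τ (π t))⁻¹ * t) := by rw [h4]
        _ = τ (π t) * τ (π t) * (((τ (π t))⁻¹ * t) * ((τ (π t))⁻¹ * t)) := by group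
        _ = τ (π t) * τ (π t) := by rw [h5, mul_one]
    rw [h2]
    exact (hι _ _).symm
  · intro t
    show (eW (mk (ρ t)) 0, eW (mk (ρ t)) 1) = (lam * eW (mk t) 0, lam * eW (mk t) 1)
    rw [← hRmk, heW, heW]
  · intro v
    have h1 : ∀ z : Subgroup.center T, eV (Additive.ofMul (ρZ z)) 0 = lam * lam * eV (Additive.ofMul z) 0 := by
      intro z
      have e1 : Additive.ofMul (ρZ z) = R' (R' (Additive.ofMul z)) := by
        apply Subtype.ext (a1 := ρZ z)
        show ρ (z : T) = ρ (ρ (ρ (ρ (z : T))))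
        rw [h3]
      rw [e1, heV, heV, mul_assoc]
    set z : Subgroup.center T := Additive.toMul (eV.symm (fun _ => v)) with hz
    have h2 : eV (Additive.ofMul z) 0 = v := by
      show eV (eV.symm (fun _ => v)) 0 = v
      rw [eV.apply_symm_apply]
    have h4 := hι (ρ z) (hZmaps _ z.2)
    have h5 : eV (Additive.ofMul (⟨ρ z, hZmaps _ z.2⟩ : Subgroup.center T)) 0 = lam * lam * v := by
      have := h1 z
      rw [h2] at this
      exact this
    rw [h5] at h4
    exact h4.symm

end Cfsg.Agent.H21.Fpf3
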