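import Cfsg.Agent.H21.Fpf3b

/-! Binary quadratic forms over the field with four elements; identification of the groups. -/

set_option autoImplicit false

namespace Cfsg.Agent.H21.Sq

/-- change of variables -/
def SqData.trans {T W W' V V' : Type*} [Group T] [AddCommGroup W] [AddCommGroup W'] [AddCommGroup V] [AddCommGroup V']
    {Q : W → V} (D : SqData T W V Q) (A : W ≃+ W') (B : V' ≃+ V) (Q' : W' → V') (h : ∀ w, B (Q' (A w)) = Q w) :
    SqData T W' V' Q' where
  π := (AddEquiv.toMultiplicative A).toMonoidHom.comp D.π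
  ι := D.ι.comp (AddEquiv.toMultiplicative B).toMonoidHom
  surj := fun w => by
    obtain ⟨t, ht⟩ := D.surj ((AddEquiv.toMultiplicative A).symm w)
    exact ⟨t, by
      show (AddEquiv.toMultiplicative A) (D.π t) = w
      rw [ht, MulEquiv.apply_symm_apply]⟩
  inj := fun a b hab => (AddEquiv.toMultiplicative B).injective (D.inj hab)
  exact := fun t => by
    constructor
    · intro h
      have h1 : D.π t = 1 := (AddEquiv.toMultiplicative A).injective (by rw [map_one]; exact h)
      obtain ⟨v, hv⟩ := (D.exact t).1 h1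
      refine ⟨(AddEquiv.toMultiplicative B).symm v, ?_⟩
      show D.ι ((AddEquiv.toMultiplicative B) ((AddEquiv.toMultiplicative B).symm v)) = t
      rw [MulEquiv.apply_symm_apply, hv]
    · rintro ⟨v, rfl⟩
      show (AddEquiv.toMultiplicative A) (D.π (D.ι _)) = 1
      rw [D.pi_iota, map_one]
  central := fun v t => D.central _ t
  two := fun v => B.injective (by rw [map_add, D.two, map_zero])
  sq := fun t => by
    show t * t = D.ι (Multiplicative.ofAdd (B (Q' (A (Multiplicative.toAdd (D.π t))))))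
    rw [h]
    exact D.sq t

end Cfsg.Agent.H21.Sq

namespace Cfsg.Agent.H21.Fpf3

open Sq TF Four SI

variable {T : Type*} [Group T] [Finite T] {ρ : MulAut T} {F : Type*} [Field F] [Finite F] {lam : F} {Q : F × F → F}

/-- the squaring map is semi-homogeneous -/
theorem Q_lam (D : SqData T (F × F) F Q)
    (h1 : ∀ t, Multiplicative.toAdd (D.π (ρ t)) = (lam * (Multiplicative.toAdd (D.π t)).1, lam * (Multiplicative.toAdd (D.π t)).2))
    (h2 : ∀ v, ρ (D.ι (Multiplicative.ofAdd v)) = D.ι (Multiplicative.ofAdd (lam * lam * v))) (x y : F) :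
    Q (lam * x, lam * y) = lam * lam * Q (x, y) := by
  obtain ⟨t, ht⟩ := D.surj (Multiplicative.ofAdd (x, y))
  have e1 : ρ (t * t) = ρ t * ρ t := map_mul _ _ _
  rw [D.sq t, D.sq (ρ t), ht, h2, h1, ht] at e1
  exact (Multiplicative.ofAdd.injective (D.inj e1)).symm

theorem Q_zero (D : SqData T (F × F) F Q) : Q 0 = 0 := by
  have h := D.sq 1
  rw [map_one, one_mul] at h
  have h1 := D.inj ((map_one D.ι).trans h)
  exact h1.symm

theorem quad (hF : Nat.card F = 4) (hl : lam * lam = lam + 1) (D : SqData T (F × F) F Q)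
    (hQl : ∀ x y, Q (lam * x, lam * y) = lam * lam * Q (x, y)) :
    ∃ a b c : F, ∀ w, Q w = a * (w.1 * w.1) + b * (w.1 * w.2) + c * (w.2 * w.2) := by
  have := charp hF
  have hcs := four_cases hF hl
  have hpl : lam * (lam * lam) = 1 := by
    rw [hl]
    have h2 := two_zero hF
    linear_combination hl + lam * h2
  have hone : ∀ (f : F → F), f 0 = 0 → (∀ x, f (lam * x) = lam * lam * f x) → ∀ x, f x = f 1 * (x * x) := by
    intro f h0 hf x
    have e1 : f lam = lam * lam * f 1 := by
      have := hf 1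
      rwa [mul_one] at this
    rcases hcs x with rfl | rfl | rfl | rfl
    · rw [h0]; ring
    · rw [one_mul, mul_one]
    · rw [e1]; ring
    · rw [hf, e1]; ring
  have hQ1 : ∀ x, Q (x, 0) = Q (1, 0) * (x * x) := by
    apply hone (fun x => Q (x, 0)) (Q_zero D)
    intro x
    have := hQl x 0
    rwa [mul_zero] at this
  have hQ2 : ∀ y, Q (0, y) = Q (0, 1) * (y * y) := by
    apply hone (fun y => Q (0, y)) (Q_zero D)
    intro y
    have := hQl 0 y
    rwa [mul_zero] at this
  -- the cross term
  have hpol : ∀ x y, pol Q (x, 0) (0, y) = Q (x, y) - Q (x, 0) - Q (0, y) := by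
    intro x y
    rw [pol]
    congr 3
    ext <;> simp
  let f : F →+ F →+ F := AddMonoidHom.mk' (fun x => AddMonoidHom.mk' (fun y => pol Q (x, 0) (0, y) ^ 2) (by
      intro y y'
      have e1 : ((0, y + y') : F × F) = (0, y) + (0, y') := by simp
      rw [e1, SqData.pol_symm, D.pol_add, SqData.pol_symm, SqData.pol_symm Q (0, y'), CharTwo.add_sq])) (by
    intro x x'
    ext y
    show pol Q (x + x', 0) (0, y) ^ 2 = pol Q (x, 0) (0, y) ^ 2 + pol Q (x', 0) (0, y) ^ 2
    have e1 : ((x + x', 0) : F × F) = (x, 0) + (x', 0) := by simp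
    rw [e1, D.pol_add, CharTwo.add_sq])
  have hgen : Gen lam := by
    intro s hs
    rcases hcs s with rfl | rfl | rfl | rfl
    · exact absurd rfl hs
    · exact ⟨0, pow_zero _⟩
    · exact ⟨1, pow_one _⟩
    · exact ⟨2, pow_two _⟩
  obtain ⟨b, hb⟩ := ev_field hgen f (by
    intro x y
    show pol Q (lam * x, 0) (0, lam * y) ^ 2 = lam * pol Q (x, 0) (0, y) ^ 2
    have e1 : pol Q (lam * x, 0) (0, lam * y) = lam * lam * pol Q (x, 0) (0, y) := by
      rw [hpol, hpol, hQl]
      have e2 := hQl x 0
      have e3 := hQl 0 y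
      rw [mul_zero] at e2 e3
      rw [e2, e3]; ring
    rw [e1, mul_pow]
    have : (lam * lam) ^ 2 = lam * (lam * (lam * lam)) := by ring
    rw [this, hpl, mul_one])
  refine ⟨Q (1, 0), b, Q (0, 1), ?_⟩
  rintro ⟨x, y⟩
  have h1 := hb x y
  have h2 : pol Q (x, 0) (0, y) ^ 2 * pol Q (x, 0) (0, y) ^ 2 = b * (x * y) := h1
  have h3 : pol Q (x, 0) (0, y) ^ 2 * pol Q (x, 0) (0, y) ^ 2 = pol Q (x, 0) (0, y) ^ 4 := by ring
  rw [h3, pow4 hF, hpol, hQ1, hQ2] at h2
  show Q (x, y) = Q (1, 0) * (x * x) + b * (x * y) + Q (0, 1) * (y * y)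
  rw [← h2]; ring

/-- normal form -/
theorem normal_form [CharP F 2] (D : SqData T (F × F) F Q) {a b c : F} (hb : b ≠ 0)
    (hQ : ∀ w, Q w = a * (w.1 * w.1) + b * (w.1 * w.2) + c * (w.2 * w.2)) :
    ∃ e, Nonempty (SqData T (F × F) F (qf e)) := by
  -- the case `a ≠ 0`
  have key : ∀ (Q : F × F → F) (D : SqData T (F × F) F Q) (a c : F), a ≠ 0 →
      (∀ w, Q w = a * (w.1 * w.1) + b * (w.1 * w.2) + c * (w.2 * w.2)) → ∃ e, Nonempty (SqData T (F × F) F (qf e)) := by
    intro Q D a c ha hQ
    refine ⟨c * a / (b * b), ⟨D.trans (AddEquiv.prodCongr (AddEquiv.refl F)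
      (AddEquiv.mk' (Equiv.mk (fun y => b / a * y) (fun y => a / b * y) (fun y => by field_simp) (fun y => by field_simp))
        (fun x y => by show b / a * (x + y) = _; simp only [Equiv.coe_fn_mk]; ring)))
      (AddEquiv.mk' (Equiv.mk (fun y => a * y) (fun y => a⁻¹ * y) (fun y => by field_simp) (fun y => by field_simp))
        (fun x y => by show a * (x + y) = _; simp only [Equiv.coe_fn_mk]; ring)) _ ?_⟩⟩
    intro w
    rw [hQ]
    show a * (w.1 * w.1 + w.1 * (b / a * w.2) + c * a / (b * b) * ((b / a * w.2) * (b / a * w.2))) = _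
    field_simp
  by_cases ha : a = 0
  swap
  · exact key Q D a c ha hQ
  by_cases hc : c = 0
  swap
  · exact key (fun w => Q (w.2, w.1)) (D.trans AddEquiv.prodComm (AddEquiv.refl F) _ (fun w => rfl)) c a hc (fun w => by
      show Q (w.2, w.1) = _
      rw [hQ]
      show a * (w.2 * w.2) + b * (w.2 * w.1) + c * (w.1 * w.1) = _
      ring)
  · -- the hyperbolic plane
    refine key (fun w => b * (w.1 * w.1) + b * (w.1 * w.2)) (D.trans
      { toFun := fun w => (w.1, w.1 + w.2)
        invFun := fun w => (w.1, w.1 + w.2)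
        left_inv := fun w => by
          ext
          · rfl
          · show w.1 + (w.1 + w.2) = w.2
            rw [← add_assoc, CharTwo.add_self_eq_zero, zero_add]
        right_inv := fun w => by
          ext
          · rfl
          · show w.1 + (w.1 + w.2) = w.2
            rw [← add_assoc, CharTwo.add_self_eq_zero, zero_add]
        map_add' := fun v w => by
          ext
          · rfl
          · show v.1 + w.1 + (v.2 + w.2) = v.1 + v.2 + (w.1 + w.2)
            ring } (AddEquiv.refl F) _ (fun w => ?_)) b 0 hb (fun w => by ring)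
    rw [hQ, ha, hc]
    show b * (w.1 * w.1) + b * (w.1 * (w.1 + w.2)) = _
    have := CharTwo.two_eq_zero (R := F)
    linear_combination b * w.1 * w.1 * this

end Cfsg.Agent.H21.Fpf3
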