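import Cfsg.Agent.Extra.Basic
import Cfsg.Agent.S0093
import Cfsg.Agent.S0119
import Cfsg.Agent.H20.QAct
import Cfsg.Agent.Solv.MinNormal
import Cfsg.Prelude.Def_Transfer

set_option autoImplicit false
set_option linter.all false

/-! 2-groups without normal elementary abelian subgroups of order 8, generated by commutators with automorphisms of odd order (helper21). -/

namespace Cfsg.Agent.H21.OddA

open scoped commutatorElement

universe u
variable {X : Type u} [Group X] [Finite X]

/-- no normal elementary abelian subgroup of order more than 4 -/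
def NoE8 (X : Type u) [Group X] : Prop := ∀ E : Subgroup X, E.Normal → (∀ x ∈ E, ∀ y ∈ E, x * y = y * x) →
  (∀ x ∈ E, x ^ 2 = 1) → Nat.card E ≤ 4

theorem noE8_of_scn (hX : IsPGroup 2 X)
    (hscn : ¬ ∃ A : Subgroup X, A.Normal ∧ Subgroup.centralizer (A : Set X) = A ∧
      ∃ E : Subgroup X, E ≤ A ∧ Cfsg.IsElementaryAbelian 2 E ∧ Nat.card E = 8) : NoE8 X := by
  intro E hEn hEc hE2
  by_contra hcon
  push Not at hcon
  apply hscn
  haveI : Fact (Nat.Prime 2) := ⟨Nat.prime_two⟩
  haveI := hX.isNilpotent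
  -- maximal normal abelian
  obtain ⟨M, hM, hMmax⟩ := (Set.toFinite {M : Subgroup X | M.Normal ∧ IsMulCommutative M ∧ E ≤ M}).exists_maximal
    ⟨E, hEn, ⟨⟨fun a b => Subtype.ext (hEc a a.2 b b.2)⟩⟩, le_rfl⟩
  obtain ⟨hMn, hMc, hEM⟩ := hM
  refine ⟨M, hMn, Cfsg.Agent.Solv.centralizer_eq_of_maximal_abelian_normal M hMc
    (fun N hNn hNc hMN => le_antisymm (hMmax ⟨hNn, hNc, hEM.trans hMN⟩ hMN) hMN), ?_⟩
  obtain ⟨k, hk⟩ := IsPGroup.iff_card.1 (hX.to_subgroup E)
  have h8 : 2 ^ 3 ∣ Nat.card E := by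
    rw [hk]
    apply pow_dvd_pow
    by_contra h
    have : k ≤ 2 := by omega
    have h2 : 2 ^ k ≤ 2 ^ 2 := Nat.pow_le_pow_right (by norm_num) this
    omega
  obtain ⟨K, hK⟩ := Sylow.exists_subgroup_card_pow_prime 2 h8
  refine ⟨K.map E.subtype, (Subgroup.map_subtype_le K).trans hEM, ⟨⟨⟨?_⟩⟩, ?_⟩, ?_⟩
  · rintro ⟨a, ha⟩ ⟨b, hb⟩
    exact Subtype.ext (hEc a (Subgroup.map_subtype_le K ha) b (Subgroup.map_subtype_le K hb))
  · intro a ha
    exact hE2 a (Subgroup.map_subtype_le K ha)
  · rw [Nat.card_congr (K.equivMapOfInjective _ E.subtype_injective).symm.toEquiv, hK]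
    norm_num

/-- adjoining an involution to a normal elementary abelian subgroup of order 4 -/
theorem NoE8.step (h : NoE8 X) (S : Subgroup X) (hSn : S.Normal) (hSc : ∀ x ∈ S, ∀ y ∈ S, x * y = y * x)
    (hS2 : ∀ x ∈ S, x ^ 2 = 1) (hS4 : Nat.card S = 4) (t : X) (ht : t ^ 2 = 1) (htS : ∀ s ∈ S, t * s = s * t)
    (htx : ∀ x : X, t * (x * t * x⁻¹) ∈ S) : t ∈ S := by
  by_contra hcon
  have htt : t * t = 1 := by rw [← pow_two]; exact ht
  have hti : t⁻¹ = t := inv_eq_of_mul_eq_one_left htt
  let E : Subgroup X := {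
    carrier := {g | g ∈ S ∨ t * g ∈ S}
    one_mem' := Or.inl S.one_mem
    mul_mem' := by
      rintro a b (ha | ha) (hb | hb)
      · exact Or.inl (S.mul_mem ha hb)
      · right
        have : t * (a * b) = a * (t * b) := by rw [← mul_assoc, htS a ha, mul_assoc]
        rw [this]
        exact S.mul_mem ha hb
      · right
        rw [← mul_assoc]
        exact S.mul_mem ha hb
      · left
        have e1 : a * b = (t * a) * (t * b) := by
          have e2 : t * (t * a) = (t * a) * t := htS _ ha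
          calc a * b = (t * (t * a)) * b := by rw [← mul_assoc t t a, htt, one_mul]
            _ = (t * a) * (t * b) := by rw [e2, mul_assoc]
        rw [e1]
        exact S.mul_mem ha hb
    inv_mem' := by
      rintro a (ha | ha)
      · exact Or.inl (S.inv_mem ha)
      · right
        have e2 : t * (t * a) = (t * a) * t := htS _ ha
        have e3 : a = (t * a) * t := by rw [← e2, ← mul_assoc, htt, one_mul]
        have e4 : t * a⁻¹ = (t * a)⁻¹ := by
          rw [mul_inv_rev, hti]
          have e5 : a * t = t * a := by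
            calc a * t = (t * a) * t * t := by rw [← e3]
              _ = t * a := by rw [mul_assoc, htt, mul_one]
          have e6 : Commute a t := e5
          exact (e6.symm.inv_right).eq
        rw [show t * a⁻¹ = (t * a)⁻¹ from e4]
        exact S.inv_mem ha }
  have hmem : ∀ g, g ∈ E ↔ g ∈ S ∨ t * g ∈ S := fun g => Iff.rfl
  have hSE : S ≤ E := fun g hg => Or.inl hg
  have htE : t ∈ E := Or.inr (by rw [htt]; exact S.one_mem)
  -- elements are s or t s
  have hform : ∀ g ∈ E, ∃ s ∈ S, g = s ∨ g = t * s := by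
    rintro g (hg | hg)
    · exact ⟨g, hg, Or.inl rfl⟩
    · exact ⟨t * g, hg, Or.inr (by rw [← mul_assoc, htt, one_mul])⟩
  have hEn : E.Normal := by
    constructor
    intro g hg x
    obtain ⟨s, hs, hs' | hs'⟩ := hform g hg
    · rw [hs']; exact Or.inl (hSn.conj_mem s hs x)
    · right
      rw [hs']
      have e : t * (x * (t * s) * x⁻¹) = (t * (x * t * x⁻¹)) * (x * s * x⁻¹) := by group
      rw [e]
      exact S.mul_mem (htx x) (hSn.conj_mem s hs x)
  have hEc : ∀ x ∈ E, ∀ y ∈ E, x * y = y * x := by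
    intro x hx y hy
    obtain ⟨s, hs, hs'⟩ := hform x hx
    obtain ⟨r, hr, hr'⟩ := hform y hy
    have c1 : Commute s r := hSc s hs r hr
    have c2 : Commute t s := htS s hs
    have c3 : Commute t r := htS r hr
    have c4 : Commute t t := Commute.refl t
    rcases hs' with hs' | hs' <;> rcases hr' with hr' | hr' <;> rw [hs', hr']
    · exact c1
    · exact (c2.symm.mul_right c1)
    · exact (c3.mul_left c1)
    · exact ((c4.mul_right c3).mul_left (c2.symm.mul_right c1))
  have hE2 : ∀ x ∈ E, x ^ 2 = 1 := by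
    intro x hx
    obtain ⟨s, hs, hs' | hs'⟩ := hform x hx
    · rw [hs']; exact hS2 _ hs
    · have c2 : Commute t s := htS s hs
      rw [hs', c2.mul_pow, ht, hS2 s hs, one_mul]
  have h1 := h E hEn hEc hE2
  have h2 : Nat.card S < Nat.card E := by
    have hlt : S < E := lt_of_le_of_ne hSE (fun h => hcon (h ▸ htE))
    exact Set.ncard_lt_ncard hlt (Set.toFinite _)
  omega

end Cfsg.Agent.H21.OddA
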