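import Cfsg.Agent.H21.OddA

set_option autoImplicit false
set_option linter.all false

namespace Cfsg.Agent.H21.OddA

open scoped commutatorElement

universe u
variable {X : Type u} [Group X] [Finite X]

theorem pow_apply {φ : MulAut X} {x c : X} (hc : φ c = c) (h : φ x = x * c) (n : ℕ) : (φ ^ n) x = x * c ^ n := by
  induction n with
  | zero => simp
  | succ n ih =>
    rw [pow_succ', MulAut.mul_apply, ih, map_mul, map_pow, h, hc, pow_succ']
    rw [mul_assoc]

theorem eq_one_of_odd (hX : IsPGroup 2 X) {c : X} {n : ℕ} (hn : Odd n) (h : c ^ n = 1) : c = 1 := by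
  obtain ⟨k, hk⟩ := hX c
  have h1 : orderOf c ∣ n := orderOf_dvd_of_pow_eq_one h
  have h2 : orderOf c ∣ 2 ^ k := orderOf_dvd_of_pow_eq_one hk
  have h3 : Nat.Coprime (2 ^ k) n := Nat.Coprime.pow_left _ (Nat.coprime_two_left.2 hn)
  have h4 := Nat.eq_one_of_dvd_coprimes h3 h2 h1
  exact orderOf_eq_one_iff.1 h4

theorem fix_step (hX : IsPGroup 2 X) {φ : MulAut X} (ho : Odd (orderOf φ)) {x c : X} (hc : φ c = c)
    (h : φ x = x * c) : c = 1 := by
  have h1 := pow_apply hc h (orderOf φ)
  rw [pow_orderOf_eq_one] at h1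
  have h2 : c ^ orderOf φ = 1 := by
    have : x * 1 = x * c ^ orderOf φ := by rw [← h1]; simp
    exact (mul_left_cancel this).symm
  exact eq_one_of_odd hX ho h2

variable (A : Subgroup (MulAut X))

theorem odd_of_mem {A : Subgroup (MulAut X)} (hA : Odd (Nat.card A)) {φ : MulAut X} (hφ : φ ∈ A) : Odd (orderOf φ) := by
  have h : orderOf (⟨φ, hφ⟩ : A) ∣ Nat.card A := orderOf_dvd_natCard _
  rw [Subgroup.orderOf_mk] at h
  exact hA.of_dvd_nat h

/-- the generation hypothesis -/
def Gen (A : Subgroup (MulAut X)) : Prop := Subgroup.closure {g : X | ∃ φ ∈ A, ∃ x : X, g = x⁻¹ * φ x} = ⊤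

variable {A}

theorem Gen.top (h : Gen A) (N : Subgroup X) (hN : ∀ φ ∈ A, ∀ x : X, x⁻¹ * φ x ∈ N) : N = ⊤ := by
  rw [eq_top_iff, ← h, Subgroup.closure_le]
  rintro g ⟨φ, hφ, x, rfl⟩
  exact hN φ hφ x

/-- if `A` centralizes a normal subgroup then so does `X` -/
theorem Gen.central (h : Gen A) (B : Subgroup X) (hB : B.Normal) (hf : ∀ φ ∈ A, ∀ b ∈ B, φ b = b) :
    ∀ b ∈ B, ∀ x : X, x * b = b * x := by
  have h1 : Subgroup.centralizer (B : Set X) = ⊤ := by
    apply h.top
    intro φ hφ x
    rw [Subgroup.mem_centralizer_iff]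
    intro b hb
    have h2 : x * b * x⁻¹ ∈ B := hB.conj_mem b hb x
    have h3 := hf φ hφ _ h2
    rw [map_mul, map_mul, hf φ hφ b hb, map_inv] at h3
    -- φ x * b * (φ x)⁻¹ = x * b * x⁻¹
    have h4 : x⁻¹ * (φ x * b * (φ x)⁻¹) * φ x = x⁻¹ * (x * b * x⁻¹) * φ x := by rw [h3]
    simp only [mul_assoc, inv_mul_cancel, mul_one, inv_mul_cancel_left] at h4
    rw [← h4]
    group
  intro b hb x
  have h2 : x ∈ Subgroup.centralizer (B : Set X) := by rw [h1]; exact Subgroup.mem_top x
  exact ((Subgroup.mem_centralizer_iff.1 h2) b hb).symm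

/-- fixed points on the abelianization are trivial -/
theorem Gen.fix_ab (h : Gen A) (hX : IsPGroup 2 X) (hA : Odd (Nat.card A)) (x : X)
    (hx : ∀ φ ∈ A, x⁻¹ * φ x ∈ commutator X) : x ∈ commutator X := by
  classical
  haveI : Fintype A := Fintype.ofFinite _
  let N : X →* Abelianization X := ∏ φ : A, (Abelianization.of.comp (φ : MulAut X).toMonoidHom)
  have hN : ∀ y : X, N y = ∏ φ : A, Abelianization.of ((φ : MulAut X) y) := by
    intro y
    simp only [N]
    rw [MonoidHom.finset_prod_apply]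
    rfl
  have hinv : ∀ ψ ∈ A, ∀ y : X, N (ψ y) = N y := by
    intro ψ hψ y
    rw [hN, hN]
    refine Fintype.prod_equiv (Equiv.mulRight (⟨ψ, hψ⟩ : A)) _ _ ?_
    intro φ
    rfl
  have h1 : N.ker = ⊤ := by
    apply h.top
    intro φ hφ y
    rw [MonoidHom.mem_ker, map_mul, hinv φ hφ, map_inv, inv_mul_cancel]
  have h2 : N x = 1 := by
    rw [← MonoidHom.mem_ker, h1]
    exact Subgroup.mem_top x
  have h3 : N x = (Abelianization.of x) ^ Nat.card A := by
    rw [hN, Nat.card_eq_fintype_card, ← Finset.card_univ]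
    apply Finset.prod_eq_pow_card
    intro φ _
    have h4 := hx φ φ.2
    rw [← Abelianization.ker_of, MonoidHom.mem_ker, map_mul, map_inv] at h4
    exact (eq_of_inv_mul_eq_one h4).symm
  rw [h3, ← map_pow, ← MonoidHom.mem_ker, Abelianization.ker_of] at h2
  -- x^|A| ∈ X', x^(2^k) = 1
  obtain ⟨k, hk⟩ := hX x
  have hc : Nat.Coprime (Nat.card A) (2 ^ k) := Nat.Coprime.pow_right _ (Nat.coprime_two_right.2 hA)
  have h5 : x = x ^ Nat.gcd (Nat.card A) (2 ^ k) := by rw [hc.gcd_eq_one, pow_one]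
  have h6 : x ^ ((Nat.gcd (Nat.card A) (2 ^ k) : ℕ) : ℤ) ∈ commutator X := by
    rw [Nat.gcd_eq_gcd_ab, zpow_add, zpow_mul, zpow_mul]
    apply Subgroup.mul_mem
    · rw [zpow_natCast]
      exact Subgroup.zpow_mem _ h2 _
    · rw [zpow_natCast, hk, one_zpow]
      exact Subgroup.one_mem _
  rw [zpow_natCast, ← h5] at h6
  exact h6

/-- a group of odd order acting on 4 or 8 points with a unique fixed point is transitive on the others -/
theorem trans_small {G W : Type*} [Group G] [Finite G] [MulAction G W] [Fintype W] (hG : Odd (Nat.card G)) (w₀ : W)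
    (hfix : ∀ g : G, g • w₀ = w₀) (hW : Fintype.card W = 4 ∨ Fintype.card W = 8)
    (hno : ∀ w : W, (∀ g : G, g • w = w) → w = w₀) (x y : W) (hx : x ≠ w₀) (hy : y ≠ w₀) : ∃ g : G, g • x = y := by
  classical
  have hodd : ∀ w : W, Odd (Nat.card (MulAction.orbit G w)) := by
    intro w
    have h1 : Nat.card (MulAction.orbit G w) ∣ Nat.card G := by
      rw [Nat.card_congr (MulAction.orbitEquivQuotientStabilizer G w)]
      exact Subgroup.card_quotient_dvd_card _
    exact hG.of_dvd_nat h1
  have hge : ∀ w : W, w ≠ w₀ → 3 ≤ (MulAction.orbit G w).toFinset.card := by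
    intro w hw
    have h1 := hodd w
    rw [Nat.card_eq_card_toFinset] at h1
    have h2 : (MulAction.orbit G w).toFinset.card ≠ 1 := by
      intro h2
      apply hw
      apply hno
      intro g
      obtain ⟨a, ha⟩ := Finset.card_eq_one.1 h2
      have h3 : w ∈ (MulAction.orbit G w).toFinset := by simp
      have h4 : g • w ∈ (MulAction.orbit G w).toFinset := by simp
      rw [ha, Finset.mem_singleton] at h3 h4
      rw [h4, ← h3]
    have h5 : (MulAction.orbit G w).toFinset.card ≠ 0 := by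
      rw [Finset.card_ne_zero]
      exact ⟨w, by simp⟩
    obtain ⟨k, hk⟩ := h1
    omega
  have hdisj : ∀ a b : W, (¬ ∃ g : G, g • a = b) →
      Disjoint (MulAction.orbit G a).toFinset (MulAction.orbit G b).toFinset := by
    intro a b hab
    rw [Finset.disjoint_left]
    intro c hc hc'
    rw [Set.mem_toFinset] at hc hc'
    obtain ⟨g, rfl⟩ := hc
    obtain ⟨h, hh⟩ := hc'
    apply hab
    refine ⟨h⁻¹ * g, ?_⟩
    rw [mul_smul]
    exact inv_smul_eq_iff.2 hh.symm
  have hw0 : ∀ w : W, w ≠ w₀ → w₀ ∉ (MulAction.orbit G w).toFinset := by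
    intro w hw hc
    rw [Set.mem_toFinset] at hc
    obtain ⟨g, hg⟩ := hc
    apply hw
    have : w = g⁻¹ • w₀ := (inv_smul_eq_iff.2 hg.symm).symm
    rw [this, hfix]
  by_contra hxy
  have hd := hdisj x y hxy
  have h1 := hge x hx
  have h2 := hge y hy
  -- x-orbit ∪ y-orbit ∪ {w₀}
  have h3 : ((MulAction.orbit G x).toFinset ∪ (MulAction.orbit G y).toFinset).card =
      (MulAction.orbit G x).toFinset.card + (MulAction.orbit G y).toFinset.card := Finset.card_union_of_disjoint hd
  have h4 : w₀ ∉ (MulAction.orbit G x).toFinset ∪ (MulAction.orbit G y).toFinset := by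
    rw [Finset.mem_union, not_or]
    exact ⟨hw0 x hx, hw0 y hy⟩
  have h5 : (insert w₀ ((MulAction.orbit G x).toFinset ∪ (MulAction.orbit G y).toFinset)).card =
      (MulAction.orbit G x).toFinset.card + (MulAction.orbit G y).toFinset.card + 1 := by
    rw [Finset.card_insert_of_notMem h4, h3]
  have h6 := Finset.card_le_univ (insert w₀ ((MulAction.orbit G x).toFinset ∪ (MulAction.orbit G y).toFinset))
  rw [h5] at h6
  have h7 := hodd x
  have h8 := hodd y
  rw [Nat.card_eq_card_toFinset] at h7 h8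
  obtain ⟨i, hi⟩ := h7
  obtain ⟨j, hj⟩ := h8
  -- there is another point
  have h9 : ∃ z : W, z ∉ insert w₀ ((MulAction.orbit G x).toFinset ∪ (MulAction.orbit G y).toFinset) := by
    by_contra hcon
    push Not at hcon
    have h10 : insert w₀ ((MulAction.orbit G x).toFinset ∪ (MulAction.orbit G y).toFinset) = Finset.univ :=
      Finset.eq_univ_iff_forall.2 hcon
    rw [h10, Finset.card_univ] at h5
    omega
  obtain ⟨z, hz⟩ := h9
  rw [Finset.mem_insert, Finset.mem_union, not_or, not_or] at hz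
  obtain ⟨hz0, hzx, hzy⟩ := hz
  have h10 := hge z hz0
  have hdx : Disjoint (MulAction.orbit G x).toFinset (MulAction.orbit G z).toFinset := by
    apply hdisj
    rintro ⟨g, hg⟩
    apply hzx
    rw [Set.mem_toFinset]
    exact ⟨g, hg⟩
  have hdy : Disjoint (MulAction.orbit G y).toFinset (MulAction.orbit G z).toFinset := by
    apply hdisj
    rintro ⟨g, hg⟩
    apply hzy
    rw [Set.mem_toFinset]
    exact ⟨g, hg⟩
  have h11 : (((MulAction.orbit G x).toFinset ∪ (MulAction.orbit G y).toFinset) ∪ (MulAction.orbit G z).toFinset).card =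
      (MulAction.orbit G x).toFinset.card + (MulAction.orbit G y).toFinset.card + (MulAction.orbit G z).toFinset.card := by
    rw [Finset.card_union_of_disjoint, h3]
    rw [Finset.disjoint_union_left]
    exact ⟨hdx, hdy⟩
  have h12 := Finset.card_le_univ (((MulAction.orbit G x).toFinset ∪ (MulAction.orbit G y).toFinset) ∪ (MulAction.orbit G z).toFinset)
  rw [h11] at h12
  omega

end Cfsg.Agent.H21.OddA
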