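import Cfsg.Agent.H21.OddB

set_option autoImplicit false
set_option linter.all false

namespace Cfsg.Agent.H21.OddA

open scoped commutatorElement
open Cfsg.Agent.Extra

universe u
variable {X : Type u} [Group X] [Finite X]

/-- the data: class two, squares central, centre of exponent two and equal to the derived group -/
structure Sp (X : Type u) [Group X] [Finite X] (A : Subgroup (MulAut X)) : Prop where
  pg : IsPGroup 2 X
  odd : Odd (Nat.card A)
  gen : Gen A
  noE : NoE8 X
  com : commutator X = Subgroup.center X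
  sq : ∀ x : X, x ^ 2 ∈ Subgroup.center X
  two : ∀ z ∈ Subgroup.center X, z ^ 2 = 1
  nc : Subgroup.center X ≠ ⊤

variable {A : Subgroup (MulAut X)}

theorem card_le_mul {M : Type*} [Group M] [Finite M] (C : Subgroup X) (f : X →* M) (S : Set X)
    (hS : ∀ u ∈ C, f u = 1 → u ∈ S) : Nat.card C ≤ Nat.card M * S.ncard := by
  let g : C →* M := f.comp C.subtype
  have h1 : Nat.card C = Nat.card g.ker * g.ker.index := (Subgroup.card_mul_index _).symm
  have h2 : g.ker.index ≤ Nat.card M := by
    rw [Subgroup.index_ker]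
    exact Nat.card_le_card_of_injective (Subtype.val) Subtype.val_injective
  have h3 : Nat.card g.ker ≤ S.ncard := by
    rw [← Nat.card_coe_set_eq]
    apply Nat.card_le_card_of_injective (fun k : g.ker => (⟨(k : C), hS _ (k : C).2 k.2⟩ : S))
    intro a b hab
    simp only [Subtype.mk.injEq] at hab
    exact Subtype.ext (Subtype.ext hab)
  rw [h1, mul_comm]
  exact Nat.mul_le_mul h2 h3

namespace Sp

variable (h : Sp X A)
include h

theorem c2 : ClassTwo X := h.com.le

theorem centerNe : Nat.card (Subgroup.center X) ≠ 1 := by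
  intro h1
  haveI : Fact (Nat.Prime 2) := ⟨Nat.prime_two⟩
  haveI : Nontrivial X := by
    by_contra hcon
    rw [not_nontrivial_iff_subsingleton] at hcon
    apply h.nc
    exact Subsingleton.elim _ _
  have := h.pg.center_nontrivial
  rw [← Finite.one_lt_card_iff_nontrivial] at this
  omega

theorem centerLe : Nat.card (Subgroup.center X) ≤ 4 :=
  h.noE _ inferInstance (fun x hx y _ => ((Subgroup.mem_center_iff.1 hx) y).symm) h.two

theorem exCard : ∃ k, Nat.card X = 2 ^ k := IsPGroup.iff_card.1 h.pg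

theorem centerCard : Nat.card (Subgroup.center X) = 2 ∨ Nat.card (Subgroup.center X) = 4 := by
  haveI : Fact (Nat.Prime 2) := ⟨Nat.prime_two⟩
  obtain ⟨k, hk⟩ := IsPGroup.iff_card.1 (h.pg.to_subgroup (Subgroup.center X))
  have h1 := h.centerLe
  have h2 := h.centerNe
  rw [hk] at h1 h2 ⊢
  rcases k with _ | _ | _ | k
  · exact absurd (pow_zero 2) h2
  · left; norm_num
  · right; norm_num
  · exfalso
    have : 2 ^ 3 ≤ 2 ^ (k + 1 + 1 + 1) := Nat.pow_le_pow_right (by norm_num) (by omega)
    omega

theorem exComm : ∃ x y : X, ⁅x, y⁆ ≠ 1 := by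
  by_contra hcon
  push Not at hcon
  apply h.nc
  rw [eq_top_iff]
  intro x _
  rw [Subgroup.mem_center_iff]
  intro g
  exact commutatorElement_eq_one_iff_mul_comm.1 (hcon g x)

theorem mul_sq (x y : X) : (x * y) ^ 2 = x ^ 2 * y ^ 2 * ⁅y, x⁆ := by
  rw [h.c2.mul_pow x y 2]
  simp

theorem comm_sq (x y : X) : ⁅x, y⁆ ^ 2 = 1 := h.two _ (h.c2.mem x y)

theorem inv_mem_center {z : X} (hz : z ∈ Subgroup.center X) : z⁻¹ = z := by
  have := h.two z hz
  rw [pow_two] at this
  exact inv_eq_of_mul_eq_one_left this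

theorem mul_central_sq {x z : X} (hz : z ∈ Subgroup.center X) : (x * z) ^ 2 = x ^ 2 := by
  have hc : Commute x z := (Subgroup.mem_center_iff.1 hz) x
  rw [hc.mul_pow, h.two z hz, mul_one]

theorem comm_mem_iff {x : X} : (∀ y : X, ⁅x, y⁆ = 1) → x ∈ Subgroup.center X := by
  intro hx
  rw [Subgroup.mem_center_iff]
  intro g
  exact (commutatorElement_eq_one_iff_mul_comm.1 (hx g)).symm

/-- transitivity on the noncentral cosets for small orders -/
theorem trans (hq : Nat.card (X ⧸ Subgroup.center X) = 4 ∨ Nat.card (X ⧸ Subgroup.center X) = 8) (x y : X)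
    (hx : x ∉ Subgroup.center X) (hy : y ∉ Subgroup.center X) :
    ∃ φ ∈ A, ∃ z ∈ Subgroup.center X, φ x = y * z := by
  classical
  have hchar : ∀ φ : MulAut X, ∀ z ∈ Subgroup.center X, φ z ∈ Subgroup.center X := by
    intro φ z hz
    have := (inferInstance : (Subgroup.center X).Characteristic).fixed φ
    rw [← this] at hz
    exact hz
  let act : A → (X ⧸ Subgroup.center X) →* (X ⧸ Subgroup.center X) := fun φ =>
    QuotientGroup.map _ _ (φ : MulAut X).toMonoidHom (fun z hz => hchar φ z hz)
  have hact : ∀ (φ : A) (g : X), act φ (QuotientGroup.mk g) = QuotientGroup.mk ((φ : MulAut X) g) := fun φ g => rfl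
  letI inst : MulAction A (X ⧸ Subgroup.center X) := {
    smul := fun φ w => act φ w
    one_smul := by
      intro w
      obtain ⟨g, rfl⟩ := QuotientGroup.mk_surjective w
      rfl
    mul_smul := by
      intro φ ψ w
      obtain ⟨g, rfl⟩ := QuotientGroup.mk_surjective w
      rfl }
  have hsm : ∀ (φ : A) (g : X), φ • (QuotientGroup.mk g : X ⧸ Subgroup.center X) = QuotientGroup.mk ((φ : MulAut X) g) := fun φ g => rfl
  haveI : Fintype (X ⧸ Subgroup.center X) := Fintype.ofFinite _
  rw [Nat.card_eq_fintype_card] at hq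
  obtain ⟨φ, hφ⟩ := trans_small (G := A) h.odd (1 : X ⧸ Subgroup.center X) (by
      intro g
      have := hsm g 1
      rw [map_one] at this
      exact this) hq (by
      intro w hw
      obtain ⟨g, rfl⟩ := QuotientGroup.mk_surjective w
      rw [QuotientGroup.eq_one_iff, ← h.com]
      apply h.gen.fix_ab h.pg h.odd
      intro φ hφ
      rw [h.com, ← QuotientGroup.eq]
      exact (hw ⟨φ, hφ⟩).symm) (QuotientGroup.mk x) (QuotientGroup.mk y) (by
      intro hc
      exact hx ((QuotientGroup.eq_one_iff x).1 hc)) (by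
      intro hc
      exact hy ((QuotientGroup.eq_one_iff y).1 hc))
  refine ⟨φ, φ.2, y⁻¹ * (φ : MulAut X) x, ?_, by group⟩
  rw [hsm] at hφ
  exact QuotientGroup.eq.1 hφ.symm

/-- in the transitive situation all noncentral squares are equal up to automorphism -/
theorem trans_sq (hq : Nat.card (X ⧸ Subgroup.center X) = 4 ∨ Nat.card (X ⧸ Subgroup.center X) = 8) (x y : X)
    (hx : x ∉ Subgroup.center X) (hy : y ∉ Subgroup.center X) : ∃ φ ∈ A, φ (x ^ 2) = y ^ 2 := by
  obtain ⟨φ, hφ, z, hz, he⟩ := h.trans hq x y hx hy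
  exact ⟨φ, hφ, by rw [map_pow, he, h.mul_central_sq hz]⟩

end Sp

end Cfsg.Agent.H21.OddA
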