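import Cfsg.Agent.H21.OddC

set_option autoImplicit false
set_option linter.all false

namespace Cfsg.Agent.H21.OddA

open scoped commutatorElement
open Cfsg.Agent.Extra

universe u
variable {X : Type u} [Group X] [Finite X] {A : Subgroup (MulAut X)}

namespace Sp

variable (h : Sp X A)
include h

/-! ### the extraspecial case -/

theorem A_ne_bot : A ≠ ⊥ := by
  intro hA
  have h1 : (⊥ : Subgroup X) = ⊤ := by
    apply h.gen.top
    intro φ hφ x
    rw [hA, Subgroup.mem_bot] at hφ
    rw [hφ, MulAut.one_apply, inv_mul_cancel]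
    exact Subgroup.one_mem _
  apply h.nc
  rw [← h1]
  have h2 : ∀ K : Subgroup X, K ≤ ⊥ := fun K => by rw [h1]; exact le_top
  exact le_antisymm (h2 _) bot_le

theorem quat (hun : ∀ t : X, t ^ 2 = 1 → t ∈ Subgroup.center X) (hZ : Nat.card (Subgroup.center X) = 2) :
    Nonempty (X ≃* QuaternionGroup 2) := by
  have hodd := h.odd
  have hne : Nat.card A ≠ 1 := by
    intro h1
    exact h.A_ne_bot (Subgroup.card_eq_one.1 h1)
  obtain ⟨p, hp, hpd⟩ := Nat.exists_prime_and_dvd hne
  haveI : Fact p.Prime := ⟨hp⟩
  have hp2 : p ≠ 2 := by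
    rintro rfl
    rw [← Nat.not_even_iff_odd] at hodd
    exact hodd (even_iff_two_dvd.2 hpd)
  obtain ⟨P⟩ := (inferInstance : Nonempty (Sylow p A))
  refine Cfsg.Agent.H20.QAct.equiv_q8 h.pg ?_ hp2 ((P : Subgroup A).map A.subtype) ?_ ?_
  · intro x y hx hy
    have hx1 : x ^ 2 = 1 := by rw [← hx]; exact pow_orderOf_eq_one x
    have hy1 : y ^ 2 = 1 := by rw [← hy]; exact pow_orderOf_eq_one y
    have hxz := hun x hx1
    have hyz := hun y hy1
    have hxn : x ≠ 1 := by rintro rfl; simp at hx
    have hyn : y ≠ 1 := by rintro rfl; simp at hy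
    by_contra hxy
    haveI : Fintype (Subgroup.center X) := Fintype.ofFinite _
    have h3 : 2 < Fintype.card (Subgroup.center X) := by
      rw [Fintype.two_lt_card_iff]
      exact ⟨1, ⟨x, hxz⟩, ⟨y, hyz⟩, fun hc => hxn (congrArg Subtype.val hc).symm,
        fun hc => hyn (congrArg Subtype.val hc).symm, fun hc => hxy (congrArg Subtype.val hc)⟩
    rw [← Nat.card_eq_fintype_card] at h3
    omega
  · exact P.isPGroup'.map A.subtype
  · intro hc
    rw [Subgroup.map_eq_bot_iff_of_injective _ A.subtype_injective] at hc
    exact P.ne_bot_of_dvd_card hpd hc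

theorem two_elements (hZ : Nat.card (Subgroup.center X) = 2) {z w : X} (hz : z ∈ Subgroup.center X)
    (hz1 : z ≠ 1) (hw : w ∈ Subgroup.center X) : w = 1 ∨ w = z := by
  by_contra hcon
  push Not at hcon
  haveI : Fintype (Subgroup.center X) := Fintype.ofFinite _
  have h3 : 2 < Fintype.card (Subgroup.center X) := by
    rw [Fintype.two_lt_card_iff]
    exact ⟨1, ⟨z, hz⟩, ⟨w, hw⟩, fun hc => hz1 (congrArg Subtype.val hc).symm,
      fun hc => hcon.1 (congrArg Subtype.val hc).symm, fun hc => hcon.2 (congrArg Subtype.val hc).symm⟩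
  rw [← Nat.card_eq_fintype_card] at h3
  omega

/-- the subgroup `Z ∪ tZ` for a noncentral involution `t` -/
theorem mem_T (hZ : Nat.card (Subgroup.center X) = 2) {t : X} (ht : t ^ 2 = 1) (htZ : t ∉ Subgroup.center X) (s : X)
    (hs : s ^ 2 = 1) (hst : s * t = t * s) : s ∈ Subgroup.center X ∨ t * s ∈ Subgroup.center X := by
  -- T as a subgroup
  have htt : t * t = 1 := by rw [← pow_two]; exact ht
  let T : Subgroup X := {
    carrier := {g | g ∈ Subgroup.center X ∨ t * g ∈ Subgroup.center X}
    one_mem' := Or.inl (Subgroup.one_mem _)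
    mul_mem' := by
      rintro a b (ha | ha) (hb | hb)
      · exact Or.inl (Subgroup.mul_mem _ ha hb)
      · right
        have : t * (a * b) = a * (t * b) := by
          rw [← mul_assoc, (Subgroup.mem_center_iff.1 ha) t, mul_assoc]
        rw [this]
        exact Subgroup.mul_mem _ ha hb
      · right
        rw [← mul_assoc]
        exact Subgroup.mul_mem _ ha hb
      · left
        have e1 : a * b = (t * a) * (t * b) := by
          have e2 : t * (t * a) = (t * a) * t := (Subgroup.mem_center_iff.1 ha) t
          calc a * b = (t * (t * a)) * b := by rw [← mul_assoc t t a, htt, one_mul]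
            _ = (t * a) * (t * b) := by rw [e2, mul_assoc]
        rw [e1]
        exact Subgroup.mul_mem _ ha hb
    inv_mem' := by
      rintro a (ha | ha)
      · exact Or.inl (Subgroup.inv_mem _ ha)
      · right
        have e2 : t * (t * a) = (t * a) * t := (Subgroup.mem_center_iff.1 ha) t
        have e0 : t * (t * a) = a := by rw [← mul_assoc, htt, one_mul]
        have e4 : t * a⁻¹ = (t * a)⁻¹ := by
          rw [mul_inv_rev, inv_eq_of_mul_eq_one_left htt]
          have e5 : a * t = t * a := by
            calc a * t = (t * (t * a)) * t := by rw [e0]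
              _ = ((t * a) * t) * t := by rw [e2]
              _ = t * a := by rw [mul_assoc, htt, mul_one]
          exact ((show Commute a t from e5).symm.inv_right).eq
        change t * a⁻¹ ∈ _
        rw [e4]
        exact Subgroup.inv_mem _ ha }
  have hmem : ∀ g, g ∈ T ↔ g ∈ Subgroup.center X ∨ t * g ∈ Subgroup.center X := fun g => Iff.rfl
  have hZT : Subgroup.center X ≤ T := fun g hg => Or.inl hg
  have htT : t ∈ T := Or.inr (by rw [htt]; exact Subgroup.one_mem _)
  have hcT : commutator X ≤ T := by rw [h.com]; exact hZT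
  have hTn : T.Normal := by
    constructor
    intro g hg x
    have e : x * g * x⁻¹ = ⁅x, g⁆ * g := by rw [commutatorElement_def]; group
    rw [e]
    exact T.mul_mem (hZT (h.c2.mem x g)) hg
  have hTc : ∀ x ∈ T, ∀ y ∈ T, x * y = y * x := by
    intro x hx y hy
    rcases hx with hx | hx
    · exact ((Subgroup.mem_center_iff.1 hx) y).symm
    · rcases hy with hy | hy
      · exact (Subgroup.mem_center_iff.1 hy) x
      · have ex : x = t * (t * x) := by rw [← mul_assoc, htt, one_mul]
        have ey : y = t * (t * y) := by rw [← mul_assoc, htt, one_mul]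
        have c1 : Commute (t * x) t := ((Subgroup.mem_center_iff.1 hx) t).symm
        have c2 : Commute (t * x) (t * y) := ((Subgroup.mem_center_iff.1 hx) (t * y)).symm
        have c3 : Commute t (t * y) := (Subgroup.mem_center_iff.1 hy) t
        rw [ex, ey]
        exact ((Commute.refl t).mul_right c3).mul_left (c1.mul_right c2)
  have hT2 : ∀ x ∈ T, x ^ 2 = 1 := by
    rintro x (hx | hx)
    · exact h.two x hx
    · have ex : x = t * (t * x) := by rw [← mul_assoc, htt, one_mul]
      rw [ex, h.mul_central_sq hx, ht]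
  have hT4 : Nat.card T = 4 := by
    have h1 := h.noE T hTn hTc hT2
    have h2 : Nat.card (Subgroup.center X) < Nat.card T := by
      have hlt : Subgroup.center X < T := lt_of_le_of_ne hZT (fun hc => htZ (hc ▸ htT))
      exact Set.ncard_lt_ncard hlt (Set.toFinite _)
    have h3 : Nat.card (Subgroup.center X) ∣ Nat.card T := Subgroup.card_dvd_of_le hZT
    rw [hZ] at h2 h3
    omega
  refine (hmem s).1 (h.noE.step T hTn hTc hT2 hT4 s hs ?_ ?_)
  · rintro x (hx | hx)
    · exact (Subgroup.mem_center_iff.1 hx) s
    · have ex : x = t * (t * x) := by rw [← mul_assoc, htt, one_mul]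
      have c1 : Commute s (t * x) := (Subgroup.mem_center_iff.1 hx) s
      rw [ex]
      exact (Commute.mul_right (show Commute s t from hst) c1)
  · intro x
    have hss : s⁻¹ = s := inv_eq_of_mul_eq_one_left (by rw [← pow_two]; exact hs)
    have e : s * (x * s * x⁻¹) = ⁅s, x⁆ := by
      rw [commutatorElement_def, hss]
      group
    rw [e]
    exact hZT (h.c2.mem s x)

end Sp

end Cfsg.Agent.H21.OddA
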