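import Cfsg.Agent.H21.OddD

set_option autoImplicit false
set_option linter.all false

namespace Cfsg.Agent.H21.OddA

open scoped commutatorElement
open Cfsg.Agent.Extra

universe u
variable {X : Type u} [Group X] [Finite X] {A : Subgroup (MulAut X)}

namespace Sp

variable (h : Sp X A)
include h

theorem card_quot : Nat.card X = Nat.card (X ⧸ Subgroup.center X) * Nat.card (Subgroup.center X) :=
  Subgroup.card_eq_card_quotient_mul_card_subgroup _

/-- order 32 and eleven involutions in the extraspecial case -/
theorem ext_case (hZ : Nat.card (Subgroup.center X) = 2) {t : X} (ht : t ^ 2 = 1) (htZ : t ∉ Subgroup.center X) :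
    Nat.card X = 32 ∧ Nat.card {x : X // orderOf x = 2} = 11 := by
  classical
  haveI : Fact (Nat.Prime 2) := ⟨Nat.prime_two⟩
  obtain ⟨z, hz, hz1⟩ : ∃ z ∈ Subgroup.center X, z ≠ 1 := by
    by_contra hcon
    push Not at hcon
    have : Subgroup.center X = ⊥ := (Subgroup.eq_bot_iff_forall _).2 hcon
    rw [this, Subgroup.card_bot] at hZ
    omega
  have hel : ∀ w ∈ Subgroup.center X, w = 1 ∨ w = z := fun w hw => h.two_elements hZ hz hz1 hw
  have hges : GES 2 X := ⟨hZ, h.c2⟩
  obtain ⟨m, hm⟩ := hges.exists_card'
  have hsqz : ∀ x : X, x ^ 2 = 1 ∨ x ^ 2 = z := fun x => hel _ (h.sq x)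
  have htt : t * t = 1 := by rw [← pow_two]; exact ht
  have hzz : z ^ 2 = 1 := h.two z hz
  set C := Subgroup.centralizer ({t} : Set X) with hC
  have hCmem : ∀ x, x ∈ C ↔ x * t = t * x := fun x => by
    rw [hC, Subgroup.mem_centralizer_singleton_iff]
  -- the set T
  let T : Set X := {1, z, t, t * z}
  have hTmem : ∀ x, (x ∈ Subgroup.center X ∨ t * x ∈ Subgroup.center X) → x ∈ T := by
    rintro x (hx | hx)
    · rcases hel x hx with rfl | rfl
      · simp [T]
      · simp [T]
    · have ex : x = t * (t * x) := by rw [← mul_assoc, htt, one_mul]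
      rcases hel _ hx with hx' | hx'
      · rw [ex, hx', mul_one]; simp [T]
      · rw [ex, hx']; simp [T]
  have hTcard : T.ncard ≤ 4 := by
    have h1 := Set.ncard_insert_le (1 : X) {z, t, t * z}
    have h2 := Set.ncard_insert_le z {t, t * z}
    have h3 := Set.ncard_insert_le t {t * z}
    rw [Set.ncard_singleton] at h3
    change ({1, z, t, t * z} : Set X).ncard ≤ 4
    omega
  -- bound on C
  have hC16 : Nat.card C ≤ 16 := by
    by_cases hCT : ∀ y ∈ C, y ∈ T
    · have : Nat.card C ≤ T.ncard := by
        rw [← Nat.card_coe_set_eq]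
        exact Nat.card_le_card_of_injective (fun c : C => (⟨c, hCT c c.2⟩ : T)) (by
          intro a b hab
          simp only [Subtype.mk.injEq] at hab
          exact Subtype.ext hab)
      omega
    · push Not at hCT
      obtain ⟨y, hyC, hyT⟩ := hCT
      have hy2 : y ^ 2 = z := by
        rcases hsqz y with h1 | h1
        · exact absurd (hTmem y (h.mem_T hZ ht htZ y h1 ((hCmem y).1 hyC))) hyT
        · exact h1
      have hb := card_le_mul C (commHom h.c2 y) (T ∪ (fun u => y⁻¹ * u) '' T) (by
        intro u huC hu
        have hyu : y * u = u * y := by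
          have := congrArg Subtype.val hu
          rw [commHom_apply_coe] at this
          exact commutatorElement_eq_one_iff_mul_comm.1 this
        rcases hsqz u with h1 | h1
        · left
          exact hTmem u (h.mem_T hZ ht htZ u h1 ((hCmem u).1 huC))
        · right
          refine ⟨y * u, hTmem _ (h.mem_T hZ ht htZ _ ?_ ?_), by group⟩
          · rw [(show Commute y u from hyu).mul_pow, hy2, h1, ← pow_two, hzz]
          · exact (hCmem _).1 (C.mul_mem hyC huC))
      have h2 : (T ∪ (fun u => y⁻¹ * u) '' T).ncard ≤ 8 := by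
        have h3 := Set.ncard_union_le T ((fun u => y⁻¹ * u) '' T)
        have h4 := Set.ncard_image_le (f := fun u => y⁻¹ * u) (Set.toFinite T)
        omega
      rw [hZ] at hb
      omega
  -- index of C
  have hX2C : Nat.card X ≤ 2 * Nat.card C := by
    have hb := card_le_mul (⊤ : Subgroup X) (commHom h.c2 t) (C : Set X) (by
      intro u _ hu
      have := congrArg Subtype.val hu
      rw [commHom_apply_coe] at this
      exact (hCmem u).2 (commutatorElement_eq_one_iff_mul_comm.1 this).symm)
    rw [Subgroup.card_top, hZ, ← Nat.card_coe_set_eq] at hb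
    exact hb
  -- orders
  have hq := h.card_quot
  rw [hZ] at hq
  have hne2 : Nat.card X ≠ 2 := by
    intro h2
    apply h.nc
    apply Subgroup.eq_top_of_card_eq
    rw [h2, hZ]
  have hne8 : Nat.card X ≠ 8 := by
    intro h8
    have hq4 : Nat.card (X ⧸ Subgroup.center X) = 4 := by omega
    obtain ⟨a, b, hab⟩ := h.exComm
    have hall : ∀ y : X, y ^ 2 = 1 := by
      intro y
      by_cases hy : y ∈ Subgroup.center X
      · exact h.two y hy
      · obtain ⟨φ, _, hφ⟩ := h.trans_sq (Or.inl hq4) t y htZ hy
        rw [← hφ, ht, map_one]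
    apply hab
    have h1 := h.mul_sq b a
    rw [hall, hall, hall, one_mul, one_mul] at h1
    exact h1.symm
  have hX32 : Nat.card X = 32 := by
    have hle : Nat.card X ≤ 32 := by omega
    rw [hm] at hle hne2 hne8 ⊢
    rcases m with _ | _ | _ | m
    · exact absurd (by norm_num) hne2
    · exact absurd (by norm_num) hne8
    · norm_num
    · exfalso
      have : 2 ^ 7 ≤ 2 ^ (2 * (m + 1 + 1 + 1) + 1) := Nat.pow_le_pow_right (by norm_num) (by omega)
      omega
  refine ⟨hX32, ?_⟩
  have hC16' : Nat.card C = 16 := by omega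
  -- counting
  haveI : Fintype X := Fintype.ofFinite _
  have htC : t ∈ C := (hCmem t).2 rfl
  have hzC : z ∈ C := (hCmem z).2 ((Subgroup.mem_center_iff.1 hz) t).symm
  -- squares outside C flip under multiplication by t
  have hflip : ∀ x, x ∉ C → (x * t) ^ 2 = x ^ 2 * z := by
    intro x hx
    rw [h.mul_sq, ht, mul_one]
    have hcz : ⁅t, x⁆ = z := by
      rcases hel _ (h.c2.mem t x) with h1 | h1
      · exfalso
        apply hx
        rw [hCmem]
        exact (commutatorElement_eq_one_iff_mul_comm.1 h1).symm
      · exact h1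
    rw [hcz]
  let S1 : Finset X := Finset.univ.filter (fun x => x ∉ C ∧ x ^ 2 = 1)
  let S2 : Finset X := Finset.univ.filter (fun x => x ∉ C ∧ x ^ 2 ≠ 1)
  have hS12 : S1.card = S2.card := by
    refine Finset.card_bij' (fun x _ => x * t) (fun x _ => x * t) ?_ ?_ ?_ ?_
    · intro x hx
      simp only [S1, S2, Finset.mem_filter, Finset.mem_univ, true_and] at hx ⊢
      refine ⟨fun hc => hx.1 ((C.mul_mem_cancel_right htC).1 hc), ?_⟩
      rw [hflip x hx.1, hx.2, one_mul]
      exact hz1
    · intro x hx
      simp only [S1, S2, Finset.mem_filter, Finset.mem_univ, true_and] at hx ⊢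
      refine ⟨fun hc => hx.1 ((C.mul_mem_cancel_right htC).1 hc), ?_⟩
      rw [hflip x hx.1]
      rcases hsqz x with h1 | h1
      · exact absurd h1 hx.2
      · rw [h1, ← pow_two, hzz]
    · intro x hx
      simp only [mul_assoc, htt, mul_one]
    · intro x hx
      simp only [mul_assoc, htt, mul_one]
  let S3 : Finset X := Finset.univ.filter (fun x => x ∈ C)
  have hS3 : S3.card = 16 := by
    rw [← hC16', Nat.card_eq_fintype_card, Fintype.card_subtype]
  have hsum : S1.card + S2.card + S3.card = 32 := by
    have hd12 : Disjoint S1 S2 := by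
      rw [Finset.disjoint_left]
      intro x hx hx'
      simp only [S1, S2, Finset.mem_filter, Finset.mem_univ, true_and] at hx hx'
      exact hx'.2 hx.2
    have hd3 : Disjoint (S1 ∪ S2) S3 := by
      rw [Finset.disjoint_left]
      intro x hx hx'
      simp only [S1, S2, S3, Finset.mem_union, Finset.mem_filter, Finset.mem_univ, true_and] at hx hx'
      rcases hx with hx | hx
      · exact hx.1 hx'
      · exact hx.1 hx'
    rw [← Finset.card_union_of_disjoint hd12, ← Finset.card_union_of_disjoint hd3]
    have hu : S1 ∪ S2 ∪ S3 = Finset.univ := by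
      ext x
      simp only [S1, S2, S3, Finset.mem_union, Finset.mem_filter, Finset.mem_univ, true_and, iff_true]
      tauto
    rw [hu, Finset.card_univ, ← Nat.card_eq_fintype_card, hX32]
  have hS1 : S1.card = 8 := by omega
  have hne_t : z ≠ t := fun hc => htZ (hc ▸ hz)
  have ht1 : t ≠ 1 := fun hc => htZ (hc ▸ Subgroup.one_mem _)
  have hzt : z ≠ t * z := fun hc => ht1 (by
    have : 1 * z = t * z := by rw [one_mul]; exact hc
    exact (mul_right_cancel this).symm)
  have htz1 : t * z ≠ 1 := by
    intro hc
    apply htZ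
    have : t = z⁻¹ := eq_inv_of_mul_eq_one_left hc
    rw [this]
    exact Subgroup.inv_mem _ hz
  have htz2 : t ≠ t * z := fun hc => hz1 (by
    have : t * 1 = t * z := by rw [mul_one]; exact hc
    exact (mul_left_cancel this).symm)
  have hcomm : t * z = z * t := (Subgroup.mem_center_iff.1 hz) t
  have hset : (Finset.univ.filter (fun x : X => orderOf x = 2)) = S1 ∪ {z, t, t * z} := by
    ext x
    simp only [Finset.mem_filter, Finset.mem_univ, true_and, Finset.mem_union, S1, Finset.mem_insert, Finset.mem_singleton]
    constructor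
    · intro hx
      have hx2 : x ^ 2 = 1 := by rw [← hx]; exact pow_orderOf_eq_one x
      have hx1 : x ≠ 1 := by rintro rfl; simp at hx
      by_cases hxC : x ∈ C
      · right
        have h1 := hTmem x (h.mem_T hZ ht htZ x hx2 ((hCmem x).1 hxC))
        rcases h1 with h1 | h1 | h1 | h1
        · exact absurd h1 hx1
        · exact Or.inl h1
        · exact Or.inr (Or.inl h1)
        · exact Or.inr (Or.inr h1)
      · exact Or.inl ⟨hxC, hx2⟩
    · have key : ∀ y : X, y ≠ 1 → y ^ 2 = 1 → orderOf y = 2 := fun y hy1 hy2 =>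
        orderOf_eq_prime hy2 hy1
      rintro (⟨hxC, hx2⟩ | rfl | rfl | rfl)
      · exact key x (fun hc => hxC (hc ▸ C.one_mem)) hx2
      · exact key _ hz1 hzz
      · exact key _ ht1 ht
      · exact key _ htz1 (by rw [(show Commute t z from hcomm).mul_pow, ht, hzz, one_mul])
  rw [Nat.card_eq_fintype_card, Fintype.card_subtype, hset, Finset.card_union_of_disjoint, hS1]
  · rw [Finset.card_insert_of_notMem, Finset.card_insert_of_notMem, Finset.card_singleton]
    · rw [Finset.mem_singleton]; exact htz2
    · rw [Finset.mem_insert, Finset.mem_singleton, not_or]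
      exact ⟨hne_t, hzt⟩
  · rw [Finset.disjoint_left]
    intro x hx hx'
    simp only [S1, Finset.mem_filter, Finset.mem_univ, true_and, Finset.mem_insert, Finset.mem_singleton] at hx hx'
    apply hx.1
    rcases hx' with rfl | rfl | rfl
    · exact hzC
    · exact htC
    · exact C.mul_mem htC hzC

end Sp

end Cfsg.Agent.H21.OddA
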