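import Cfsg.Agent.H21.OddE

set_option autoImplicit false
set_option linter.all false

namespace Cfsg.Agent.H21.OddA

open scoped commutatorElement
open Cfsg.Agent.Extra

universe u
variable {X : Type u} [Group X] [Finite X] {A : Subgroup (MulAut X)}

namespace Sp

variable (h : Sp X A)
include h

/-! ### centre of order 4 -/

theorem inv_central (hZ : Nat.card (Subgroup.center X) = 4) (t : X) (ht : t ^ 2 = 1) : t ∈ Subgroup.center X := by
  refine h.noE.step (Subgroup.center X) inferInstance (fun x hx y _ => ((Subgroup.mem_center_iff.1 hx) y).symm) h.two hZ t ht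
    (fun s hs => (Subgroup.mem_center_iff.1 hs) t) ?_
  intro x
  have htt : t⁻¹ = t := inv_eq_of_mul_eq_one_left (by rw [← pow_two]; exact ht)
  have e : t * (x * t * x⁻¹) = ⁅t, x⁆ := by
    rw [commutatorElement_def, htt]
    group
  rw [e]
  exact h.c2.mem t x

theorem count4 (hZ : Nat.card (Subgroup.center X) = 4) :
    Nat.card {x : X // orderOf x = 2} = 3 ∧ ∀ x : X, orderOf x = 2 → x ∈ Subgroup.center X := by
  classical
  haveI : Fact (Nat.Prime 2) := ⟨Nat.prime_two⟩
  haveI : Fintype X := Fintype.ofFinite _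
  have hc : ∀ x : X, orderOf x = 2 → x ∈ Subgroup.center X := fun x hx =>
    h.inv_central hZ x (by rw [← hx]; exact pow_orderOf_eq_one x)
  refine ⟨?_, hc⟩
  have hset : (Finset.univ.filter (fun x : X => x ∈ Subgroup.center X)) =
      insert 1 (Finset.univ.filter (fun x : X => orderOf x = 2)) := by
    ext x
    simp only [Finset.mem_filter, Finset.mem_univ, true_and, Finset.mem_insert]
    constructor
    · intro hx
      by_cases h1 : x = 1
      · exact Or.inl h1
      · exact Or.inr (orderOf_eq_prime (h.two x hx) h1)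
    · rintro (rfl | hx)
      · exact Subgroup.one_mem _
      · exact hc x hx
  have h1 : (Finset.univ.filter (fun x : X => x ∈ Subgroup.center X)).card = 4 := by
    rw [← hZ, Nat.card_eq_fintype_card, Fintype.card_subtype]
  rw [hset, Finset.card_insert_of_notMem] at h1
  · rw [Nat.card_eq_fintype_card, Fintype.card_subtype]
    omega
  · simp

/-- the centralizer of a noncentral element -/
theorem cent_le (hZ : Nat.card (Subgroup.center X) = 4) (x : X) (hx : x ∉ Subgroup.center X) :
    Nat.card (Subgroup.centralizer ({x} : Set X)) ≤ 32 := by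
  classical
  haveI : Fact (Nat.Prime 2) := ⟨Nat.prime_two⟩
  set Z := Subgroup.center X with hZdef
  set C := Subgroup.centralizer ({x} : Set X) with hC
  have hCmem : ∀ u, u ∈ C ↔ u * x = x * u := fun u => by
    rw [hC, Subgroup.mem_centralizer_singleton_iff]
  have hx1 : x ^ 2 ≠ 1 := fun hc => hx (h.inv_central hZ x hc)
  let v : Subgroup.center X := ⟨x ^ 2, h.sq x⟩
  have hv1 : v ≠ 1 := fun hc => hx1 (congrArg Subtype.val hc)
  have hov : orderOf v = 2 := orderOf_eq_prime (Subtype.ext (h.two _ (h.sq x))) hv1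
  let N : Subgroup (Subgroup.center X) := Subgroup.zpowers v
  have hN : Nat.card N = 2 := by rw [Nat.card_zpowers, hov]
  have hQ : Nat.card (Subgroup.center X ⧸ N) = 2 := by
    have h1 := Subgroup.card_eq_card_quotient_mul_card_subgroup N
    have h2 : Nat.card (Subgroup.center X) = 4 := hZ
    rw [hN, h2] at h1
    omega
  have hNmem : ∀ w : Subgroup.center X, w ∈ N → w = 1 ∨ w = v := by
    intro w hw
    by_contra hcon
    push Not at hcon
    haveI : Fintype N := Fintype.ofFinite _
    have h3 : 2 < Fintype.card N := by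
      rw [Fintype.two_lt_card_iff]
      exact ⟨1, ⟨v, Subgroup.mem_zpowers v⟩, ⟨w, hw⟩, fun hc => hv1 (congrArg Subtype.val hc).symm,
        fun hc => hcon.1 (congrArg Subtype.val hc).symm, fun hc => hcon.2 (congrArg Subtype.val hc).symm⟩
    rw [← Nat.card_eq_fintype_card, hN] at h3
    omega
  have hvN : v ∈ N := Subgroup.mem_zpowers v
  -- two elements outside N have product in N
  have hprod : ∀ a b : Subgroup.center X, a ∉ N → b ∉ N → a * b ∈ N := by
    intro a b ha hb
    have hidx : N.index = 2 := by rw [Subgroup.index_eq_card, hQ]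
    rw [Subgroup.mul_mem_iff_of_index_two hidx]
    tauto
  -- squares in C
  have hsq : ∀ u ∈ C, (⟨u ^ 2, h.sq u⟩ : Subgroup.center X) ∈ N → u ∈ Z ∨ x * u ∈ Z := by
    intro u huC hu
    rcases hNmem _ hu with h1 | h1
    · left
      exact h.inv_central hZ u (congrArg Subtype.val h1)
    · right
      apply h.inv_central hZ
      have hc : Commute x u := ((hCmem u).1 huC).symm
      rw [hc.mul_pow]
      have h2 : u ^ 2 = x ^ 2 := congrArg Subtype.val h1
      rw [h2, ← pow_two, h.two _ (h.sq x)]
  let T : Set X := (Z : Set X) ∪ (fun u => x⁻¹ * u) '' (Z : Set X)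
  have hTmem : ∀ u, (u ∈ Z ∨ x * u ∈ Z) → u ∈ T := by
    rintro u (hu | hu)
    · exact Or.inl hu
    · exact Or.inr ⟨x * u, hu, by group⟩
  have hZn : (Z : Set X).ncard = 4 := by rw [← Nat.card_coe_set_eq]; exact hZ
  have hTcard : T.ncard ≤ 8 := by
    have h3 := Set.ncard_union_le (Z : Set X) ((fun u => x⁻¹ * u) '' (Z : Set X))
    have h4 := Set.ncard_image_le (f := fun u => x⁻¹ * u) (Set.toFinite (Z : Set X))
    change ((Z : Set X) ∪ (fun u => x⁻¹ * u) '' (Z : Set X)).ncard ≤ 8
    omega
  by_cases hCT : ∀ y ∈ C, y ∈ T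
  · have : Nat.card C ≤ T.ncard := by
      rw [← Nat.card_coe_set_eq]
      exact Nat.card_le_card_of_injective (fun c : C => (⟨c, hCT c c.2⟩ : T)) (by
        intro a b hab
        simp only [Subtype.mk.injEq] at hab
        exact Subtype.ext hab)
    omega
  · push Not at hCT
    obtain ⟨y, hyC, hyT⟩ := hCT
    have hy2 : (⟨y ^ 2, h.sq y⟩ : Subgroup.center X) ∉ N := fun hc => hyT (hTmem y (hsq y hyC hc))
    have hb := card_le_mul C ((QuotientGroup.mk' N).comp (commHom h.c2 y)) (T ∪ (fun u => y⁻¹ * u) '' T) (by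
      intro u huC hu
      rw [MonoidHom.comp_apply, QuotientGroup.mk'_apply, QuotientGroup.eq_one_iff] at hu
      by_cases hu2 : (⟨u ^ 2, h.sq u⟩ : Subgroup.center X) ∈ N
      · left
        exact hTmem u (hsq u huC hu2)
      · right
        refine ⟨y * u, hTmem _ (hsq _ (C.mul_mem hyC huC) ?_), by group⟩
        have e : (⟨(y * u) ^ 2, h.sq _⟩ : Subgroup.center X) =
            (⟨y ^ 2, h.sq y⟩ * ⟨u ^ 2, h.sq u⟩) * (commHom h.c2 y u)⁻¹ := by
          apply Subtype.ext
          change (y * u) ^ 2 = y ^ 2 * u ^ 2 * (⁅y, u⁆)⁻¹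
          rw [h.mul_sq, commutatorElement_inv]
        rw [e]
        exact N.mul_mem (hprod _ _ hy2 hu2) (N.inv_mem hu))
    have h2 : (T ∪ (fun u => y⁻¹ * u) '' T).ncard ≤ 16 := by
      have h3 := Set.ncard_union_le T ((fun u => y⁻¹ * u) '' T)
      have h4 := Set.ncard_image_le (f := fun u => y⁻¹ * u) (Set.toFinite T)
      omega
    rw [hQ] at hb
    omega

theorem card_le_128 (hZ : Nat.card (Subgroup.center X) = 4) (x : X) (hx : x ∉ Subgroup.center X) :
    Nat.card X ≤ 4 * Nat.card (Subgroup.centralizer ({x} : Set X)) := by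
  have hb := card_le_mul (⊤ : Subgroup X) (commHom h.c2 x) ((Subgroup.centralizer ({x} : Set X) : Subgroup X) : Set X) (by
    intro u _ hu
    have := congrArg Subtype.val hu
    rw [commHom_apply_coe] at this
    rw [SetLike.mem_coe, Subgroup.mem_centralizer_singleton_iff]
    exact (commutatorElement_eq_one_iff_mul_comm.1 this).symm)
  rw [Subgroup.card_top, hZ, ← Nat.card_coe_set_eq] at hb
  exact hb

/-- order 128 is impossible -/
theorem ne128 (hZ : Nat.card (Subgroup.center X) = 4) : Nat.card X ≠ 128 := by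
  classical
  haveI : Fact (Nat.Prime 2) := ⟨Nat.prime_two⟩
  intro h128
  -- commHom is surjective for noncentral x
  have hsurj : ∀ x : X, x ∉ Subgroup.center X → Function.Surjective (commHom h.c2 x) := by
    intro x hx
    have h1 := h.cent_le hZ x hx
    have h2 : Nat.card (commHom h.c2 x).ker * (commHom h.c2 x).ker.index = Nat.card X := Subgroup.card_mul_index _
    rw [ker_commHom, h128] at h2
    rw [← ker_commHom h.c2 x, Subgroup.index_ker, ker_commHom] at h2
    have h3 : 4 ≤ Nat.card (commHom h.c2 x).range := by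
      by_contra hcon
      push Not at hcon
      have : Nat.card (Subgroup.centralizer ({x} : Set X)) * Nat.card (commHom h.c2 x).range ≤ 32 * 3 :=
        Nat.mul_le_mul h1 (by omega)
      omega
    rw [← MonoidHom.range_eq_top]
    apply Subgroup.eq_top_of_card_eq
    have h4 : Nat.card (commHom h.c2 x).range ≤ Nat.card (Subgroup.center X) :=
      Nat.card_le_card_of_injective Subtype.val Subtype.val_injective
    rw [hZ] at h4 ⊢
    omega
  -- v in the centre
  obtain ⟨v, hv, hv1⟩ : ∃ v ∈ Subgroup.center X, v ≠ 1 := by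
    by_contra hcon
    push Not at hcon
    have : Subgroup.center X = ⊥ := (Subgroup.eq_bot_iff_forall _).2 hcon
    rw [this, Subgroup.card_bot] at hZ
    omega
  have hov : orderOf v = 2 := orderOf_eq_prime (h.two v hv) hv1
  let N : Subgroup X := Subgroup.zpowers v
  have hNZ : N ≤ Subgroup.center X := by rw [Subgroup.zpowers_le]; exact hv
  have hN2 : Nat.card N = 2 := by rw [Nat.card_zpowers, hov]
  haveI hNn : N.Normal := ⟨fun n hn g => by
    rw [(Subgroup.mem_center_iff.1 (hNZ hn)) g, mul_inv_cancel_right]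
    exact hn⟩
  obtain ⟨w, hw, hwN⟩ : ∃ w ∈ Subgroup.center X, w ∉ N := by
    by_contra hcon
    push Not at hcon
    have : Subgroup.center X ≤ N := hcon
    have h1 := Subgroup.card_le_of_le this
    omega
  have hcent : ∀ x : X, (QuotientGroup.mk x : X ⧸ N) ∈ Subgroup.center (X ⧸ N) ↔ x ∈ Subgroup.center X := by
    intro x
    constructor
    · intro hx
      by_contra hxZ
      obtain ⟨y, hy⟩ := hsurj x hxZ ⟨w, hw⟩
      have h1 : ⁅x, y⁆ = w := congrArg Subtype.val hy
      apply hwN
      rw [← h1, ← QuotientGroup.eq_one_iff]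
      have h2 := (Subgroup.mem_center_iff.1 hx) (QuotientGroup.mk y)
      have h3 : (QuotientGroup.mk ⁅x, y⁆ : X ⧸ N) = ⁅(QuotientGroup.mk x : X ⧸ N), (QuotientGroup.mk y : X ⧸ N)⁆ :=
        map_commutatorElement (QuotientGroup.mk' N) x y
      rw [h3]
      exact commutatorElement_eq_one_iff_mul_comm.2 h2.symm
    · intro hx
      rw [Subgroup.mem_center_iff]
      intro g
      obtain ⟨g, rfl⟩ := QuotientGroup.mk_surjective g
      rw [← QuotientGroup.mk_mul, ← QuotientGroup.mk_mul, (Subgroup.mem_center_iff.1 hx) g]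
  have hY : Nat.card (X ⧸ N) = 64 := by
    have h1 := Subgroup.card_eq_card_quotient_mul_card_subgroup N
    rw [hN2, h128] at h1
    omega
  have hcY : Nat.card (Subgroup.center (X ⧸ N)) = 2 := by
    have hmap : Subgroup.center (X ⧸ N) = (Subgroup.center X).map (QuotientGroup.mk' N) := by
      ext y
      obtain ⟨y, rfl⟩ := QuotientGroup.mk_surjective y
      rw [hcent, Subgroup.mem_map]
      constructor
      · intro hy
        exact ⟨y, hy, rfl⟩
      · rintro ⟨y', hy', he⟩
        have h1 : y'⁻¹ * y ∈ N := QuotientGroup.eq.1 he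
        have h2 : y = y' * (y'⁻¹ * y) := by group
        rw [h2]
        exact Subgroup.mul_mem _ hy' (hNZ h1)
    have h1 : Nat.card (Subgroup.center (X ⧸ N)) * (Subgroup.center (X ⧸ N)).index = Nat.card (X ⧸ N) := Subgroup.card_mul_index _
    have h2 : (Subgroup.center (X ⧸ N)).index = (Subgroup.center X).index := by
      rw [hmap]
      apply Subgroup.index_map_eq _ (QuotientGroup.mk'_surjective N)
      rw [QuotientGroup.ker_mk']
      exact hNZ
    have h3 : Nat.card (Subgroup.center X) * (Subgroup.center X).index = Nat.card X := Subgroup.card_mul_index _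
    rw [hZ, h128] at h3
    rw [h2, hY] at h1
    have h4 : (Subgroup.center X).index = 32 := by omega
    rw [h4] at h1
    omega
  have hges : GES 2 (X ⧸ N) := by
    refine ⟨hcY, ?_⟩
    rw [classTwo_iff]
    intro a b
    obtain ⟨a, rfl⟩ := QuotientGroup.mk_surjective a
    obtain ⟨b, rfl⟩ := QuotientGroup.mk_surjective b
    have h3 : (QuotientGroup.mk ⁅a, b⁆ : X ⧸ N) = ⁅(QuotientGroup.mk a : X ⧸ N), (QuotientGroup.mk b : X ⧸ N)⁆ :=
      map_commutatorElement (QuotientGroup.mk' N) a b
    rw [← h3, hcent]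
    exact h.c2.mem a b
  obtain ⟨m, hm⟩ := hges.exists_card'
  rw [hY] at hm
  have h6 : (2 : ℕ) ^ 6 = 2 ^ (2 * m + 1) := by rw [← hm]; norm_num
  have := Nat.pow_right_injective le_rfl h6
  omega

end Sp

end Cfsg.Agent.H21.OddA
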