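import Cfsg.Agent.H21.OddF

set_option autoImplicit false
set_option linter.all false

namespace Cfsg.Agent.H21.OddA

open scoped commutatorElement
open Cfsg.Agent.Extra

universe u
variable {X : Type u} [Group X] [Finite X] {A : Subgroup (MulAut X)}

/-- a group of class two with few central cosets has few commutators -/
theorem comm_two (h2 : ClassTwo X) (hsq : ∀ x y : X, ⁅x, y⁆ ^ 2 = 1) (x y : X)
    (hX : Nat.card X ≤ 4 * Nat.card (Subgroup.center X)) (hxy : ⁅x, y⁆ ≠ 1) :
    ∀ a b : X, ⁅a, b⁆ = 1 ∨ ⁅a, b⁆ = ⁅x, y⁆ := by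
  classical
  haveI : Fintype X := Fintype.ofFinite _
  set c := ⁅x, y⁆ with hc
  set Z := Subgroup.center X with hZ
  have hcc : c * c = 1 := by rw [← pow_two]; exact hsq x y
  have hcZ : ∀ z ∈ Z, ∀ g : X, ⁅z, g⁆ = 1 := by
    intro z hz g
    exact commutatorElement_eq_one_iff_mul_comm.2 ((Subgroup.mem_center_iff.1 hz) g).symm
  have hcZ' : ∀ z ∈ Z, ∀ g : X, ⁅g, z⁆ = 1 := by
    intro z hz g
    exact commutatorElement_eq_one_iff_mul_comm.2 ((Subgroup.mem_center_iff.1 hz) g)
  have hyx : ⁅y, x⁆ = c := by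
    rw [← commutatorElement_inv, ← hc]
    exact inv_eq_of_mul_eq_one_left hcc
  -- the four cosets
  let F : X → Finset X := fun g => Finset.univ.filter (fun u => g⁻¹ * u ∈ Z)
  have hFcard : ∀ g, (F g).card = Nat.card Z := by
    intro g
    rw [Nat.card_eq_fintype_card, Fintype.card_subtype]
    apply Finset.card_bij (fun u _ => g⁻¹ * u)
    · intro u hu
      simpa [F] using hu
    · intro a _ b _ hab
      exact mul_left_cancel hab
    · intro b hb
      refine ⟨g * b, ?_, by group⟩
      simpa [F] using hb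
  have hFd : ∀ a b : X, a⁻¹ * b ∉ Z → Disjoint (F a) (F b) := by
    intro a b hab
    rw [Finset.disjoint_left]
    intro u hu hu'
    simp only [F, Finset.mem_filter, Finset.mem_univ, true_and] at hu hu'
    apply hab
    have : a⁻¹ * b = (a⁻¹ * u) * (b⁻¹ * u)⁻¹ := by group
    rw [this]
    exact Z.mul_mem hu (Z.inv_mem hu')
  have hx : x ∉ Z := fun hc' => hxy (hcZ x hc' y)
  have hy : y ∉ Z := fun hc' => hxy (hcZ' y hc' x)
  have hxy1 : x⁻¹ * y ∉ Z := by
    intro hc'
    apply hxy
    have e : y = x * (x⁻¹ * y) := by group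
    rw [hc, e, h2.mul_right, commutatorElement_self, hcZ' _ hc', mul_one]
  have hxy2 : x * y ∉ Z := by
    intro hc'
    apply hxy
    have e := hcZ' _ hc' x
    rw [h2.mul_right, commutatorElement_self, one_mul] at e
    exact e
  have d1 : Disjoint (F 1) (F x) := hFd _ _ (by simpa using hx)
  have d2 : Disjoint (F 1) (F y) := hFd _ _ (by simpa using hy)
  have d3 : Disjoint (F 1) (F (x * y)) := hFd _ _ (by simpa using hxy2)
  have d4 : Disjoint (F x) (F y) := hFd _ _ hxy1
  have d5 : Disjoint (F x) (F (x * y)) := hFd _ _ (by simpa using hy)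
  have d6 : Disjoint (F y) (F (x * y)) := hFd _ _ (by
    intro hc'
    apply hxy
    have e := hcZ' _ hc' y
    rw [h2.mul_right, h2.mul_right, h2.inv_right, commutatorElement_self, inv_one, one_mul, mul_one, hyx] at e
    exact e)
  have hcard : (F 1 ∪ F x ∪ F y ∪ F (x * y)).card = 4 * Nat.card Z := by
    rw [Finset.card_union_of_disjoint, Finset.card_union_of_disjoint, Finset.card_union_of_disjoint d1,
      hFcard, hFcard, hFcard, hFcard]
    · ring
    · rw [Finset.disjoint_union_left]
      exact ⟨d2, d4⟩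
    · rw [Finset.disjoint_union_left, Finset.disjoint_union_left]
      exact ⟨⟨d3, d5⟩, d6⟩
  have huniv : F 1 ∪ F x ∪ F y ∪ F (x * y) = Finset.univ := by
    rw [← Finset.card_eq_iff_eq_univ]
    have h1 := Finset.card_le_univ (F 1 ∪ F x ∪ F y ∪ F (x * y))
    rw [← Nat.card_eq_fintype_card] at h1 ⊢
    omega
  have hmem : ∀ g : X, ∃ z ∈ Z, g = z ∨ g = x * z ∨ g = y * z ∨ g = x * y * z := by
    intro g
    have hg : g ∈ F 1 ∪ F x ∪ F y ∪ F (x * y) := by rw [huniv]; exact Finset.mem_univ g
    simp only [Finset.mem_union, F, Finset.mem_filter, Finset.mem_univ, true_and] at hg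
    rcases hg with ((hg | hg) | hg) | hg
    · exact ⟨_, hg, Or.inl (by group)⟩
    · exact ⟨_, hg, Or.inr (Or.inl (by group))⟩
    · exact ⟨_, hg, Or.inr (Or.inr (Or.inl (by group)))⟩
    · exact ⟨_, hg, Or.inr (Or.inr (Or.inr (by group)))⟩
  have hxg : ∀ g : X, ⁅x, g⁆ = 1 ∨ ⁅x, g⁆ = c := by
    intro g
    obtain ⟨z, hz, hg | hg | hg | hg⟩ := hmem g
    · rw [hg]; exact Or.inl (hcZ' z hz x)
    · rw [hg, h2.mul_right, commutatorElement_self, hcZ' z hz]; simp
    · rw [hg, h2.mul_right, hcZ' z hz, mul_one]; exact Or.inr rfl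
    · rw [hg, h2.mul_right, h2.mul_right, commutatorElement_self, hcZ' z hz, mul_one, one_mul]; exact Or.inr rfl
  have hyg : ∀ g : X, ⁅y, g⁆ = 1 ∨ ⁅y, g⁆ = c := by
    intro g
    obtain ⟨z, hz, hg | hg | hg | hg⟩ := hmem g
    · rw [hg]; exact Or.inl (hcZ' z hz y)
    · rw [hg, h2.mul_right, hcZ' z hz, mul_one, hyx]; exact Or.inr rfl
    · rw [hg, h2.mul_right, commutatorElement_self, hcZ' z hz, mul_one]; exact Or.inl rfl
    · rw [hg, h2.mul_right, h2.mul_right, commutatorElement_self, hcZ' z hz, mul_one, mul_one, hyx]; exact Or.inr rfl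
  intro a b
  obtain ⟨z, hz, hg | hg | hg | hg⟩ := hmem a
  · rw [hg]; exact Or.inl (hcZ z hz b)
  · rw [hg, h2.mul_left, hcZ z hz, mul_one]; exact hxg b
  · rw [hg, h2.mul_left, hcZ z hz, mul_one]; exact hyg b
  · rw [hg, h2.mul_left, h2.mul_left, hcZ z hz, mul_one]
    rcases hxg b with h1 | h1 <;> rcases hyg b with h3 | h3 <;> rw [h1, h3]
    · left; rw [mul_one]
    · right; rw [one_mul]
    · right; rw [mul_one]
    · left; exact hcc

/-- the derived group has order at most two if all commutators are `1` or `c` -/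
theorem card_comm_le {c : X} (hcc : c * c = 1) (hall : ∀ a b : X, ⁅a, b⁆ = 1 ∨ ⁅a, b⁆ = c) :
    Nat.card (commutator X) ≤ 2 := by
  have h1 : commutator X ≤ Subgroup.zpowers c := by
    rw [commutator_def, Subgroup.commutator_le]
    intro a _ b _
    rcases hall a b with h | h
    · rw [h]; exact Subgroup.one_mem _
    · rw [h]; exact Subgroup.mem_zpowers c
  have h2 := Subgroup.card_le_of_le h1
  rw [Nat.card_zpowers] at h2
  have h3 : orderOf c ∣ 2 := orderOf_dvd_of_pow_eq_one (by rw [pow_two]; exact hcc)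
  have := Nat.le_of_dvd (by norm_num) h3
  omega

namespace Sp

variable (h : Sp X A)
include h

theorem gt16 (hZ : Nat.card (Subgroup.center X) = 4) : 16 < Nat.card X := by
  by_contra hcon
  push Not at hcon
  obtain ⟨x, y, hxy⟩ := h.exComm
  have h1 := comm_two h.c2 h.comm_sq x y (by rw [hZ]; omega) hxy
  have h2 := card_comm_le (c := ⁅x, y⁆) (by rw [← pow_two]; exact h.comm_sq x y) h1
  rw [h.com, hZ] at h2
  omega

theorem ne32 (hZ : Nat.card (Subgroup.center X) = 4) : Nat.card X ≠ 32 := by
  classical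
  haveI : Fintype X := Fintype.ofFinite _
  intro h32
  by_cases htriv : ∀ φ ∈ A, ∀ z ∈ Subgroup.center X, φ z = z
  · -- transitivity on the noncentral cosets
    have hq : Nat.card (X ⧸ Subgroup.center X) = 8 := by
      have := h.card_quot
      rw [hZ, h32] at this
      omega
    obtain ⟨x, y, hxy⟩ := h.exComm
    have hx : x ∉ Subgroup.center X := by
      intro hc
      exact hxy (commutatorElement_eq_one_iff_mul_comm.2 ((Subgroup.mem_center_iff.1 hc) y).symm)
    have hsq : ∀ g : X, g ^ 2 = 1 ∨ g ^ 2 = x ^ 2 := by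
      intro g
      by_cases hg : g ∈ Subgroup.center X
      · exact Or.inl (h.two g hg)
      · right
        obtain ⟨φ, hφ, he⟩ := h.trans_sq (Or.inr hq) x g hx hg
        rw [← he, htriv φ hφ _ (h.sq x)]
    have hxx : x ^ 2 * x ^ 2 = 1 := by rw [← pow_two]; exact h.two _ (h.sq x)
    have h1 : ∀ a b : X, ⁅a, b⁆ = 1 ∨ ⁅a, b⁆ = x ^ 2 := by
      intro a b
      have e := h.mul_sq b a
      -- (ba)^2 = b^2 a^2 [a,b]
      have e2 : ⁅a, b⁆ = (b ^ 2 * a ^ 2)⁻¹ * (b * a) ^ 2 := by rw [e]; group
      rw [e2]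
      have hinv : (x ^ 2)⁻¹ = x ^ 2 := inv_eq_of_mul_eq_one_left hxx
      rcases hsq a with ha | ha <;> rcases hsq b with hb | hb <;> rcases hsq (b * a) with hab | hab <;>
        rw [ha, hb, hab] <;> simp [hinv, hxx]
    have h2 := card_comm_le (c := x ^ 2) hxx h1
    rw [h.com, hZ] at h2
    omega
  · push Not at htriv
    obtain ⟨φ, hφ, v, hv, hvφ⟩ := htriv
    have hodd := odd_of_mem h.odd hφ
    have hZφ : ∀ z ∈ Subgroup.center X, φ z ∈ Subgroup.center X := by
      intro z hz
      have := (inferInstance : (Subgroup.center X).Characteristic).fixed φ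
      rw [← this] at hz
      exact hz
    have hv1 : v ≠ 1 := by
      rintro rfl
      exact hvφ (map_one φ)
    have hφφ : φ (φ v) ≠ v := by
      intro hc
      -- odd order
      have h1 : ∀ n : ℕ, (φ ^ (2 * n)) v = v := by
        intro n
        induction n with
        | zero => simp
        | succ n ih =>
          rw [show 2 * (n + 1) = 2 * n + 2 by ring, pow_add, MulAut.mul_apply, pow_two, MulAut.mul_apply, hc, ih]
      obtain ⟨k, hk⟩ := hodd
      have h2 : (φ ^ orderOf φ) v = v := by rw [pow_orderOf_eq_one]; rfl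
      rw [hk, pow_add, MulAut.mul_apply, pow_one] at h2
      -- φ^(2k) (φ v) = v, and φ^(2k) (φ v) = φ (φ^(2k) v) = φ v
      have h3 : (φ ^ (2 * k)) (φ v) = φ ((φ ^ (2 * k)) v) := by
        rw [← MulAut.mul_apply, ← MulAut.mul_apply, ← pow_succ, ← pow_succ']
      rw [h3, h1] at h2
      exact hvφ h2
    have hinj := φ.injective
    have h12 : φ v ≠ v := hvφ
    have h23 : φ (φ v) ≠ φ v := fun hc => hvφ (hinj hc)
    have hφ1 : φ v ≠ 1 := fun hc => hv1 (hinj (by rw [hc, map_one]))
    have hφφ1 : φ (φ v) ≠ 1 := fun hc => hφ1 (hinj (by rw [hc, map_one]))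
    have hvz := hZφ v hv
    have hvzz := hZφ _ hvz
    let S : X → Finset X := fun w => Finset.univ.filter (fun x => x ^ 2 = w)
    have hScard : ∀ w, (S w).card = (S (φ w)).card := by
      intro w
      apply Finset.card_bij' (fun x _ => φ x) (fun x _ => φ.symm x)
      · intro x hx
        simp only [S, Finset.mem_filter, Finset.mem_univ, true_and] at hx ⊢
        rw [← map_pow, hx]
      · intro x hx
        simp only [S, Finset.mem_filter, Finset.mem_univ, true_and] at hx ⊢
        apply hinj
        rw [map_pow, MulEquiv.apply_symm_apply, hx]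
      · intro x hx; simp
      · intro x hx; simp
    have hSd : ∀ a b : X, a ≠ b → Disjoint (S a) (S b) := by
      intro a b hab
      rw [Finset.disjoint_left]
      intro x hx hx'
      simp only [S, Finset.mem_filter, Finset.mem_univ, true_and] at hx hx'
      exact hab (hx.symm.trans hx')
    -- the centre is {1, v, φ v, φ φ v}
    have hZel : ∀ z ∈ Subgroup.center X, z = 1 ∨ z = v ∨ z = φ v ∨ z = φ (φ v) := by
      intro z hz
      by_contra hcon
      push Not at hcon
      obtain ⟨c1, c2, c3, c4⟩ := hcon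
      have hsub : ({1, v, φ v, φ (φ v), z} : Finset X) ⊆ Finset.univ.filter (fun x => x ∈ Subgroup.center X) := by
        intro x hx
        simp only [Finset.mem_insert, Finset.mem_singleton] at hx
        simp only [Finset.mem_filter, Finset.mem_univ, true_and]
        rcases hx with rfl | rfl | rfl | rfl | rfl
        · exact Subgroup.one_mem _
        · exact hv
        · exact hvz
        · exact hvzz
        · exact hz
      have h1 := Finset.card_le_card hsub
      rw [← Fintype.card_subtype, ← Nat.card_eq_fintype_card] at h1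
      have h2 : ({1, v, φ v, φ (φ v), z} : Finset X).card = 5 := by
        rw [Finset.card_insert_of_notMem, Finset.card_insert_of_notMem, Finset.card_insert_of_notMem,
          Finset.card_insert_of_notMem, Finset.card_singleton]
        · simp only [Finset.mem_singleton]; exact fun hc => c4 hc.symm
        · simp only [Finset.mem_insert, Finset.mem_singleton, not_or]; exact ⟨fun hc => h23 hc.symm, fun hc => c3 hc.symm⟩
        · simp only [Finset.mem_insert, Finset.mem_singleton, not_or]
          exact ⟨fun hc => h12 hc.symm, fun hc => hφφ hc.symm, fun hc => c2 hc.symm⟩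
        · simp only [Finset.mem_insert, Finset.mem_singleton, not_or]
          exact ⟨fun hc => hv1 hc.symm, fun hc => hφ1 hc.symm, fun hc => hφφ1 hc.symm, fun hc => c1 hc.symm⟩
      rw [h2] at h1
      have h3 : Nat.card (Subgroup.center X) = Nat.card { x // x ∈ Subgroup.center X } := rfl
      rw [← h3, hZ] at h1
      omega
    let S0 : Finset X := Finset.univ.filter (fun x => x ∈ Subgroup.center X)
    have hS0 : S0.card = 4 := by
      rw [← hZ, Nat.card_eq_fintype_card, Fintype.card_subtype]
    have hS0eq : S0 = S 1 := by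
      ext x
      simp only [S0, S, Finset.mem_filter, Finset.mem_univ, true_and]
      exact ⟨fun hx => h.two x hx, fun hx => h.inv_central hZ x hx⟩
    have huniv : S 1 ∪ S v ∪ S (φ v) ∪ S (φ (φ v)) = Finset.univ := by
      ext x
      simp only [Finset.mem_union, S, Finset.mem_filter, Finset.mem_univ, true_and, iff_true]
      rcases hZel _ (h.sq x) with h1 | h1 | h1 | h1
      · exact Or.inl (Or.inl (Or.inl h1))
      · exact Or.inl (Or.inl (Or.inr h1))
      · exact Or.inl (Or.inr h1)
      · exact Or.inr h1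
    have hcard : (S 1 ∪ S v ∪ S (φ v) ∪ S (φ (φ v))).card = (S 1).card + (S v).card + (S (φ v)).card + (S (φ (φ v))).card := by
      rw [Finset.card_union_of_disjoint, Finset.card_union_of_disjoint, Finset.card_union_of_disjoint]
      · exact hSd _ _ hv1.symm
      · rw [Finset.disjoint_union_left]
        exact ⟨hSd _ _ hφ1.symm, hSd _ _ h12.symm⟩
      · rw [Finset.disjoint_union_left, Finset.disjoint_union_left]
        exact ⟨⟨hSd _ _ hφφ1.symm, hSd _ _ (fun hc => hφφ hc.symm)⟩, hSd _ _ h23.symm⟩
    rw [huniv, Finset.card_univ, ← Nat.card_eq_fintype_card, h32, ← hS0eq, hS0, ← hScard (φ v), ← hScard v] at hcard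
    omega

/-- the conclusion for special groups -/
theorem final : Nonempty (X ≃* QuaternionGroup 2) ∨
      (Cfsg.IsSpecial 2 X ∧ Nat.card X = 64 ∧ Nat.card {x : X // orderOf x = 2} = 3 ∧
        ∀ x : X, orderOf x = 2 → x ∈ Subgroup.center X) ∨
      (Cfsg.IsExtraspecial 2 X ∧ Nat.card X = 32 ∧ Nat.card {x : X // orderOf x = 2} = 11) := by
  haveI : Fact (Nat.Prime 2) := ⟨Nat.prime_two⟩
  have hfr : frattini X = Subgroup.center X := by
    apply le_antisymm
    · exact Cfsg.Agent.Solv.frattini_le_of_elementary_quotient (p := 2) _ h.com.le h.sq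
    · rw [← h.com]
      exact Cfsg.Agent.Solv.commutator_le_frattini_of_pGroup h.pg
  have hsp : Cfsg.IsSpecial 2 X := ⟨h.pg, hfr, h.com⟩
  rcases h.centerCard with hZ | hZ
  · by_cases hun : ∀ t : X, t ^ 2 = 1 → t ∈ Subgroup.center X
    · exact Or.inl (h.quat hun hZ)
    · push Not at hun
      obtain ⟨t, ht, htZ⟩ := hun
      exact Or.inr (Or.inr ⟨⟨hsp, hZ⟩, h.ext_case hZ ht htZ⟩)
  · right; left
    obtain ⟨x, y, hxy⟩ := h.exComm
    have hx : x ∉ Subgroup.center X := by
      intro hc
      exact hxy (commutatorElement_eq_one_iff_mul_comm.2 ((Subgroup.mem_center_iff.1 hc) y).symm)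
    have h1 := h.card_le_128 hZ x hx
    have h2 := h.cent_le hZ x hx
    have h3 := h.ne128 hZ
    have h4 := h.gt16 hZ
    have h5 := h.ne32 hZ
    obtain ⟨k, hk⟩ := h.exCard
    have h6 : Nat.card X ≤ 128 := by omega
    have h64 : Nat.card X = 64 := by
      have hk7 : k ≤ 7 := by
        by_contra hcon
        push Not at hcon
        have : 2 ^ 8 ≤ 2 ^ k := Nat.pow_le_pow_right (by norm_num) hcon
        omega
      interval_cases k <;> omega
    exact ⟨hsp, h64, h.count4 hZ⟩

end Sp

end Cfsg.Agent.H21.OddA
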