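import Cfsg.Agent.H21.OddG

set_option autoImplicit false
set_option linter.all false

namespace Cfsg.Agent.H21.OddA

open scoped commutatorElement
open Cfsg.Agent.Extra

universe u
variable {X : Type u} [Group X] [Finite X]

/-- an element of order two modulo `B`, central modulo `B` -/
theorem exists_step (hX : IsPGroup 2 X) (B C : Subgroup X) (hB : B.Normal) (hC : C.Normal) (hBC : ¬ C ≤ B) :
    ∃ x ∈ C, x ∉ B ∧ x ^ 2 ∈ B ∧ ∀ y : X, ⁅y, x⁆ ∈ B := by
  haveI : Fact (Nat.Prime 2) := ⟨Nat.prime_two⟩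
  have hQ : IsPGroup 2 (X ⧸ B) := hX.to_quotient B
  haveI := hQ.isNilpotent
  haveI := hC
  set π := QuotientGroup.mk' B
  haveI hCn : (C.map π).Normal := hC.map π (QuotientGroup.mk'_surjective B)
  have hne : C.map π ≠ ⊥ := by
    intro h
    apply hBC
    intro x hx
    have h1 : π x ∈ C.map π := ⟨x, hx, rfl⟩
    rw [h, Subgroup.mem_bot] at h1
    exact (QuotientGroup.eq_one_iff x).1 h1
  have h1 := Cfsg.Agent.Solv.inf_center_ne_bot_of_nilpotent (C.map π) hne
  obtain ⟨w, hw, hw1⟩ : ∃ w ∈ C.map π ⊓ Subgroup.center (X ⧸ B), w ≠ 1 := by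
    by_contra hcon
    push Not at hcon
    exact h1 ((Subgroup.eq_bot_iff_forall _).2 hcon)
  -- a power of order two
  obtain ⟨k, hk⟩ := hQ w
  have hex : ∃ k, w ^ 2 ^ k = 1 := ⟨k, hk⟩
  classical
  have hm := Nat.find_spec hex
  have hm0 : Nat.find hex ≠ 0 := by
    intro h0
    rw [h0] at hm
    apply hw1
    simpa using hm
  obtain ⟨j, hj⟩ := Nat.exists_eq_succ_of_ne_zero hm0
  have hlt : w ^ 2 ^ j ≠ 1 := Nat.find_min hex (by omega)
  have hw2 : w ^ 2 ^ j ∈ C.map π ⊓ Subgroup.center (X ⧸ B) := Subgroup.pow_mem _ hw _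
  obtain ⟨⟨x, hxC, hx⟩, hxc⟩ := hw2
  refine ⟨x, hxC, ?_, ?_, ?_⟩
  · intro hxB
    apply hlt
    rw [← hx]
    exact (QuotientGroup.eq_one_iff x).2 hxB
  · rw [← QuotientGroup.eq_one_iff, QuotientGroup.mk_pow]
    change (π x) ^ 2 = 1
    rw [hx, ← pow_mul, ← pow_succ]
    rw [hj] at hm
    exact hm
  · intro y
    rw [← QuotientGroup.eq_one_iff]
    have h3 : (QuotientGroup.mk ⁅y, x⁆ : X ⧸ B) = ⁅(QuotientGroup.mk y : X ⧸ B), (QuotientGroup.mk x : X ⧸ B)⁆ :=
      map_commutatorElement π y x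
    rw [h3]
    apply commutatorElement_eq_one_iff_mul_comm.2
    have : (QuotientGroup.mk x : X ⧸ B) = w ^ 2 ^ j := hx
    rw [this]
    exact (Subgroup.mem_center_iff.1 hxc) _

/-- triviality on elements of order two implies triviality, for abelian subgroups -/
theorem fix_of_fix_two (hX : IsPGroup 2 X) (B : Subgroup X) (hBc : ∀ x ∈ B, ∀ y ∈ B, x * y = y * x)
    {φ : MulAut X} (ho : Odd (orderOf φ)) (hφ : ∀ b ∈ B, φ b ∈ B) (h2 : ∀ b ∈ B, b ^ 2 = 1 → φ b = b) :
    ∀ b ∈ B, φ b = b := by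
  have key : ∀ k : ℕ, ∀ b ∈ B, b ^ 2 ^ k = 1 → φ b = b := by
    intro k
    induction k with
    | zero =>
      intro b hb hk
      have : b = 1 := by simpa using hk
      rw [this, map_one]
    | succ k ih =>
      intro b hb hk
      have h3 : φ (b ^ 2) = b ^ 2 := by
        apply ih _ (B.pow_mem hb 2)
        rw [← pow_mul, ← pow_succ']
        exact hk
      have hc : b⁻¹ * φ b ∈ B := B.mul_mem (B.inv_mem hb) (hφ b hb)
      have hc2 : (b⁻¹ * φ b) ^ 2 = 1 := by
        have hcm : Commute b⁻¹ (φ b) := hBc _ (B.inv_mem hb) _ (hφ b hb)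
        rw [hcm.mul_pow, ← map_pow, h3, inv_pow, inv_mul_cancel]
      have h4 := fix_step hX ho (x := b) (c := b⁻¹ * φ b) (h2 _ hc hc2) (by group)
      exact (eq_of_inv_mul_eq_one h4).symm
  intro b hb
  obtain ⟨k, hk⟩ := hX b
  exact key k b hb hk

/-- an automorphism of odd order acting nontrivially on a subgroup of order at most four -/
structure Tri (V : Subgroup X) (φ : MulAut X) (v : X) : Prop where
  odd : Odd (orderOf φ)
  inv : ∀ x ∈ V, φ x ∈ V
  le4 : Nat.card V ≤ 4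
  two : ∀ x ∈ V, x ^ 2 = 1
  com : ∀ x ∈ V, ∀ y ∈ V, x * y = y * x
  mem : v ∈ V
  ne : φ v ≠ v

namespace Tri

variable {V : Subgroup X} {φ : MulAut X} {v : X} (h : Tri V φ v)
include h

theorem v1 : v ≠ 1 := by
  intro hc
  apply h.ne
  rw [hc, map_one]

theorem vv : φ (φ v) ≠ v := by
  intro hc
  have h1 : ∀ n : ℕ, (φ ^ (2 * n)) v = v := by
    intro n
    induction n with
    | zero => simp
    | succ n ih =>
      rw [show 2 * (n + 1) = 2 * n + 2 by ring, pow_add, MulAut.mul_apply, pow_two, MulAut.mul_apply, hc, ih]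
  obtain ⟨k, hk⟩ := h.odd
  have h2 : (φ ^ orderOf φ) v = v := by rw [pow_orderOf_eq_one]; rfl
  rw [hk, pow_add, MulAut.mul_apply, pow_one] at h2
  have h3 : (φ ^ (2 * k)) (φ v) = φ ((φ ^ (2 * k)) v) := by
    rw [← MulAut.mul_apply, ← MulAut.mul_apply, ← pow_succ, ← pow_succ']
  rw [h3, h1] at h2
  exact h.ne h2

theorem dist : φ v ≠ 1 ∧ φ (φ v) ≠ 1 ∧ φ (φ v) ≠ φ v := by
  have hinj := φ.injective
  have hφ1 : φ v ≠ 1 := fun hc => h.v1 (hinj (by rw [hc, map_one]))
  exact ⟨hφ1, fun hc => hφ1 (hinj (by rw [hc, map_one])), fun hc => h.ne (hinj hc)⟩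

theorem el (z : X) (hz : z ∈ V) : z = 1 ∨ z = v ∨ z = φ v ∨ z = φ (φ v) := by
  classical
  haveI : Fintype X := Fintype.ofFinite _
  obtain ⟨hφ1, hφφ1, h23⟩ := h.dist
  by_contra hcon
  push Not at hcon
  obtain ⟨c1, c2, c3, c4⟩ := hcon
  have hsub : ({1, v, φ v, φ (φ v), z} : Finset X) ⊆ Finset.univ.filter (fun x => x ∈ V) := by
    intro x hx
    simp only [Finset.mem_insert, Finset.mem_singleton] at hx
    simp only [Finset.mem_filter, Finset.mem_univ, true_and]
    rcases hx with rfl | rfl | rfl | rfl | rfl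
    · exact Subgroup.one_mem _
    · exact h.mem
    · exact h.inv _ h.mem
    · exact h.inv _ (h.inv _ h.mem)
    · exact hz
  have h1 := Finset.card_le_card hsub
  rw [← Fintype.card_subtype, ← Nat.card_eq_fintype_card] at h1
  have h2 : ({1, v, φ v, φ (φ v), z} : Finset X).card = 5 := by
    rw [Finset.card_insert_of_notMem, Finset.card_insert_of_notMem, Finset.card_insert_of_notMem,
      Finset.card_insert_of_notMem, Finset.card_singleton]
    · simp only [Finset.mem_singleton]; exact fun hc => c4 hc.symm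
    · simp only [Finset.mem_insert, Finset.mem_singleton, not_or]; exact ⟨fun hc => h23 hc.symm, fun hc => c3 hc.symm⟩
    · simp only [Finset.mem_insert, Finset.mem_singleton, not_or]
      exact ⟨fun hc => h.ne hc.symm, fun hc => h.vv hc.symm, fun hc => c2 hc.symm⟩
    · simp only [Finset.mem_insert, Finset.mem_singleton, not_or]
      exact ⟨fun hc => h.v1 hc.symm, fun hc => hφ1 hc.symm, fun hc => hφφ1 hc.symm, fun hc => c1 hc.symm⟩
  rw [h2] at h1
  have h3 : Nat.card V = Nat.card { x // x ∈ V } := rfl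
  have h4 := h.le4
  rw [h3] at h4
  omega

theorem φφφ : φ (φ (φ v)) = v := by
  obtain ⟨hφ1, hφφ1, h23⟩ := h.dist
  rcases h.el _ (h.inv _ (h.inv _ (h.inv _ h.mem))) with h1 | h1 | h1 | h1
  · exact absurd (φ.injective (by rw [h1, map_one])) hφφ1
  · exact h1
  · exact absurd (φ.injective h1) h.vv
  · exact absurd (φ.injective h1) h23

theorem nofix (w : X) (hw : w ∈ V) (hf : φ w = w) : w = 1 := by
  obtain ⟨hφ1, hφφ1, h23⟩ := h.dist
  rcases h.el w hw with h1 | h1 | h1 | h1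
  · exact h1
  · rw [h1] at hf; exact absurd hf h.ne
  · rw [h1] at hf; exact absurd hf h23
  · rw [h1, h.φφφ] at hf; exact absurd hf.symm h.vv

/-- every nontrivial element may play the role of `v` -/
theorem of_ne (w : X) (hw : w ∈ V) (hw1 : w ≠ 1) : Tri V φ w :=
  ⟨h.odd, h.inv, h.le4, h.two, h.com, hw, fun hc => hw1 (h.nofix w hw hc)⟩

theorem cube (w : X) (hw : w ∈ V) : φ (φ (φ w)) = w := by
  by_cases hw1 : w = 1
  · rw [hw1, map_one, map_one, map_one]
  · exact (h.of_ne w hw hw1).φφφ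

theorem trace (w : X) (hw : w ∈ V) : w * φ w * φ (φ w) = 1 := by
  apply h.nofix
  · exact V.mul_mem (V.mul_mem hw (h.inv _ hw)) (h.inv _ (h.inv _ hw))
  · rw [map_mul, map_mul, h.cube w hw]
    have h1 := h.inv _ hw
    have h2 := h.inv _ h1
    rw [h.com _ (V.mul_mem h1 h2) _ hw, mul_assoc]

theorem card4 : Nat.card V = 4 := by
  classical
  haveI : Fintype X := Fintype.ofFinite _
  obtain ⟨hφ1, hφφ1, h23⟩ := h.dist
  have h4 := h.le4
  have hsub : ({1, v, φ v, φ (φ v)} : Finset X) ⊆ Finset.univ.filter (fun x => x ∈ V) := by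
    intro x hx
    simp only [Finset.mem_insert, Finset.mem_singleton] at hx
    simp only [Finset.mem_filter, Finset.mem_univ, true_and]
    rcases hx with rfl | rfl | rfl | rfl
    · exact Subgroup.one_mem _
    · exact h.mem
    · exact h.inv _ h.mem
    · exact h.inv _ (h.inv _ h.mem)
  have h1 := Finset.card_le_card hsub
  rw [← Fintype.card_subtype, ← Nat.card_eq_fintype_card] at h1
  have h2 : ({1, v, φ v, φ (φ v)} : Finset X).card = 4 := by
    rw [Finset.card_insert_of_notMem, Finset.card_insert_of_notMem, Finset.card_insert_of_notMem,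
      Finset.card_singleton]
    · simp only [Finset.mem_singleton]; exact fun hc => h23 hc.symm
    · simp only [Finset.mem_insert, Finset.mem_singleton, not_or]
      exact ⟨fun hc => h.ne hc.symm, fun hc => h.vv hc.symm⟩
    · simp only [Finset.mem_insert, Finset.mem_singleton, not_or]
      exact ⟨fun hc => h.v1 hc.symm, fun hc => hφ1 hc.symm, fun hc => hφφ1 hc.symm⟩
  rw [h2] at h1
  have h3 : Nat.card V = Nat.card { x // x ∈ V } := rfl
  omega

/-- irreducibility -/
theorem irr (U : Subgroup X) (hU : ∀ u ∈ U, φ u ∈ U) (w : X) (hwU : w ∈ U) (hw : w ∈ V) (hw1 : w ≠ 1) : V ≤ U := by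
  intro x hx
  rcases (h.of_ne w hw hw1).el x hx with h1 | h1 | h1 | h1
  · rw [h1]; exact U.one_mem
  · rw [h1]; exact hwU
  · rw [h1]; exact hU _ hwU
  · rw [h1]; exact hU _ (hU _ hwU)

/-- another automorphism of odd order preserving `V` acts as a power of `φ` -/
theorem power (A : Subgroup (MulAut X)) (hA : Odd (Nat.card A)) (hφA : φ ∈ A) (hinv : ∀ ψ ∈ A, ∀ x ∈ V, ψ x ∈ V) (ψ : MulAut X)
    (hψ : ψ ∈ A) : (∀ x ∈ V, ψ x = x) ∨ (∀ x ∈ V, ψ x = φ x) ∨ (∀ x ∈ V, ψ x = φ (φ x)) := by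
  -- an element of `A` fixing `v` fixes `V`
  have key : ∀ ρ ∈ A, ρ v = v → ∀ x ∈ V, ρ x = x := by
    intro ρ hρ hρv x hx
    by_contra hne
    have hT : Tri V ρ x := ⟨odd_of_mem hA hρ, hinv ρ hρ, h.le4, h.two, h.com, hx, hne⟩
    exact h.v1 (hT.nofix v h.mem hρv)
  rcases h.el _ (hinv ψ hψ v h.mem) with h1 | h1 | h1 | h1
  · exact absurd (ψ.injective (by rw [h1, map_one])) h.v1
  · exact Or.inl (key ψ hψ h1)
  · right; left
    intro x hx
    have h2 := key (φ⁻¹ * ψ) (A.mul_mem (A.inv_mem hφA) hψ) (by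
      rw [MulAut.mul_apply, h1, MulAut.inv_apply_self]) x hx
    rw [MulAut.mul_apply] at h2
    have h3 : φ (φ⁻¹ (ψ x)) = φ x := by rw [h2]
    rw [MulAut.apply_inv_self] at h3
    exact h3
  · right; right
    intro x hx
    have h2 := key (φ⁻¹ * (φ⁻¹ * ψ)) (A.mul_mem (A.inv_mem hφA) (A.mul_mem (A.inv_mem hφA) hψ)) (by
      rw [MulAut.mul_apply, MulAut.mul_apply, h1, MulAut.inv_apply_self, MulAut.inv_apply_self]) x hx
    rw [MulAut.mul_apply, MulAut.mul_apply] at h2
    have h3 : φ (φ (φ⁻¹ (φ⁻¹ (ψ x)))) = φ (φ x) := by rw [h2]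
    rw [MulAut.apply_inv_self, MulAut.apply_inv_self] at h3
    exact h3

end Tri

end Cfsg.Agent.H21.OddA
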