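import Cfsg.Agent.H21.OddH

set_option autoImplicit false
set_option linter.all false

namespace Cfsg.Agent.H21.OddA

open scoped commutatorElement
open Cfsg.Agent.Extra

universe u
variable {X : Type u} [Group X] [Finite X]

/-- the main situation -/
structure Dat (A : Subgroup (MulAut X)) (B V : Subgroup X) (φ : MulAut X) (v : X) : Prop where
  pg : IsPGroup 2 X
  odd : Odd (Nat.card A)
  gen : Gen A
  noE : NoE8 X
  nc : Subgroup.center X ≠ ⊤
  tri : Tri V φ v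
  φA : φ ∈ A
  VZ : V ≤ Subgroup.center X
  Vinv : ∀ ψ ∈ A, ∀ x ∈ V, ψ x ∈ V
  Bn : B.Normal
  Bc : ∀ x ∈ B, ∀ y ∈ B, x * y = y * x
  Binv : ∀ ψ ∈ A, ∀ b ∈ B, ψ b ∈ B
  Bmax : ∀ M : Subgroup X, M.Normal → (∀ x ∈ M, ∀ y ∈ M, x * y = y * x) → (∀ ψ ∈ A, ∀ b ∈ M, ψ b ∈ M) → B ≤ M → M ≤ B
  om : ∀ b ∈ B, b ^ 2 = 1 → b ∈ V
  VB : V ≤ B

/-- the elements of `C` of order two and central modulo `B` -/
def SG (B C : Subgroup X) (hB : B.Normal) : Subgroup X where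
  carrier := {x | x ∈ C ∧ x ^ 2 ∈ B ∧ ∀ y : X, ⁅y, x⁆ ∈ B}
  one_mem' := ⟨C.one_mem, by rw [one_pow]; exact B.one_mem, fun y => by rw [commutatorElement_one_right]; exact B.one_mem⟩
  mul_mem' := by
    rintro x y ⟨hx, hx2, hxc⟩ ⟨hy, hy2, hyc⟩
    refine ⟨C.mul_mem hx hy, ?_, ?_⟩
    · have e : (x * y) ^ 2 = (x * ⁅y, x⁆ * x⁻¹) * x ^ 2 * y ^ 2 := by
        rw [commutatorElement_def, pow_two, pow_two, pow_two]; group
      rw [e]
      exact B.mul_mem (B.mul_mem (hB.conj_mem _ (hxc y) x) hx2) hy2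
    · intro z
      have e : ⁅z, x * y⁆ = ⁅z, x⁆ * (x * ⁅z, y⁆ * x⁻¹) := by
        simp only [commutatorElement_def]; group
      rw [e]
      exact B.mul_mem (hxc z) (hB.conj_mem _ (hyc z) x)
  inv_mem' := by
    rintro x ⟨hx, hx2, hxc⟩
    refine ⟨C.inv_mem hx, ?_, ?_⟩
    · rw [inv_pow]; exact B.inv_mem hx2
    · intro z
      have e : ⁅z, x⁻¹⁆ = x⁻¹ * ⁅z, x⁆⁻¹ * x⁻¹⁻¹ := by
        simp only [commutatorElement_def]; group
      rw [e]
      exact hB.conj_mem _ (B.inv_mem (hxc z)) x⁻¹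

theorem mem_SG {B C : Subgroup X} {hB : B.Normal} {x : X} : x ∈ SG B C hB ↔ x ∈ C ∧ x ^ 2 ∈ B ∧ ∀ y : X, ⁅y, x⁆ ∈ B := Iff.rfl

theorem SG_normal {B C : Subgroup X} (hB : B.Normal) (hC : C.Normal) : (SG B C hB).Normal := by
  constructor
  rintro x ⟨hx, hx2, hxc⟩ g
  refine ⟨hC.conj_mem x hx g, ?_, ?_⟩
  · rw [conj_pow]; exact hB.conj_mem _ hx2 g
  · intro y
    have e : ⁅y, g * x * g⁻¹⁆ = g * ⁅g⁻¹ * y * g, x⁆ * g⁻¹ := by
      simp only [commutatorElement_def]; group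
    rw [e]
    exact hB.conj_mem _ (hxc _) g

theorem SG_inv {B C : Subgroup X} (hB : B.Normal) {ψ : MulAut X} (h1 : ∀ b ∈ B, ψ b ∈ B) (h2 : ∀ b ∈ C, ψ b ∈ C) :
    ∀ x ∈ SG B C hB, ψ x ∈ SG B C hB := by
  rintro x ⟨hx, hx2, hxc⟩
  refine ⟨h2 x hx, by rw [← map_pow]; exact h1 _ hx2, ?_⟩
  intro y
  have e : ⁅y, ψ x⁆ = ψ ⁅ψ.symm y, x⁆ := by
    rw [map_commutatorElement]
    congr 1
    exact (MulEquiv.apply_symm_apply ψ y).symm
  rw [e]
  exact h1 _ (hxc _)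

/-- the key elementary lemma: homomorphisms into `V` with vanishing trace are injective modulo the kernel of the power map -/
theorem trace_hom {V : Subgroup X} {φ : MulAut X} {v : X} (h : Tri V φ v) (B : Subgroup X)
    (hBc : ∀ x ∈ B, ∀ y ∈ B, x * y = y * x) (hinv : ∀ b ∈ B, φ b ∈ B) (hinv' : ∀ b ∈ B, φ⁻¹ b ∈ B) (m : ℕ)
    (hm : ∀ b ∈ B, b ^ m ∈ V) (g : X → X) (gmul : ∀ b ∈ B, ∀ c ∈ B, g (b * c) = g b * g c) (gV : ∀ b ∈ B, g b ∈ V)
    (gR : ∀ b ∈ B, b ^ m = 1 → g b = 1)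
    (gS : ∀ b ∈ B, g b * φ (g (φ⁻¹ b)) * φ (φ (g (φ⁻¹ (φ⁻¹ b)))) = 1)
    (b₀ : X) (hb₀ : b₀ ∈ B) (hb1 : b₀ ^ m ≠ 1) (hg : g b₀ = 1) : ∀ b ∈ B, g b = 1 := by
  have hpow : ∀ b ∈ B, ∀ c ∈ B, (b * c) ^ m = b ^ m * c ^ m := fun b hb c hc =>
    (show Commute b c from hBc b hb c hc).mul_pow m
  have geq : ∀ c ∈ B, ∀ d ∈ B, c ^ m = d ^ m → g c = g d := by
    intro c hc d hd hcd
    have h1 : (c * d⁻¹) ^ m = 1 := by
      rw [hpow c hc _ (B.inv_mem hd), inv_pow, hcd, mul_inv_cancel]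
    have h2 := gmul (c * d⁻¹) (B.mul_mem hc (B.inv_mem hd)) d hd
    rw [inv_mul_cancel_right, gR _ (B.mul_mem hc (B.inv_mem hd)) h1, one_mul] at h2
    exact h2
  set v₀ := b₀ ^ m with hv₀
  have hv₀V : v₀ ∈ V := hm b₀ hb₀
  have h0 : Tri V φ v₀ := h.of_ne v₀ hv₀V hb1
  have hb1' := hinv _ hb₀
  have hb2' := hinv _ hb1'
  have e1 : (φ b₀) ^ m = φ v₀ := by rw [hv₀, map_pow]
  have e2 : (φ (φ b₀)) ^ m = φ (φ v₀) := by rw [hv₀, map_pow, map_pow]
  -- p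
  have hp : g (φ b₀) = g (φ (φ b₀)) := by
    have h1 : (b₀ * φ b₀ * φ (φ b₀)) ^ m = 1 := by
      rw [hpow _ (B.mul_mem hb₀ hb1') _ hb2', hpow _ hb₀ _ hb1', e1, e2]
      exact h0.trace v₀ hv₀V
    have h2 := gR _ (B.mul_mem (B.mul_mem hb₀ hb1') hb2') h1
    rw [gmul _ (B.mul_mem hb₀ hb1') _ hb2', gmul _ hb₀ _ hb1', hg, one_mul] at h2
    have h3 := h.two _ (gV _ hb2')
    rw [pow_two] at h3
    exact mul_right_cancel (h2.trans h3.symm)
  have hs1 : g (φ⁻¹ b₀) = g (φ (φ b₀)) := by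
    apply geq _ (hinv' _ hb₀) _ hb2'
    rw [e2, ← map_pow]
    apply φ.injective
    rw [MulAut.apply_inv_self, h0.cube v₀ hv₀V]
  have hs2 : g (φ⁻¹ (φ⁻¹ b₀)) = g (φ b₀) := by
    apply geq _ (hinv' _ (hinv' _ hb₀)) _ hb1'
    rw [e1, ← map_pow, ← map_pow]
    apply φ.injective
    apply φ.injective
    rw [MulAut.apply_inv_self, MulAut.apply_inv_self, h0.cube v₀ hv₀V]
  have hS := gS b₀ hb₀
  rw [hg, one_mul, hs1, hs2, hp] at hS
  -- φ p * φ φ p = 1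
  have hpV := gV _ hb2'
  have hp1 : g (φ (φ b₀)) = 1 := by
    apply h.nofix _ hpV
    have h3 := h.two _ (h.inv _ (h.inv _ hpV))
    rw [pow_two] at h3
    have h4 : φ (g (φ (φ b₀))) = φ (φ (g (φ (φ b₀)))) := mul_right_cancel (hS.trans h3.symm)
    exact (φ.injective h4).symm
  intro b hb
  rcases h0.el _ (hm b hb) with h1 | h1 | h1 | h1
  · exact gR b hb h1
  · rw [geq b hb b₀ hb₀ h1, hg]
  · rw [geq b hb _ hb1' (h1.trans e1.symm), hp, hp1]
  · rw [geq b hb _ hb2' (h1.trans e2.symm), hp1]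

namespace Dat

variable {A : Subgroup (MulAut X)} {B V : Subgroup X} {φ : MulAut X} {v : X} (h : Dat A B V φ v)
include h

theorem φB (b : X) (hb : b ∈ B) : φ b ∈ B := h.Binv φ h.φA b hb
theorem φB' (b : X) (hb : b ∈ B) : φ⁻¹ b ∈ B := h.Binv _ (A.inv_mem h.φA) b hb

theorem Vc {w : X} (hw : w ∈ V) (x : X) : x * w = w * x := (Subgroup.mem_center_iff.1 (h.VZ hw)) x

theorem V4 : Nat.card V = 4 := h.tri.card4

theorem Vn : V.Normal := ⟨fun n hn g => by rw [h.Vc hn g, mul_inv_cancel_right]; exact hn⟩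

theorem Vcom (x : X) (hx : x ∈ V) (y : X) (hy : y ∈ V) : x * y = y * x := h.tri.com x hx y hy

/-- the basic way to find elements of `V` -/
theorem step {t : X} (ht : t ^ 2 = 1) (htx : ∀ x : X, t * (x * t * x⁻¹) ∈ V) : t ∈ V :=
  h.noE.step V h.Vn h.Vcom h.tri.two h.V4 t ht (fun s hs => h.Vc hs t) htx

/-- surjectivity of power maps -/
theorem H1 (i : ℕ) (hi : ∃ b ∈ B, b ^ 2 ^ i ≠ 1) (w : X) (hw : w ∈ V) : ∃ c ∈ B, c ^ 2 ^ i = w := by
  classical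
  let U : Subgroup X := {
    carrier := {w | w ∈ V ∧ ∃ c ∈ B, c ^ 2 ^ i = w}
    one_mem' := ⟨V.one_mem, 1, B.one_mem, one_pow _⟩
    mul_mem' := by
      rintro a b ⟨ha, c, hc, rfl⟩ ⟨hb, d, hd, rfl⟩
      exact ⟨V.mul_mem ha hb, c * d, B.mul_mem hc hd, (show Commute c d from h.Bc c hc d hd).mul_pow _⟩
    inv_mem' := by
      rintro a ⟨ha, c, hc, rfl⟩
      exact ⟨V.inv_mem ha, c⁻¹, B.inv_mem hc, inv_pow _ _⟩ }
  have hU : ∀ u ∈ U, φ u ∈ U := by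
    rintro u ⟨hu, c, hc, rfl⟩
    exact ⟨h.tri.inv _ hu, φ c, h.φB c hc, by rw [map_pow]⟩
  obtain ⟨b, hb, hbi⟩ := hi
  obtain ⟨k, hk⟩ := h.pg b
  have hex : ∃ k, b ^ 2 ^ k = 1 := ⟨k, hk⟩
  have hm := Nat.find_spec hex
  have hgt : i < Nat.find hex := by
    by_contra hcon
    push Not at hcon
    apply hbi
    obtain ⟨d, hd⟩ := Nat.exists_eq_add_of_le hcon
    rw [hd, pow_add, pow_mul, hm, one_pow]
  obtain ⟨j, hj⟩ := Nat.exists_eq_add_of_lt hgt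
  -- find = i + j + 1
  have hlt : b ^ 2 ^ (i + j) ≠ 1 := Nat.find_min hex (by omega)
  have hV : b ^ 2 ^ (i + j) ∈ V := by
    apply h.om _ (B.pow_mem hb _)
    rw [← pow_mul, ← pow_succ]
    rw [hj] at hm
    exact hm
  have hwU : b ^ 2 ^ (i + j) ∈ U := by
    refine ⟨hV, b ^ 2 ^ j, B.pow_mem hb _, ?_⟩
    rw [← pow_mul, ← pow_add, add_comm j i]
  exact (h.tri.irr U hU _ hwU hV hlt hw).2

theorem H2 (i : ℕ) (hi : ∃ b ∈ B, b ^ 2 ^ i ≠ 1) : ∀ b ∈ B, b ^ 2 ^ i = 1 → ∃ c ∈ B, c ^ 2 = b := by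
  have key : ∀ j : ℕ, j ≤ i → ∀ b ∈ B, b ^ 2 ^ j = 1 → ∃ c ∈ B, c ^ 2 = b := by
    intro j
    induction j with
    | zero =>
      intro _ b hb hb1
      exact ⟨1, B.one_mem, by rw [one_pow]; simpa using hb1.symm⟩
    | succ j ih =>
      intro hj b hb hb1
      -- b^(2^j) ∈ V
      have hbV : b ^ 2 ^ j ∈ V := by
        apply h.om _ (B.pow_mem hb _)
        rw [← pow_mul, ← pow_succ]
        exact hb1
      have hex : ∃ b ∈ B, b ^ 2 ^ (j + 1) ≠ 1 := by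
        obtain ⟨b', hb', hb'i⟩ := hi
        refine ⟨b', hb', fun hc => hb'i ?_⟩
        obtain ⟨d, hd⟩ := Nat.exists_eq_add_of_le hj
        rw [hd, pow_add, pow_mul, hc, one_pow]
      obtain ⟨c, hc, hcv⟩ := h.H1 (j + 1) hex _ hbV
      have h1 : (b * (c ^ 2)⁻¹) ^ 2 ^ j = 1 := by
        rw [(show Commute b (c ^ 2)⁻¹ from h.Bc b hb _ (B.inv_mem (B.pow_mem hc 2))).mul_pow, inv_pow, ← pow_mul, ← pow_succ', hcv,
          mul_inv_cancel]
      obtain ⟨d, hd, hde⟩ := ih (by omega) _ (B.mul_mem hb (B.inv_mem (B.pow_mem hc 2))) h1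
      refine ⟨d * c, B.mul_mem hd hc, ?_⟩
      rw [(show Commute d c from h.Bc d hd c hc).mul_pow, hde, inv_mul_cancel_right]
  exact key i le_rfl

/-! commutators with `B` -/

theorem cB (x b : X) (hb : b ∈ B) : ⁅x, b⁆ ∈ B := by
  rw [commutatorElement_def]
  exact B.mul_mem (h.Bn.conj_mem b hb x) (B.inv_mem hb)

theorem cmul (x : X) (b : X) (hb : b ∈ B) (c : X) (hc : c ∈ B) : ⁅x, b * c⁆ = ⁅x, b⁆ * ⁅x, c⁆ := by
  have e : ⁅x, b * c⁆ = ⁅x, b⁆ * (b * ⁅x, c⁆ * b⁻¹) := by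
    simp only [commutatorElement_def]; group
  rw [e, h.Bc b hb _ (h.cB x c hc), mul_inv_cancel_right]

theorem cpow (x : X) (b : X) (hb : b ∈ B) (n : ℕ) : ⁅x, b ^ n⁆ = ⁅x, b⁆ ^ n := by
  induction n with
  | zero => simp
  | succ n ih => rw [pow_succ, h.cmul x _ (B.pow_mem hb n) b hb, ih, pow_succ]

/-- multiplicativity on the left when the value is central -/
theorem cmulL (x y b : X) (hV : ⁅y, b⁆ ∈ V) : ⁅x * y, b⁆ = ⁅x, b⁆ * ⁅y, b⁆ := by
  have e : ⁅x * y, b⁆ = (x * ⁅y, b⁆ * x⁻¹) * ⁅x, b⁆ := by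
    simp only [commutatorElement_def]; group
  rw [e, h.Vc hV x, mul_inv_cancel_right, h.Vc hV]

theorem cφ (ψ : MulAut X) (x b : X) : ⁅ψ x, b⁆ = ψ ⁅x, ψ⁻¹ b⁆ := by
  rw [map_commutatorElement, MulAut.apply_inv_self]

/-- the centralizer of `B` -/
theorem claim1 (hB2 : ∃ b ∈ B, b ^ 2 ≠ 1) : Subgroup.centralizer (B : Set X) ≤ B := by
  classical
  by_contra hcon
  set C := Subgroup.centralizer (B : Set X) with hC
  haveI := h.Bn
  have hCn : C.Normal := inferInstance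
  have hCinv : ∀ ψ ∈ A, ∀ x ∈ C, ψ x ∈ C := by
    intro ψ hψ x hx
    rw [hC, Subgroup.mem_centralizer_iff] at hx ⊢
    intro b hb
    have h1 := hx (ψ⁻¹ b) (h.Binv _ (A.inv_mem hψ) b hb)
    have h2 := congrArg ψ h1
    rw [map_mul, map_mul, MulAut.apply_inv_self] at h2
    exact h2
  have hCc : ∀ x ∈ C, ∀ b ∈ B, x * b = b * x := by
    intro x hx b hb
    exact ((Subgroup.mem_centralizer_iff.1 hx) b hb).symm
  let K := SG B C h.Bn
  have hKn : K.Normal := SG_normal h.Bn hCn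
  have hKinv : ∀ ψ ∈ A, ∀ x ∈ K, ψ x ∈ K := fun ψ hψ => SG_inv h.Bn (h.Binv ψ hψ) (hCinv ψ hψ)
  have hBC : B ≤ C := by
    intro b hb
    rw [hC, Subgroup.mem_centralizer_iff]
    intro c hc
    exact h.Bc c hc b hb
  have hBK : B ≤ K := fun b hb => ⟨hBC hb, B.pow_mem hb 2, fun y => h.cB y b hb⟩
  obtain ⟨x₀, hx₀C, hx₀B, hx₀2, hx₀c⟩ := exists_step h.pg B C h.Bn hCn hcon
  have hx₀K : x₀ ∈ K := ⟨hx₀C, hx₀2, hx₀c⟩
  -- commutators of K
  have hKV : ∀ x ∈ K, ∀ y ∈ K, ⁅x, y⁆ ∈ V := by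
    intro x hx y hy
    have hxy : ⁅x, y⁆ ∈ B := hy.2.2 x
    apply h.om _ hxy
    have e : ⁅x ^ 2, y⁆ = (x * ⁅x, y⁆ * x⁻¹) * ⁅x, y⁆ := by
      rw [pow_two]; simp only [commutatorElement_def]; group
    have e1 : ⁅x ^ 2, y⁆ = 1 := commutatorElement_eq_one_iff_mul_comm.2 (hCc y hy.1 _ hx.2.1).symm
    rw [e1, hCc x hx.1 _ hxy, mul_inv_cancel_right] at e
    rw [pow_two]
    exact e.symm
  -- squares in B²
  have hKsq : ∀ x ∈ K, (∃ b ∈ B, b ^ 2 = x ^ 2) → x ∈ B := by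
    rintro x hx ⟨b, hb, hbx⟩
    have hxb : Commute x b⁻¹ := hCc x hx.1 _ (B.inv_mem hb)
    have ht2 : (x * b⁻¹) ^ 2 = 1 := by rw [hxb.mul_pow, inv_pow, hbx, mul_inv_cancel]
    have htK : x * b⁻¹ ∈ K := K.mul_mem hx (K.inv_mem (hBK hb))
    have htV : x * b⁻¹ ∈ V := by
      apply h.step ht2
      intro y
      set t := x * b⁻¹ with ht
      have hd : ⁅y, t⁆ ∈ B := htK.2.2 y
      have hyt : y * t * y⁻¹ = ⁅y, t⁆ * t := by rw [commutatorElement_def]; group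
      have hc : Commute t ⁅y, t⁆ := hCc t htK.1 _ hd
      have e : t * (y * t * y⁻¹) = ⁅y, t⁆ := by
        rw [hyt, ← mul_assoc, hc.eq, mul_assoc, ← pow_two, ht2, mul_one]
      rw [e]
      apply h.om _ hd
      have e3 : (y * t * y⁻¹) ^ 2 = 1 := by rw [conj_pow, ht2]; group
      rw [hyt, hc.symm.mul_pow, ht2, mul_one] at e3
      exact e3
    have : x = (x * b⁻¹) * b := by group
    rw [this]
    exact B.mul_mem (h.VB htV) hb
  -- the subgroup of squares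
  let R : Subgroup X := {
    carrier := {c | ∃ b ∈ B, b ^ 2 = c}
    one_mem' := ⟨1, B.one_mem, one_pow _⟩
    mul_mem' := by
      rintro a b ⟨c, hc, rfl⟩ ⟨d, hd, rfl⟩
      exact ⟨c * d, B.mul_mem hc hd, (show Commute c d from h.Bc c hc d hd).mul_pow _⟩
    inv_mem' := by
      rintro a ⟨c, hc, rfl⟩
      exact ⟨c⁻¹, B.inv_mem hc, inv_pow _ _⟩ }
  have hRn : R.Normal := ⟨by
    rintro n ⟨b, hb, rfl⟩ g
    exact ⟨g * b * g⁻¹, h.Bn.conj_mem b hb g, by rw [conj_pow]⟩⟩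
  have hVR : V ≤ R := by
    intro w hw
    obtain ⟨c, hc, hcw⟩ := h.H1 1 (by simpa using hB2) w hw
    exact ⟨c, hc, by simpa using hcw⟩
  have hRB : R ≤ B := by
    rintro c ⟨b, hb, rfl⟩
    exact B.pow_mem hb 2
  let f : K →* X ⧸ R := {
    toFun := fun x => QuotientGroup.mk ((x : X) ^ 2)
    map_one' := by
      change QuotientGroup.mk ((1 : X) ^ 2) = _
      rw [one_pow]; rfl
    map_mul' := by
      rintro ⟨x, hx⟩ ⟨y, hy⟩
      change (QuotientGroup.mk ((x * y) ^ 2) : X ⧸ R) = QuotientGroup.mk (x ^ 2) * QuotientGroup.mk (y ^ 2)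
      have e : (x * y) ^ 2 = (x * ⁅y, x⁆ * x⁻¹) * (x ^ 2 * y ^ 2) := by
        rw [commutatorElement_def, pow_two, pow_two, pow_two]; group
      have hV1 : ⁅y, x⁆ ∈ V := hKV y hy x hx
      rw [e, h.Vc hV1 x, mul_inv_cancel_right, QuotientGroup.mk_mul, (QuotientGroup.eq_one_iff _).2 (hVR hV1), one_mul,
        QuotientGroup.mk_mul] }
  have hcardBR : Nat.card (B.map (QuotientGroup.mk' R)) = 4 := by
    -- |B| = |V| |R|
    let sq : B →* B := {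
      toFun := fun b => b ^ 2
      map_one' := one_pow _
      map_mul' := by
        intro a b
        have : Commute a b := Subtype.ext (h.Bc a a.2 b b.2)
        exact this.mul_pow 2 }
    have hk : Nat.card sq.ker = 4 := by
      rw [← h.V4]
      apply Nat.card_congr
      refine ⟨fun b => ⟨((b : B) : X), h.om _ (b : B).2 (congrArg Subtype.val b.2)⟩, fun w => ⟨⟨w, h.VB w.2⟩, ?_⟩, ?_, ?_⟩
      · rw [MonoidHom.mem_ker]
        exact Subtype.ext (h.tri.two w w.2)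
      · intro b; rfl
      · intro w; rfl
    have hr : Nat.card sq.range = Nat.card R := by
      apply Nat.card_congr
      refine ⟨fun c => ⟨((c : B) : X), ?_⟩, fun c => ⟨⟨c, hRB c.2⟩, ?_⟩, ?_, ?_⟩
      · obtain ⟨b, hb⟩ := c.2
        exact ⟨b, b.2, congrArg Subtype.val hb⟩
      · obtain ⟨b, hb, hbc⟩ := c.2
        exact ⟨⟨b, hb⟩, Subtype.ext hbc⟩
      · intro c; rfl
      · intro c; rfl
    have h1 : Nat.card sq.ker * sq.ker.index = Nat.card B := Subgroup.card_mul_index _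
    rw [Subgroup.index_ker, hk, hr] at h1
    have h2 := Subgroup.relIndex_ker B (QuotientGroup.mk' R)
    rw [QuotientGroup.ker_mk'] at h2
    have h3 : Nat.card R * R.relIndex B = Nat.card B := by
      rw [← Subgroup.relIndex_bot_left, ← Subgroup.relIndex_bot_left]
      exact Subgroup.relIndex_mul_relIndex ⊥ R B bot_le hRB
    rw [h2] at h3
    have h4 : 0 < Nat.card R := Nat.card_pos
    rw [← h3, mul_comm 4] at h1
    exact (Nat.eq_of_mul_eq_mul_left h4 h1).symm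
  have hcardK : Nat.card K ≤ 4 * Nat.card B := by
    have h1 : Nat.card f.ker * f.ker.index = Nat.card K := Subgroup.card_mul_index _
    rw [Subgroup.index_ker] at h1
    have h2 : Nat.card f.range ≤ 4 := by
      rw [← hcardBR]
      apply Subgroup.card_le_of_le
      rintro _ ⟨x, rfl⟩
      exact ⟨(x : X) ^ 2, x.2.2.1, rfl⟩
    have h3 : Nat.card f.ker ≤ Nat.card B := by
      apply Nat.card_le_card_of_injective (fun k : f.ker => (⟨((k : K) : X), hKsq _ (k : K).2 (by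
        have := k.2
        rw [MonoidHom.mem_ker] at this
        exact (QuotientGroup.eq_one_iff _).1 this)⟩ : B))
      intro a b hab
      simp only [Subtype.mk.injEq] at hab
      exact Subtype.ext (Subtype.ext hab)
    calc Nat.card K = Nat.card f.ker * Nat.card f.range := h1.symm
      _ ≤ Nat.card B * 4 := Nat.mul_le_mul h3 h2
      _ = 4 * Nat.card B := mul_comm _ _
  -- K is not abelian
  have hne : ∃ x ∈ K, ∃ y ∈ K, ⁅x, y⁆ ≠ 1 := by
    by_contra hcon2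
    push Not at hcon2
    exact hx₀B (h.Bmax K hKn (fun x hx y hy => commutatorElement_eq_one_iff_mul_comm.1 (hcon2 x hx y hy)) hKinv hBK hx₀K)
  obtain ⟨x, hx, y, hy, hxy⟩ := hne
  have hc2 : ClassTwo K := by
    rw [classTwo_iff]
    intro a b
    rw [Subgroup.mem_center_iff]
    intro g
    exact Subtype.ext (h.Vc (hKV a a.2 b b.2) g)
  have hBcen : B.subgroupOf K ≤ Subgroup.center K := by
    intro b hb
    rw [Subgroup.mem_subgroupOf] at hb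
    rw [Subgroup.mem_center_iff]
    intro g
    exact Subtype.ext (hCc g g.2.1 _ hb)
  have hcB : Nat.card (B.subgroupOf K) = Nat.card B := Nat.card_congr (Subgroup.subgroupOfEquivOfLe hBK).toEquiv
  have hle : Nat.card K ≤ 4 * Nat.card (Subgroup.center K) := by
    have := Subgroup.card_le_of_le hBcen
    rw [hcB] at this
    omega
  have hall := comm_two hc2 (fun a b => Subtype.ext (h.tri.two _ (hKV a a.2 b b.2))) ⟨x, hx⟩ ⟨y, hy⟩ hle
    (fun hc => hxy (congrArg Subtype.val hc)) ⟨φ x, hKinv φ h.φA x hx⟩ ⟨φ y, hKinv φ h.φA y hy⟩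
  have hφc : φ ⁅x, y⁆ = ⁅φ x, φ y⁆ := map_commutatorElement φ x y
  rcases hall with h1 | h1
  · have h2 : ⁅φ x, φ y⁆ = 1 := congrArg Subtype.val h1
    rw [← hφc] at h2
    exact hxy (φ.injective (by rw [h2, map_one]))
  · have h2 : ⁅φ x, φ y⁆ = ⁅x, y⁆ := congrArg Subtype.val h1
    rw [← hφc] at h2
    exact hxy (h.tri.nofix _ (hKV x hx y hy) h2)

end Dat

end Cfsg.Agent.H21.OddA
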