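import Cfsg.Agent.H21.OddI

set_option autoImplicit false
set_option linter.all false

namespace Cfsg.Agent.H21.OddA

open scoped commutatorElement
open Cfsg.Agent.Extra

universe u
variable {X : Type u} [Group X] [Finite X]

namespace Dat

variable {A : Subgroup (MulAut X)} {B V : Subgroup X} {φ : MulAut X} {v : X} (h : Dat A B V φ v)
include h

/-- elements centralizing `Ω₂(B)` -/
def X2 (_h : Dat A B V φ v) : Subgroup X where
  carrier := {x | ∀ b ∈ B, b ^ 4 = 1 → x * b = b * x}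
  one_mem' := by
    intro b _ _
    rw [one_mul, mul_one]
  mul_mem' := by
    intro x y hx hy b hb hb4
    rw [mul_assoc, hy b hb hb4, ← mul_assoc, hx b hb hb4, mul_assoc]
  inv_mem' := by
    intro x hx b hb hb4
    have h1 : Commute x b := hx b hb hb4
    exact h1.inv_left

theorem X2n : h.X2.Normal := by
  constructor
  intro x hx g b hb hb4
  have h1 := hx (g⁻¹ * b * g) (by
    have := h.Bn.conj_mem b hb g⁻¹
    rwa [inv_inv] at this) (by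
    have : (g⁻¹ * b * g⁻¹⁻¹) ^ 4 = 1 := by rw [conj_pow, hb4]; group
    rwa [inv_inv] at this)
  calc g * x * g⁻¹ * b = g * (x * (g⁻¹ * b * g)) * g⁻¹ := by group
    _ = g * ((g⁻¹ * b * g) * x) * g⁻¹ := by rw [h1]
    _ = b * (g * x * g⁻¹) := by group

theorem X2inv (ψ : MulAut X) (hψ : ψ ∈ A) (x : X) (hx : x ∈ h.X2) : ψ x ∈ h.X2 := by
  intro b hb hb4
  have h1 := hx (ψ⁻¹ b) (h.Binv _ (A.inv_mem hψ) b hb) (by rw [← map_pow, hb4, map_one])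
  have h2 := congrArg ψ h1
  rw [map_mul, map_mul, MulAut.apply_inv_self] at h2
  exact h2

theorem BX2 : B ≤ h.X2 := fun c hc b hb _ => h.Bc c hc b hb

/-- an element of `X₂` inverting `c ∈ B` forces `c² = 1` -/
theorem inv_lemma {x c : X} (hx : x ∈ h.X2) (hc : c ∈ B) (hinv : x * c * x⁻¹ = c⁻¹) : c ^ 2 = 1 := by
  classical
  obtain ⟨k, hk⟩ := h.pg c
  have hex : ∃ k, c ^ 2 ^ k = 1 := ⟨k, hk⟩
  have hm := Nat.find_spec hex
  by_contra hne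
  have hgt : 1 < Nat.find hex := by
    by_contra hcon
    push Not at hcon
    interval_cases h0 : Nat.find hex
    · apply hne
      have : c = 1 := by simpa using hm
      rw [this, one_pow]
    · apply hne
      simpa using hm
  obtain ⟨j, hj⟩ := Nat.exists_eq_add_of_lt hgt
  have hlt : c ^ 2 ^ (1 + j) ≠ 1 := Nat.find_min hex (by omega)
  set c' := c ^ 2 ^ j with hc'
  have hc'4 : c' ^ 4 = 1 := by
    rw [hc', ← pow_mul, show 2 ^ j * 4 = 2 ^ (1 + j + 1) by ring, ← hj]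
    exact hm
  have h1 := hx c' (B.pow_mem hc _) hc'4
  have h2 : x * c' * x⁻¹ = c'⁻¹ := by
    rw [hc', ← conj_pow, hinv, inv_pow]
  rw [h1, mul_inv_cancel_right] at h2
  apply hlt
  have h3 : c' * c' = 1 := by nth_rewrite 2 [h2]; exact mul_inv_cancel c'
  rw [pow_add, pow_one, mul_comm 2, pow_mul, ← hc', pow_two]
  exact h3

/-- squares of elements mapping into `B` invert commutators -/
theorem inv_comm {x b : X} (hb : b ∈ B) (hx2 : x ^ 2 ∈ B) : x * ⁅x, b⁆ * x⁻¹ = ⁅x, b⁆⁻¹ := by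
  have h1 : x ^ 2 * b = b * x ^ 2 := h.Bc _ hx2 b hb
  have e : ⁅x ^ 2, b⁆ = (x * ⁅x, b⁆ * x⁻¹) * ⁅x, b⁆ := by
    rw [pow_two]; simp only [commutatorElement_def]; group
  rw [commutatorElement_eq_one_iff_mul_comm.2 h1] at e
  exact (inv_eq_of_mul_eq_one_left e.symm).symm

/-- the trace relation on `Ω₂(B)` -/
theorem beta_mem (x b : X) (hb : b ∈ B) (hb4 : b ^ 4 = 1) : ⁅x, b⁆ ∈ V := by
  apply h.om _ (h.cB x b hb)
  rw [← h.cpow x b hb]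
  have hbV : b ^ 2 ∈ V := h.om _ (B.pow_mem hb 2) (by rw [← pow_mul]; exact hb4)
  exact commutatorElement_eq_one_iff_mul_comm.2 (h.Vc hbV x)

theorem beta_eq (x b c : X) (hb : b ∈ B) (hb4 : b ^ 4 = 1) (hc : c ∈ B) (hc4 : c ^ 4 = 1) (hbc : b ^ 2 = c ^ 2) :
    ⁅x, b⁆ = ⁅x, c⁆ := by
  have h1 : b * c⁻¹ ∈ V := by
    apply h.om _ (B.mul_mem hb (B.inv_mem hc))
    rw [(show Commute b c⁻¹ from h.Bc b hb _ (B.inv_mem hc)).mul_pow, hbc, inv_pow, mul_inv_cancel]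
  have h2 := h.cmul x (b * c⁻¹) (B.mul_mem hb (B.inv_mem hc)) c hc
  rw [inv_mul_cancel_right, commutatorElement_eq_one_iff_mul_comm.2 (h.Vc h1 x), one_mul] at h2
  exact h2

/-- the trace of `β_x` at `b` -/
def tr (_h : Dat A B V φ v) (x b : X) : X := ⁅x, b⁆ * φ ⁅x, φ⁻¹ b⁆ * φ (φ ⁅x, φ⁻¹ (φ⁻¹ b)⁆)

theorem inv4 (ψ : MulAut X) (hψ : ψ ∈ A) (b : X) (hb : b ∈ B) (hb4 : b ^ 4 = 1) : ψ b ∈ B ∧ (ψ b) ^ 4 = 1 :=
  ⟨h.Binv ψ hψ b hb, by rw [← map_pow, hb4, map_one]⟩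

theorem tr_mul (x y b : X) (hb : b ∈ B) (hb4 : b ^ 4 = 1) : h.tr (x * y) b = h.tr x b * h.tr y b := by
  have hi := A.inv_mem h.φA
  obtain ⟨hb1, hb14⟩ := h.inv4 _ hi b hb hb4
  obtain ⟨hb2, hb24⟩ := h.inv4 _ hi _ hb1 hb14
  unfold tr
  have a0 := h.beta_mem x b hb hb4
  have a1 := h.beta_mem y b hb hb4
  have a2 := h.tri.inv _ (h.beta_mem x _ hb1 hb14)
  have a3 := h.tri.inv _ (h.beta_mem y _ hb1 hb14)
  have a4 := h.tri.inv _ (h.tri.inv _ (h.beta_mem x _ hb2 hb24))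
  have a5 := h.tri.inv _ (h.tri.inv _ (h.beta_mem y _ hb2 hb24))
  rw [h.cmulL x y b a1, h.cmulL x y _ (h.beta_mem y _ hb1 hb14), h.cmulL x y _ (h.beta_mem y _ hb2 hb24),
    map_mul, map_mul, map_mul]
  set p0 := ⁅x, b⁆
  set p1 := ⁅y, b⁆
  set p2 := φ ⁅x, φ⁻¹ b⁆
  set p3 := φ ⁅y, φ⁻¹ b⁆
  set p4 := φ (φ ⁅x, φ⁻¹ (φ⁻¹ b)⁆)
  set p5 := φ (φ ⁅y, φ⁻¹ (φ⁻¹ b)⁆)
  have c1 : p1 * p2 = p2 * p1 := h.Vcom _ a1 _ a2
  have c2 : (p1 * p3) * p4 = p4 * (p1 * p3) := h.Vcom _ (V.mul_mem a1 a3) _ a4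
  calc p0 * p1 * (p2 * p3) * (p4 * p5) = p0 * (p1 * p2) * (p3 * (p4 * p5)) := by simp only [mul_assoc]
    _ = p0 * p2 * ((p1 * p3) * p4) * p5 := by rw [c1]; simp only [mul_assoc]
    _ = p0 * p2 * p4 * (p1 * p3 * p5) := by rw [c2]; simp only [mul_assoc]

theorem tr_inv (x b : X) (ψ : MulAut X) (hψ : ψ ∈ A) (hb : b ∈ B) (hb4 : b ^ 4 = 1) : h.tr (ψ x) b = h.tr x b := by
  have hi := A.inv_mem h.φA
  have hψi := A.inv_mem hψ
  obtain ⟨hb1, hb14⟩ := h.inv4 _ hi b hb hb4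
  obtain ⟨hb2, hb24⟩ := h.inv4 _ hi _ hb1 hb14
  obtain ⟨hb3, hb34⟩ := h.inv4 _ hi _ hb2 hb24
  obtain ⟨hc0, hc04⟩ := h.inv4 _ hψi b hb hb4
  obtain ⟨hc1, hc14⟩ := h.inv4 _ hψi _ hb1 hb14
  obtain ⟨hc2, hc24⟩ := h.inv4 _ hψi _ hb2 hb24
  have hbV : ∀ c ∈ B, c ^ 4 = 1 → c ^ 2 ∈ V := fun c hc hc4 => h.om _ (B.pow_mem hc 2) (by rw [← pow_mul]; exact hc4)
  unfold tr
  rw [h.cφ ψ x b, h.cφ ψ x, h.cφ ψ x]
  have m0 := h.beta_mem x _ hb hb4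
  have m1 := h.beta_mem x _ hb1 hb14
  have m2 := h.beta_mem x _ hb2 hb24
  -- action of ψ on V
  have hpow := h.tri.power A h.odd h.φA h.Vinv ψ hψ
  -- ψ⁻¹ on V
  have sq3 : (φ⁻¹ (φ⁻¹ (φ⁻¹ b))) ^ 2 = b ^ 2 := by
    rw [← map_pow, ← map_pow, ← map_pow]
    apply φ.injective; apply φ.injective; apply φ.injective
    rw [MulAut.apply_inv_self, MulAut.apply_inv_self, MulAut.apply_inv_self, h.tri.cube _ (hbV b hb hb4)]
  rcases hpow with hp | hp | hp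
  · have e : ∀ c ∈ B, c ^ 4 = 1 → ψ ⁅x, ψ⁻¹ c⁆ = ⁅x, c⁆ := by
      intro c hc hc4
      obtain ⟨hd, hd4⟩ := h.inv4 _ hψi c hc hc4
      rw [hp _ (h.beta_mem x _ hd hd4)]
      apply h.beta_eq x _ _ hd hd4 hc hc4
      rw [← map_pow]
      apply ψ.injective
      rw [MulAut.apply_inv_self, hp _ (hbV c hc hc4)]
    rw [e b hb hb4, e _ hb1 hb14, e _ hb2 hb24]
  · have e : ∀ c ∈ B, c ^ 4 = 1 → ψ ⁅x, ψ⁻¹ c⁆ = φ ⁅x, φ⁻¹ c⁆ := by
      intro c hc hc4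
      obtain ⟨hd, hd4⟩ := h.inv4 _ hψi c hc hc4
      obtain ⟨hd', hd4'⟩ := h.inv4 _ hi c hc hc4
      rw [hp _ (h.beta_mem x _ hd hd4)]
      congr 1
      apply h.beta_eq x _ _ hd hd4 hd' hd4'
      rw [← map_pow, ← map_pow]
      apply ψ.injective
      rw [MulAut.apply_inv_self, hp _ (by
        have := hbV _ hd' hd4'
        rwa [← map_pow] at this), MulAut.apply_inv_self]
    rw [e b hb hb4, e _ hb1 hb14, e _ hb2 hb24]
    -- cyclic rotation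
    have hlast : φ (φ (φ ⁅x, φ⁻¹ (φ⁻¹ (φ⁻¹ b))⁆)) = ⁅x, b⁆ := by
      rw [h.beta_eq x _ _ hb3 hb34 hb hb4 sq3, h.tri.cube _ m0]
    rw [hlast]
    have a1 := h.tri.inv _ m1
    have a2 := h.tri.inv _ (h.tri.inv _ m2)
    rw [h.Vcom _ (V.mul_mem a1 a2) _ m0, ← mul_assoc]
  · have e : ∀ c ∈ B, c ^ 4 = 1 → ψ ⁅x, ψ⁻¹ c⁆ = φ (φ ⁅x, φ⁻¹ (φ⁻¹ c)⁆) := by
      intro c hc hc4
      obtain ⟨hd, hd4⟩ := h.inv4 _ hψi c hc hc4
      obtain ⟨hd1, hd14⟩ := h.inv4 _ hi c hc hc4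
      obtain ⟨hd', hd4'⟩ := h.inv4 _ hi _ hd1 hd14
      rw [hp _ (h.beta_mem x _ hd hd4)]
      congr 2
      apply h.beta_eq x _ _ hd hd4 hd' hd4'
      rw [← map_pow, ← map_pow, ← map_pow]
      apply ψ.injective
      rw [MulAut.apply_inv_self, hp _ (by
        have := hbV _ hd' hd4'
        rwa [← map_pow, ← map_pow] at this), MulAut.apply_inv_self, MulAut.apply_inv_self]
    rw [e b hb hb4, e _ hb1 hb14, e _ hb2 hb24]
    have hl1 : ⁅x, φ⁻¹ (φ⁻¹ (φ⁻¹ b))⁆ = ⁅x, b⁆ := h.beta_eq x _ _ hb3 hb34 hb hb4 sq3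
    have hb4' := h.inv4 _ hi _ hb3 hb34
    have hl2 : ⁅x, φ⁻¹ (φ⁻¹ (φ⁻¹ (φ⁻¹ b)))⁆ = ⁅x, φ⁻¹ b⁆ := by
      apply h.beta_eq x _ _ hb4'.1 hb4'.2 hb1 hb14
      rw [← map_pow, sq3, map_pow]
    rw [hl1, hl2]
    have a1 := h.tri.inv _ m1
    have a2 := h.tri.inv _ (h.tri.inv _ m2)
    rw [h.tri.cube _ m0]
    have e3 : φ (φ (φ (φ ⁅x, φ⁻¹ b⁆))) = φ ⁅x, φ⁻¹ b⁆ := h.tri.cube _ a1
    rw [e3, mul_assoc, h.Vcom _ a2 _ (V.mul_mem m0 a1)]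

theorem trace_one (x b : X) (hb : b ∈ B) (hb4 : b ^ 4 = 1) : h.tr x b = 1 := by
  have htr1 : h.tr 1 b = 1 := by
    unfold tr
    simp
  let N : Subgroup X := {
    carrier := {x | h.tr x b = 1}
    one_mem' := htr1
    mul_mem' := by
      intro x y hx hy
      have hx' : h.tr x b = 1 := hx
      have hy' : h.tr y b = 1 := hy
      change h.tr (x * y) b = 1
      rw [h.tr_mul x y b hb hb4, hx', hy', mul_one]
    inv_mem' := by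
      intro x hx
      have hx' : h.tr x b = 1 := hx
      change h.tr x⁻¹ b = 1
      have h1 := h.tr_mul x⁻¹ x b hb hb4
      rw [inv_mul_cancel, htr1, hx', mul_one] at h1
      exact h1.symm }
  have hN : N = ⊤ := by
    apply h.gen.top
    intro ψ hψ y
    change h.tr (y⁻¹ * ψ y) b = 1
    rw [h.tr_mul _ _ b hb hb4, h.tr_inv y b ψ hψ hb hb4, ← h.tr_mul _ _ b hb hb4, inv_mul_cancel]
    exact htr1
  have : x ∈ N := by rw [hN]; exact Subgroup.mem_top x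
  exact this

/-- `β_x` is either trivial or injective modulo `V` -/
theorem beta_triv (x b₀ : X) (hb₀ : b₀ ∈ B) (hb4 : b₀ ^ 4 = 1) (hb2 : b₀ ^ 2 ≠ 1) (hc : ⁅x, b₀⁆ = 1) : x ∈ h.X2 := by
  have hi := A.inv_mem h.φA
  let B4 : Subgroup X := {
    carrier := {b | b ∈ B ∧ b ^ 4 = 1}
    one_mem' := ⟨B.one_mem, one_pow _⟩
    mul_mem' := by
      rintro a b ⟨ha, ha4⟩ ⟨hb, hb4⟩
      exact ⟨B.mul_mem ha hb, by rw [(show Commute a b from h.Bc a ha b hb).mul_pow, ha4, hb4, mul_one]⟩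
    inv_mem' := by
      rintro a ⟨ha, ha4⟩
      exact ⟨B.inv_mem ha, by rw [inv_pow, ha4, inv_one]⟩ }
  have key := trace_hom h.tri B4 (fun a ha b hb => h.Bc a ha.1 b hb.1)
    (fun b hb => h.inv4 φ h.φA b hb.1 hb.2) (fun b hb => h.inv4 _ hi b hb.1 hb.2) 2
    (fun b hb => h.om _ (B.pow_mem hb.1 2) (by rw [← pow_mul]; exact hb.2)) (fun b => ⁅x, b⁆)
    (fun b hb c hc => h.cmul x b hb.1 c hc.1) (fun b hb => h.beta_mem x b hb.1 hb.2)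
    (fun b hb hb2 => commutatorElement_eq_one_iff_mul_comm.2 (h.Vc (h.om b hb.1 hb2) x))
    (fun b hb => h.trace_one x b hb.1 hb.2) b₀ ⟨hb₀, hb4⟩ hb2 hc
  intro b hb hb4'
  exact commutatorElement_eq_one_iff_mul_comm.1 (key b ⟨hb, hb4'⟩)

end Dat

end Cfsg.Agent.H21.OddA
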