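import Cfsg.Agent.H21.OddJ

set_option autoImplicit false
set_option linter.all false

namespace Cfsg.Agent.H21.OddA

open scoped commutatorElement
open Cfsg.Agent.Extra

universe u
variable {X : Type u} [Group X] [Finite X]

namespace Dat

variable {A : Subgroup (MulAut X)} {B V : Subgroup X} {φ : MulAut X} {v : X} (h : Dat A B V φ v)
include h

/-- squares of `B` -/
def Rs (_h : Dat A B V φ v) : Subgroup X where
  carrier := {c | ∃ b ∈ B, b ^ 2 = c}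
  one_mem' := ⟨1, B.one_mem, one_pow _⟩
  mul_mem' := by
    rintro a b ⟨c, hc, rfl⟩ ⟨d, hd, rfl⟩
    exact ⟨c * d, B.mul_mem hc hd, (show Commute c d from _h.Bc c hc d hd).mul_pow _⟩
  inv_mem' := by
    rintro a ⟨c, hc, rfl⟩
    exact ⟨c⁻¹, B.inv_mem hc, inv_pow _ _⟩

theorem RB : h.Rs ≤ B := by
  rintro c ⟨b, hb, rfl⟩
  exact B.pow_mem hb 2

theorem ne_top : ¬ (⊤ : Subgroup X) ≤ B := by
  intro hc
  apply h.nc
  rw [eq_top_iff]
  intro x _
  rw [Subgroup.mem_center_iff]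
  intro g
  exact h.Bc g (hc (Subgroup.mem_top g)) x (hc (Subgroup.mem_top x))

theorem claim4 (hC : Subgroup.centralizer (B : Set X) ≤ B) : h.X2 ≤ B := by
  classical
  by_contra hcon
  have hcent : ∀ x : X, (∀ b ∈ B, ⁅x, b⁆ = 1) → x ∈ B := by
    intro x hx
    apply hC
    rw [Subgroup.mem_centralizer_iff]
    intro b hb
    exact (commutatorElement_eq_one_iff_mul_comm.1 (hx b hb)).symm
  have hB4 : ∃ b ∈ B, b ^ 4 ≠ 1 := by
    by_contra hc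
    push Not at hc
    apply hcon
    intro x hx
    apply hcent
    intro b hb
    exact commutatorElement_eq_one_iff_mul_comm.2 (hx b hb (hc b hb))
  have hB2 : ∃ b ∈ B, b ^ 2 ≠ 1 := by
    obtain ⟨b, hb, hb4⟩ := hB4
    refine ⟨b, hb, fun hc => hb4 ?_⟩
    rw [show 4 = 2 * 2 by norm_num, pow_mul, hc, one_pow]
  let K := SG B h.X2 h.Bn
  have hKinv : ∀ ψ ∈ A, ∀ x ∈ K, ψ x ∈ K := fun ψ hψ => SG_inv h.Bn (h.Binv ψ hψ) (h.X2inv ψ hψ)
  obtain ⟨x, hxX, hxB, hx2, hxc⟩ := exists_step h.pg B h.X2 h.Bn h.X2n hcon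
  have hxK : x ∈ K := ⟨hxX, hx2, hxc⟩
  -- (a)
  have ha : ∀ y ∈ K, ∀ b ∈ B, ⁅y, b⁆ ∈ V := by
    intro y hy b hb
    apply h.om _ (h.cB y b hb)
    exact h.inv_lemma hy.1 (h.cB y b hb) (h.inv_comm hb hy.2.1)
  have hVR : V ≤ h.Rs := by
    intro w hw
    obtain ⟨c, hc, hcw⟩ := h.H1 1 (by simpa using hB2) w hw
    exact ⟨c, hc, by simpa using hcw⟩
  have h4R : ∀ w ∈ B, w ^ 4 = 1 → w ∈ h.Rs := by
    intro w hw hw4
    exact h.H2 2 (by simpa using hB4) w hw (by simpa using hw4)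
  -- (b)
  have hb : ∀ y ∈ K, ∀ z ∈ K, ∃ r ∈ h.Rs, (y * z) ^ 2 = r * (y ^ 2 * z ^ 2) := by
    intro y hy z hz
    have hw : ⁅y, z⁆ ∈ B := hz.2.2 y
    have hyw : ⁅y, ⁅y, z⁆⁆ ∈ V := ha y hy _ hw
    have hzy : ⁅z, y ^ 2⁆ ∈ V := ha z hz _ hy.2.1
    have e1 : ⁅y ^ 2, z⁆ = ⁅y, ⁅y, z⁆⁆ * ⁅y, z⁆ ^ 2 := by
      rw [pow_two, pow_two]; simp only [commutatorElement_def]; group
    have hw2 : ⁅y, z⁆ ^ 2 ∈ V := by
      have e2 : ⁅y, z⁆ ^ 2 = ⁅y, ⁅y, z⁆⁆⁻¹ * ⁅y ^ 2, z⁆ := by rw [e1]; group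
      rw [e2, ← commutatorElement_inv z (y ^ 2)]
      exact V.mul_mem (V.inv_mem hyw) (V.inv_mem hzy)
    have hw4 : ⁅y, z⁆ ^ 4 = 1 := by
      rw [show 4 = 2 * 2 by norm_num, pow_mul]
      exact h.tri.two _ hw2
    refine ⟨⁅y, z⁆ * ⁅z, y ^ 2⁆, h.Rs.mul_mem (h4R _ hw hw4) (hVR hzy), ?_⟩
    rw [pow_two, pow_two, pow_two]
    simp only [commutatorElement_def]
    group
  -- (c)
  have hc : ∀ y ∈ K, y ^ 2 ∈ h.Rs → y ∈ B := by
    rintro y hy ⟨b, hb, hby⟩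
    -- t0 = y b⁻¹
    have hbi := B.inv_mem hb
    have ht0 : (y * b⁻¹) ^ 2 = ⁅y, b⁻¹⁆ := by
      have e : (y * b⁻¹) ^ 2 = ⁅y, b⁻¹⁆ * (b⁻¹ * y ^ 2 * b⁻¹) := by
        rw [pow_two, pow_two]; simp only [commutatorElement_def]; group
      rw [e, ← hby]
      group
    have hv := ha y hy _ hbi
    obtain ⟨c, hc, hcv⟩ := h.H1 1 (by simpa using hB2) _ hv
    rw [pow_one] at hcv
    have hc4 : c ^ 4 = 1 := by
      rw [show 4 = 2 * 2 by norm_num, pow_mul, hcv]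
      exact h.tri.two _ hv
    have htX2 : y * b⁻¹ * c ∈ h.X2 := h.X2.mul_mem (h.X2.mul_mem hy.1 (h.BX2 hbi)) (h.BX2 hc)
    have hcc : Commute (y * b⁻¹) c := (h.X2.mul_mem hy.1 (h.BX2 hbi)) c hc hc4
    have ht2 : (y * b⁻¹ * c) ^ 2 = 1 := by
      rw [hcc.mul_pow, ht0, hcv, ← pow_two]
      exact h.tri.two _ hv
    set t := y * b⁻¹ * c with ht
    have htV : t ∈ V := by
      apply h.step ht2
      intro g
      have htK : t ∈ K := by
        have hbK : ∀ b ∈ B, b ∈ K := fun b hb => ⟨h.BX2 hb, B.pow_mem hb 2, fun y => h.cB y b hb⟩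
        exact K.mul_mem (K.mul_mem hy (hbK _ hbi)) (hbK _ hc)
      have hd : ⁅g, t⁆ ∈ B := htK.2.2 g
      have hti : t⁻¹ = t := inv_eq_of_mul_eq_one_left (by rw [← pow_two]; exact ht2)
      have e1 : g * t * g⁻¹ = ⁅g, t⁆ * t := by rw [commutatorElement_def]; group
      have e2 : (g * t * g⁻¹) ^ 2 = 1 := by rw [conj_pow, ht2]; group
      rw [e1, pow_two] at e2
      have e3 : t * ⁅g, t⁆ * t⁻¹ = ⁅g, t⁆⁻¹ := by
        rw [hti]
        apply eq_inv_of_mul_eq_one_right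
        rw [← e2]
        simp only [mul_assoc]
      have hdV : ⁅g, t⁆ ∈ V := h.om _ hd (h.inv_lemma htX2 hd e3)
      have e4 : t * (g * t * g⁻¹) = t * ⁅g, t⁆ * t⁻¹ := by
        rw [e1, hti]; simp only [mul_assoc]
      rw [e4, e3]
      exact V.inv_mem hdV
    have : y = t * c⁻¹ * b := by rw [ht]; group
    rw [this]
    exact B.mul_mem (B.mul_mem (h.VB htV) (B.inv_mem hc)) hb
  -- exponent
  obtain ⟨N, hN, hNmin⟩ : ∃ N : ℕ, (∀ b ∈ B, b ^ 2 ^ N = 1) ∧ ∀ M < N, ∃ b ∈ B, b ^ 2 ^ M ≠ 1 := by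
    have hex : ∃ N : ℕ, ∀ b ∈ B, b ^ 2 ^ N = 1 := by
      haveI : Fact (Nat.Prime 2) := ⟨Nat.prime_two⟩
      obtain ⟨k, hk⟩ := IsPGroup.iff_card.1 (h.pg.to_subgroup B)
      refine ⟨k, fun b hb => ?_⟩
      have := pow_card_eq_one' (x := (⟨b, hb⟩ : B))
      rw [hk] at this
      exact congrArg Subtype.val this
    refine ⟨Nat.find hex, Nat.find_spec hex, fun M hM => ?_⟩
    have := Nat.find_min hex hM
    push Not at this
    exact this
  have hN0 : N ≠ 0 := by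
    intro h0
    obtain ⟨b, hb, hb2⟩ := hB2
    have := hN b hb
    rw [h0, pow_zero, pow_one] at this
    rw [this, one_pow] at hb2
    exact hb2 rfl
  obtain ⟨M, rfl⟩ := Nat.exists_eq_succ_of_ne_zero hN0
  have hmV : ∀ b ∈ B, b ^ 2 ^ M ∈ V := by
    intro b hb
    apply h.om _ (B.pow_mem hb _)
    rw [← pow_mul, ← pow_succ]
    exact hN b hb
  have hmR : ∀ b ∈ B, b ^ 2 ^ M = 1 → b ∈ h.Rs := fun b hb hb1 => h.H2 M (hNmin M (Nat.lt_succ_self M)) b hb hb1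
  -- (d)
  have hx2m : (x ^ 2) ^ 2 ^ M ≠ 1 := fun hcc => hxB (hc x hxK (hmR _ hx2 hcc))
  have hφx := hKinv φ h.φA x hxK
  have hφφx := hKinv φ h.φA _ hφx
  have hyK : x * φ x * φ (φ x) ∈ K := K.mul_mem (K.mul_mem hxK hφx) hφφx
  have hyB : x * φ x * φ (φ x) ∈ B := by
    apply hc _ hyK
    obtain ⟨r1, hr1, e1⟩ := hb _ (K.mul_mem hxK hφx) _ hφφx
    obtain ⟨r2, hr2, e2⟩ := hb _ hxK _ hφx
    rw [e1, e2]
    have h3 : x ^ 2 * (φ x) ^ 2 * (φ (φ x)) ^ 2 ∈ h.Rs := by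
      have hb1 : (φ x) ^ 2 ∈ B := hφx.2.1
      have hb2 : (φ (φ x)) ^ 2 ∈ B := hφφx.2.1
      apply hmR
      · exact B.mul_mem (B.mul_mem hx2 hb1) hb2
      · rw [(show Commute (x ^ 2 * (φ x) ^ 2) ((φ (φ x)) ^ 2) from h.Bc _ (B.mul_mem hx2 hb1) _ hb2).mul_pow,
          (show Commute (x ^ 2) ((φ x) ^ 2) from h.Bc _ hx2 _ hb1).mul_pow, ← map_pow, ← map_pow, ← map_pow, ← map_pow, ← map_pow,
          ← map_pow]
        exact h.tri.trace _ (hmV _ hx2)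
    have e3 : r1 * (r2 * (x ^ 2 * (φ x) ^ 2) * (φ (φ x)) ^ 2) = r1 * r2 * (x ^ 2 * (φ x) ^ 2 * (φ (φ x)) ^ 2) := by
      simp only [mul_assoc]
    rw [e3]
    exact h.Rs.mul_mem (h.Rs.mul_mem hr1 hr2) h3
  have hfin := trace_hom h.tri B h.Bc h.φB h.φB' (2 ^ M) hmV (fun b => ⁅x, b⁆) (fun b hb c hc => h.cmul x b hb c hc)
    (fun b hb => ha x hxK b hb) (by
      intro b hb hb1
      obtain ⟨c, hc', rfl⟩ := hmR b hb hb1
      change ⁅x, c ^ 2⁆ = 1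
      rw [h.cpow x c hc']
      exact h.tri.two _ (ha x hxK c hc')) (by
      intro b hb
      change ⁅x, b⁆ * φ ⁅x, φ⁻¹ b⁆ * φ (φ ⁅x, φ⁻¹ (φ⁻¹ b)⁆) = 1
      rw [← h.cφ φ x b, ← h.cφ φ x (φ⁻¹ b), ← h.cφ φ (φ x) b]
      have a1 := ha _ hφx b hb
      have a2 := ha _ hφφx b hb
      rw [← h.cmulL x (φ x) b a1, ← h.cmulL (x * φ x) (φ (φ x)) b a2]
      exact commutatorElement_eq_one_iff_mul_comm.2 (h.Bc _ hyB b hb)) (x ^ 2) hx2 hx2m (by
      change ⁅x, x ^ 2⁆ = 1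
      exact commutatorElement_eq_one_iff_mul_comm.2 (by group))
  exact hxB (hcent x hfin)

theorem claim5 (hX2 : h.X2 ≤ B) : ∀ b ∈ B, b ^ 4 = 1 := by
  by_contra hcon
  push Not at hcon
  have hB2 : ∃ b ∈ B, b ^ 2 ≠ 1 := by
    obtain ⟨b, hb, hb4⟩ := hcon
    refine ⟨b, hb, fun hc => hb4 ?_⟩
    rw [show 4 = 2 * 2 by norm_num, pow_mul, hc, one_pow]
  obtain ⟨x, _, hxB, hx2, hxc⟩ := exists_step h.pg B ⊤ h.Bn inferInstance h.ne_top
  have key : ∀ u ∈ B, u ^ 4 = 1 → ⁅x, u⁆ = u ^ 2 := by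
    intro u hu hu4
    obtain ⟨b, hb, hbu⟩ := h.H2 2 (by simpa using hcon) u hu (by simpa using hu4)
    have hcB := h.cB x b hb
    have hc2 : ⁅x, b⁆ ^ 2 = ⁅x, u⁆ := by rw [← h.cpow x b hb, hbu]
    have hV := h.beta_mem x u hu hu4
    have hc4 : ⁅x, b⁆ ^ 4 = 1 := by
      rw [show 4 = 2 * 2 by norm_num, pow_mul, hc2]
      exact h.tri.two _ hV
    have hinv := h.inv_comm hb hx2
    have e1 : ⁅x, ⁅x, b⁆⁆ = ⁅x, u⁆ := by
      have e2 : ⁅x, ⁅x, b⁆⁆ = (x * ⁅x, b⁆ * x⁻¹) * ⁅x, b⁆⁻¹ := commutatorElement_def _ _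
      rw [e2, hinv, ← mul_inv_rev, ← pow_two, hc2]
      have h3 := h.tri.two _ hV
      rw [pow_two] at h3
      exact inv_eq_of_mul_eq_one_left h3
    have e3 : ⁅x, ⁅x, b⁆ * u⁻¹⁆ = 1 := by
      have h4 := h.cmul x (⁅x, b⁆ * u⁻¹) (B.mul_mem hcB (B.inv_mem hu)) u hu
      rw [inv_mul_cancel_right, e1] at h4
      exact (mul_eq_right.1 h4.symm)
    have e5 : (⁅x, b⁆ * u⁻¹) ^ 2 = 1 := by
      by_contra hne
      apply hxB
      apply hX2
      apply h.beta_triv x (⁅x, b⁆ * u⁻¹) (B.mul_mem hcB (B.inv_mem hu)) ?_ hne e3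
      rw [(show Commute ⁅x, b⁆ u⁻¹ from h.Bc _ hcB _ (B.inv_mem hu)).mul_pow, hc4, inv_pow, hu4, inv_one, mul_one]
    rw [(show Commute ⁅x, b⁆ u⁻¹ from h.Bc _ hcB _ (B.inv_mem hu)).mul_pow, hc2, inv_pow] at e5
    exact mul_inv_eq_one.1 e5
  obtain ⟨u, hu, huv⟩ := h.H1 1 (by simpa using hB2) v h.tri.mem
  rw [pow_one] at huv
  have hu4 : u ^ 4 = 1 := by
    rw [show 4 = 2 * 2 by norm_num, pow_mul, huv]
    exact h.tri.two _ h.tri.mem
  have hi := A.inv_mem h.φA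
  obtain ⟨hu1, hu14⟩ := h.inv4 _ hi u hu hu4
  obtain ⟨hu2, hu24⟩ := h.inv4 _ hi _ hu1 hu14
  have htr := h.trace_one x u hu hu4
  unfold tr at htr
  rw [key u hu hu4, key _ hu1 hu14, key _ hu2 hu24, map_pow, map_pow, map_pow, MulAut.apply_inv_self, MulAut.apply_inv_self,
    MulAut.apply_inv_self, huv] at htr
  have h3 := h.tri.two _ h.tri.mem
  rw [pow_two] at h3
  rw [h3, one_mul] at htr
  exact h.tri.v1 htr

/-- conclusion in the case of a non-elementary `B` -/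
theorem sp2 (hB2 : ∃ b ∈ B, b ^ 2 ≠ 1) : Sp X A := by
  have hC := h.claim1 hB2
  have hX2 := h.claim4 hC
  have h4 := h.claim5 hX2
  have hcent : ∀ x : X, (∀ b ∈ B, ⁅x, b⁆ = 1) → x ∈ B := by
    intro x hx
    apply hC
    rw [Subgroup.mem_centralizer_iff]
    intro b hb
    exact (commutatorElement_eq_one_iff_mul_comm.1 (hx b hb)).symm
  have hsqV : ∀ x : X, x ^ 2 ∈ V := by
    intro x
    by_cases hxB : x ∈ B
    · apply h.om _ (B.pow_mem hxB 2)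
      rw [← pow_mul]
      exact h4 x hxB
    · have hx2B : x ^ 2 ∈ B := by
        apply hcent
        intro b hb
        have hV := h.beta_mem x b hb (h4 b hb)
        rw [pow_two, h.cmulL x x b hV, ← pow_two]
        exact h.tri.two _ hV
      apply h.om _ hx2B
      by_contra hne
      apply hxB
      apply hX2
      exact h.beta_triv x (x ^ 2) hx2B (h4 _ hx2B) hne (commutatorElement_eq_one_iff_mul_comm.2 (by group))
  have hcV : commutator X ≤ V := by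
    rw [commutator_def, Subgroup.commutator_le]
    intro a _ b _
    have e : ⁅a, b⁆ = (a * b) ^ 2 * (b⁻¹ * (a ^ 2)⁻¹ * b) * (b ^ 2)⁻¹ := by
      rw [commutatorElement_def, pow_two, pow_two, pow_two]; group
    rw [e]
    refine V.mul_mem (V.mul_mem (hsqV _) ?_) (V.inv_mem (hsqV b))
    have h5 := h.Vn.conj_mem _ (V.inv_mem (hsqV a)) b⁻¹
    rwa [inv_inv] at h5
  have hZV : Subgroup.center X ≤ V := by
    intro z hz
    have hzB : z ∈ B := hcent z (fun b _ => commutatorElement_eq_one_iff_mul_comm.2 ((Subgroup.mem_center_iff.1 hz) b).symm)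
    apply h.om _ hzB
    by_contra hne
    apply h.ne_top
    intro x _
    exact hX2 (h.beta_triv x z hzB (h4 z hzB) hne (commutatorElement_eq_one_iff_mul_comm.2 ((Subgroup.mem_center_iff.1 hz) x)))
  have hZ : Subgroup.center X = V := le_antisymm hZV h.VZ
  refine ⟨h.pg, h.odd, h.gen, h.noE, ?_, ?_, ?_, h.nc⟩
  · rw [hZ]
    apply le_antisymm hcV
    -- nontrivial
    have hex : ∃ x y : X, ⁅x, y⁆ ≠ 1 := by
      by_contra hcon
      push Not at hcon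
      apply h.nc
      rw [eq_top_iff]
      intro x _
      rw [Subgroup.mem_center_iff]
      intro g
      exact commutatorElement_eq_one_iff_mul_comm.1 (hcon g x)
    obtain ⟨x, y, hxy⟩ := hex
    have hm : ⁅x, y⁆ ∈ commutator X := Subgroup.commutator_mem_commutator (Subgroup.mem_top x) (Subgroup.mem_top y)
    apply h.tri.irr (commutator X) ?_ ⁅x, y⁆ hm (hcV hm) hxy
    intro u hu
    have := (inferInstance : (commutator X).Characteristic).fixed φ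
    rw [← this] at hu
    exact hu
  · intro x
    rw [hZ]
    exact hsqV x
  · intro z hz
    rw [hZ] at hz
    exact h.tri.two z hz

end Dat

end Cfsg.Agent.H21.OddA
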