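import Cfsg.Agent.H21.OddK

set_option autoImplicit false
set_option linter.all false

namespace Cfsg.Agent.H21.OddA

open scoped commutatorElement
open Cfsg.Agent.Extra

universe u
variable {X : Type u} [Group X] [Finite X]

theorem exists_comm_ne (h : Subgroup.center X ≠ ⊤) : ∃ x y : X, ⁅x, y⁆ ≠ 1 := by
  by_contra hcon
  push Not at hcon
  apply h
  rw [eq_top_iff]
  intro x _
  rw [Subgroup.mem_center_iff]
  intro g
  exact commutatorElement_eq_one_iff_mul_comm.1 (hcon g x)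

theorem char_map {H : Subgroup X} (hH : H.Characteristic) (ψ : MulAut X) : ∀ x ∈ H, ψ x ∈ H := by
  intro x hx
  have := hH.fixed ψ
  rw [← this] at hx
  exact hx

namespace Dat

variable {A : Subgroup (MulAut X)} {B V : Subgroup X} {φ : MulAut X} {v : X} (h : Dat A B V φ v)
include h

theorem sp1 (hB1 : ∀ b ∈ B, b ^ 2 = 1) : Sp X A := by
  haveI : Fact (Nat.Prime 2) := ⟨Nat.prime_two⟩
  have hBV : B = V := le_antisymm (fun b hb => h.om b hb (hB1 b hb)) h.VB
  obtain ⟨D, hDc, hfr, hcom, hcen⟩ := Cfsg.Agent.S0093.result h.pg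
  haveI := hDc
  set C := Subgroup.centralizer (D : Set X) with hC
  have hCchar : C.Characteristic := inferInstance
  have hZC : Subgroup.center X ≤ C := Subgroup.center_le_centralizer _
  have hCle : C ≤ B := by
    apply h.Bmax C inferInstance
    · intro x hx y hy
      exact ((Subgroup.mem_centralizer_iff.1 hx) y (hcen hy)).symm
    · intro ψ _
      exact char_map hCchar ψ
    · rw [hBV]; exact h.VZ.trans hZC
  have hCV : C ≤ V := by rw [← hBV]; exact hCle
  have hxd : ∀ (x : X), ∀ d ∈ D, ⁅x, d⁆ ∈ V := by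
    intro x d hd
    apply hCV
    have h1 : ⁅d, x⁆ ∈ ⁅D, (⊤ : Subgroup X)⁆ := Subgroup.commutator_mem_commutator hd (Subgroup.mem_top x)
    have h2 := (hcom h1).2
    rw [← commutatorElement_inv]
    exact C.inv_mem h2
  have hmul : ∀ (x y : X), ∀ d ∈ D, ⁅x * y, d⁆ = ⁅x, d⁆ * ⁅y, d⁆ := fun x y d hd => h.cmulL x y d (hxd y d hd)
  have hsq : ∀ x : X, x ^ 2 ∈ V := by
    intro x
    apply hCV
    rw [hC, Subgroup.mem_centralizer_iff]
    intro d hd
    have h1 : ⁅x ^ 2, d⁆ = 1 := by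
      rw [pow_two, hmul x x d hd, ← pow_two]
      exact h.tri.two _ (hxd x d hd)
    exact (commutatorElement_eq_one_iff_mul_comm.1 h1).symm
  have hcV : commutator X ≤ V := by
    rw [commutator_def, Subgroup.commutator_le]
    intro a _ b _
    have e : ⁅a, b⁆ = (a * b) ^ 2 * (b⁻¹ * (a ^ 2)⁻¹ * b) * (b ^ 2)⁻¹ := by
      rw [commutatorElement_def, pow_two, pow_two, pow_two]; group
    rw [e]
    refine V.mul_mem (V.mul_mem (hsq _) ?_) (V.inv_mem (hsq b))
    have h5 := h.Vn.conj_mem _ (V.inv_mem (hsq a)) b⁻¹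
    rwa [inv_inv] at h5
  have hZ : Subgroup.center X = V := le_antisymm (hZC.trans hCV) h.VZ
  refine ⟨h.pg, h.odd, h.gen, h.noE, ?_, ?_, ?_, h.nc⟩
  · rw [hZ]
    apply le_antisymm hcV
    obtain ⟨x, y, hxy⟩ := exists_comm_ne h.nc
    have hm : ⁅x, y⁆ ∈ commutator X := Subgroup.commutator_mem_commutator (Subgroup.mem_top x) (Subgroup.mem_top y)
    exact h.tri.irr (commutator X) (char_map inferInstance φ) ⁅x, y⁆ hm (hcV hm) hxy
  · intro x
    rw [hZ]
    exact hsq x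
  · intro z hz
    rw [hZ] at hz
    exact h.tri.two z hz

end Dat

theorem main {A : Subgroup (MulAut X)} (hX : IsPGroup 2 X) (hna : ¬ IsMulCommutative X) (hE : NoE8 X)
    (hA : Odd (Nat.card A)) (hG : Gen A) : Sp X A := by
  classical
  haveI : Fact (Nat.Prime 2) := ⟨Nat.prime_two⟩
  have hnc : Subgroup.center X ≠ ⊤ := by
    intro hc
    apply hna
    refine ⟨⟨fun a b => ?_⟩⟩
    have : b ∈ Subgroup.center X := by rw [hc]; exact Subgroup.mem_top b
    exact (Subgroup.mem_center_iff.1 this) a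
  by_cases hchar : ∀ H : Subgroup X, H.Characteristic → IsMulCommutative H → ∀ a ∈ A, ∀ h ∈ H, a h = h
  · have hgen : Subgroup.closure {x : X | ∃ g : X, ∃ a ∈ A, x = g⁻¹ * a g} = ⊤ := by
      rw [← hG]
      congr 1
      ext x
      constructor
      · rintro ⟨g, a, ha, rfl⟩
        exact ⟨a, ha, g, rfl⟩
      · rintro ⟨a, ha, g, rfl⟩
        exact ⟨g, a, ha, rfl⟩
    have hsp := (Cfsg.Agent.S0119.result (p := 2) hX A (Nat.coprime_two_right.2 hA) hgen hchar).1
    exact ⟨hX, hA, hG, hE, hsp.2.2, pow_mem_center_of_isSpecial hsp, center_pow_eq_one_of_isSpecial hsp, hnc⟩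
  · push Not at hchar
    obtain ⟨H, hHc, hHab, φ, hφ, h₀, hh₀, hne⟩ := hchar
    haveI := hHc
    have hHcom : ∀ x ∈ H, ∀ y ∈ H, x * y = y * x := by
      intro x hx y hy
      have := hHab.is_comm.comm ⟨x, hx⟩ ⟨y, hy⟩
      exact congrArg Subtype.val this
    -- V
    let V : Subgroup X := {
      carrier := {b | b ∈ H ∧ b ^ 2 = 1}
      one_mem' := ⟨H.one_mem, one_pow _⟩
      mul_mem' := by
        rintro a b ⟨ha, ha2⟩ ⟨hb, hb2⟩
        exact ⟨H.mul_mem ha hb, by rw [(show Commute a b from hHcom a ha b hb).mul_pow, ha2, hb2, mul_one]⟩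
      inv_mem' := by
        rintro a ⟨ha, ha2⟩
        exact ⟨H.inv_mem ha, by rw [inv_pow, ha2, inv_one]⟩ }
    have hVn : V.Normal := ⟨by
      rintro n ⟨hn, hn2⟩ g
      exact ⟨(inferInstance : H.Normal).conj_mem n hn g, by rw [conj_pow, hn2]; group⟩⟩
    have hVinv : ∀ ψ : MulAut X, ∀ x ∈ V, ψ x ∈ V := by
      rintro ψ x ⟨hx, hx2⟩
      exact ⟨char_map hHc ψ x hx, by rw [← map_pow, hx2, map_one]⟩
    have hV4 : Nat.card V ≤ 4 := hE V hVn (fun x hx y hy => hHcom x hx.1 y hy.1) (fun x hx => hx.2)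
    have hodd := odd_of_mem hA hφ
    obtain ⟨v, hv, hvne⟩ : ∃ v ∈ V, φ v ≠ v := by
      by_contra hcon
      push Not at hcon
      exact hne (fix_of_fix_two hX H hHcom hodd (char_map hHc φ) (fun b hb hb2 => hcon b ⟨hb, hb2⟩) h₀ hh₀)
    have htri : Tri V φ v := ⟨hodd, hVinv φ, hV4, fun x hx => hx.2, fun x hx y hy => hHcom x hx.1 y hy.1, hv, hvne⟩
    have hVZ : V ≤ Subgroup.center X := by
      haveI := hX.isNilpotent
      haveI := hVn
      have hVne : V ≠ ⊥ := by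
        intro hc
        rw [hc, Subgroup.mem_bot] at hv
        exact htri.v1 hv
      have h1 := Cfsg.Agent.Solv.inf_center_ne_bot_of_nilpotent V hVne
      obtain ⟨w, hw, hw1⟩ : ∃ w ∈ V ⊓ Subgroup.center X, w ≠ 1 := by
        by_contra hcon
        push Not at hcon
        exact h1 ((Subgroup.eq_bot_iff_forall _).2 hcon)
      exact htri.irr _ (char_map inferInstance φ) w hw.2 hw.1 hw1
    -- B
    obtain ⟨B, hB, hBmax⟩ := (Set.toFinite {M : Subgroup X | M.Normal ∧ (∀ x ∈ M, ∀ y ∈ M, x * y = y * x) ∧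
      (∀ ψ ∈ A, ∀ b ∈ M, ψ b ∈ M) ∧ H ≤ M}).exists_maximal
      ⟨H, inferInstance, hHcom, fun ψ _ => char_map hHc ψ, le_rfl⟩
    obtain ⟨hBn, hBc, hBinv, hHB⟩ := hB
    have hVB : V ≤ B := fun x hx => hHB hx.1
    have hom : ∀ b ∈ B, b ^ 2 = 1 → b ∈ V := by
      let W : Subgroup X := {
        carrier := {b | b ∈ B ∧ b ^ 2 = 1}
        one_mem' := ⟨B.one_mem, one_pow _⟩
        mul_mem' := by
          rintro a b ⟨ha, ha2⟩ ⟨hb, hb2⟩
          exact ⟨B.mul_mem ha hb, by rw [(show Commute a b from hBc a ha b hb).mul_pow, ha2, hb2, mul_one]⟩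
        inv_mem' := by
          rintro a ⟨ha, ha2⟩
          exact ⟨B.inv_mem ha, by rw [inv_pow, ha2, inv_one]⟩ }
      have hWn : W.Normal := ⟨by
        rintro n ⟨hn, hn2⟩ g
        exact ⟨hBn.conj_mem n hn g, by rw [conj_pow, hn2]; group⟩⟩
      have hW4 : Nat.card W ≤ 4 := hE W hWn (fun x hx y hy => hBc x hx.1 y hy.1) (fun x hx => hx.2)
      have hVW : V ≤ W := fun x hx => ⟨hVB hx, hx.2⟩
      have hVW' : V = W := by
        apply Subgroup.eq_of_le_of_card_ge hVW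
        rw [htri.card4]
        exact hW4
      intro b hb hb2
      rw [hVW']
      exact ⟨hb, hb2⟩
    have hD : Dat A B V φ v := ⟨hX, hA, hG, hE, hnc, htri, hφ, hVZ, fun ψ _ => hVinv ψ, hBn, hBc, hBinv,
      fun M hMn hMc hMinv hBM => hBmax ⟨hMn, hMc, hMinv, hHB.trans hBM⟩ hBM, hom, hVB⟩
    by_cases hB1 : ∀ b ∈ B, b ^ 2 = 1
    · exact hD.sp1 hB1
    · push Not at hB1
      exact hD.sp2 hB1

end Cfsg.Agent.H21.OddA
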