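import Mathlib

set_option autoImplicit false

/-!
Semiregular actions of a finite group on a finite abelian group relative to a fixed subgroup.
-/

namespace Cfsg.Agent.H21.PR

open Subgroup

section Act

variable {F A : Type*} [Group F] [Finite F] [CommGroup A] [Finite A]

/-- every nontrivial element of `F` has the same fixed point subgroup `Z₀`. -/
structure FixHyp (φ : F →* MulAut A) (Z₀ : Subgroup A) : Prop where
  fix : ∀ f : F, f ≠ 1 → ∀ a : A, φ f a = a → a ∈ Z₀
  triv : ∀ f : F, ∀ a ∈ Z₀, φ f a = a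

theorem norm_fixed (φ : F →* MulAut A) (D : Subgroup F) [Fintype D] (a : A) {e : F} (he : e ∈ D) :
    φ e (∏ d : D, φ (d : F) a) = ∏ d : D, φ (d : F) a := by
  rw [map_prod]
  refine Fintype.prod_equiv (Equiv.mulLeft (⟨e, he⟩ : D)) _ _ ?_
  intro d
  simp only [Equiv.coe_mulLeft, Subgroup.coe_mul, map_mul, MulAut.mul_apply]

theorem FixHyp.norm_mem {φ : F →* MulAut A} {Z₀ : Subgroup A} (h : FixHyp φ Z₀) {D : Subgroup F} [Fintype D]
    (hD : D ≠ ⊥) (a : A) : (∏ d : D, φ (d : F) a) ∈ Z₀ := by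
  obtain ⟨e, he1⟩ := (Subgroup.ne_bot_iff_exists_ne_one (H := D)).1 hD
  exact h.fix e (fun h => he1 (Subtype.ext h)) _ (norm_fixed φ D a e.2)

/-- the norm map -/
noncomputable def normHom (φ : F →* MulAut A) (D : Subgroup F) [Fintype D] : A →* A where
  toFun a := ∏ d : D, φ (d : F) a
  map_one' := by simp
  map_mul' a b := by simp [Finset.prod_mul_distrib]

theorem normHom_apply (φ : F →* MulAut A) (D : Subgroup F) [Fintype D] (a : A) :
    normHom φ D a = ∏ d : D, φ (d : F) a := rfl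

theorem normHom_conj (φ : F →* MulAut A) (D : Subgroup F) [Fintype D] (a : A) {u : F}
    (hu : u ∈ normalizer (D : Set F)) : normHom φ D (φ u a) = φ u (normHom φ D a) := by
  rw [normHom_apply, normHom_apply, map_prod]
  have hmem : ∀ d : D, u⁻¹ * (d : F) * u ∈ D := by
    intro d
    have h1 := (Subgroup.mem_normalizer_iff.1 hu (u⁻¹ * (d : F) * u)).2
    apply h1
    have h2 : u * (u⁻¹ * (d : F) * u) * u⁻¹ = d := by group
    rw [h2]
    exact d.2
  refine Fintype.prod_bijective (fun d : D => (⟨u⁻¹ * (d : F) * u, hmem d⟩ : D)) ?_ _ _ ?_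
  · refine (Fintype.bijective_iff_injective_and_card _).2 ⟨?_, rfl⟩
    intro d e hde
    have h1 : u⁻¹ * (d : F) * u = u⁻¹ * (e : F) * u := congrArg Subtype.val hde
    apply Subtype.ext
    simpa using h1
  · intro d
    rw [← MulAut.mul_apply, ← MulAut.mul_apply, ← map_mul, ← map_mul]
    congr 2
    group

theorem grid {φ : F →* MulAut A} {Z₀ : Subgroup A} {I J : Type*} [Fintype I] [DecidableEq I] [Fintype J]
    (t : I → J → F) (i₀ : I) (a : A) (h0 : ∀ j, t i₀ j = 1) (h1 : ∀ j, (∏ i, φ (t i j) a) ∈ Z₀)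
    (h2 : ∀ i, i ≠ i₀ → (∏ j, φ (t i j) a) ∈ Z₀) : a ^ Fintype.card J ∈ Z₀ := by
  have h3 : (∏ i, ∏ j, φ (t i j) a) ∈ Z₀ := by
    rw [Finset.prod_comm]
    exact Subgroup.prod_mem _ (fun j _ => h1 j)
  rw [← Finset.mul_prod_erase _ _ (Finset.mem_univ i₀)] at h3
  have h4 : (∏ i ∈ Finset.univ.erase i₀, ∏ j, φ (t i j) a) ∈ Z₀ :=
    Subgroup.prod_mem _ (fun i hi => h2 i (Finset.ne_of_mem_erase hi))
  have h5 : (∏ j, φ (t i₀ j) a) = a ^ Fintype.card J := by
    simp [h0]
  rw [h5] at h3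
  exact (Subgroup.mul_mem_cancel_right _ h4).1 h3

/-- an `l`-element normalizes no nontrivial `l'`-subgroup. -/
theorem FixHyp.F1 {φ : F →* MulAut A} {Z₀ : Subgroup A} (h : FixHyp φ Z₀) {l : ℕ} [hl : Fact l.Prime]
    {a₀ : A} (ha₀ : a₀ ∉ Z₀) (ha₀' : ∃ k, a₀ ^ l ^ k = 1) {D : Subgroup F} (hD : ¬ l ∣ Nat.card D) {u : F}
    (hu : ∃ k, u ^ l ^ k = 1) (hu1 : u ≠ 1) (hn : u ∈ normalizer (D : Set F)) : D = ⊥ := by
  classical
  by_contra hD0
  have : Fintype D := Fintype.ofFinite D
  let Al : Subgroup A :=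
    { carrier := {a | ∃ k, a ^ l ^ k = 1}
      mul_mem' := by
        rintro a b ⟨k, hk⟩ ⟨j, hj⟩
        refine ⟨k + j, ?_⟩
        rw [mul_pow, pow_add, pow_mul, hk, one_pow, one_mul, mul_comm (l ^ k), pow_mul, hj, one_pow]
      one_mem' := ⟨0, by simp⟩
      inv_mem' := by
        rintro a ⟨k, hk⟩
        exact ⟨k, by rw [inv_pow, hk, inv_one]⟩ }
  have hAl : ∀ a, a ∈ Al ↔ ∃ k, a ^ l ^ k = 1 := fun a => Iff.rfl
  let N := normHom φ D
  let W : Subgroup A := N.ker ⊓ Al
  have hNAl : ∀ a ∈ Al, N a ∈ Al := by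
    rintro a ⟨k, hk⟩
    exact ⟨k, by rw [← map_pow, hk, map_one]⟩
  have hW : W ≠ ⊥ := by
    intro hW
    have hinj : Set.InjOn N (Al : Set A) := by
      intro a ha b hb hab
      have h1 : a * b⁻¹ ∈ W := by
        refine ⟨?_, Al.mul_mem ha (Al.inv_mem hb)⟩
        show N (a * b⁻¹) = 1
        rw [map_mul, map_inv, hab, mul_inv_cancel]
      rw [hW, Subgroup.mem_bot, mul_inv_eq_one] at h1
      exact h1
    have h1 : (Al : Set A).ncard ≤ ((Al ⊓ Z₀ : Subgroup A) : Set A).ncard :=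
      Set.ncard_le_ncard_of_injOn N (fun a ha => ⟨hNAl a ha, h.norm_mem hD0 a⟩) hinj (Set.toFinite _)
    have h2 : ((Al ⊓ Z₀ : Subgroup A) : Set A) = (Al : Set A) :=
      Set.eq_of_subset_of_ncard_le (fun a ha => ha.1) h1 (Set.toFinite _)
    have h3 : a₀ ∈ (Al : Set A) := ha₀'
    rw [← h2] at h3
    exact ha₀ h3.2
  -- action of `⟨u⟩` on `W`
  have hinv : ∀ g ∈ zpowers u, ∀ w ∈ W, φ g w ∈ W := by
    intro g hg w hw
    have hgn : g ∈ normalizer (D : Set F) := (Subgroup.zpowers_le.2 hn) hg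
    refine ⟨?_, ?_⟩
    · show normHom φ D (φ g w) = 1
      rw [normHom_conj φ D w hgn]
      have h1 : normHom φ D w = 1 := hw.1
      rw [h1, map_one]
    · obtain ⟨k, hk⟩ := hw.2
      exact ⟨k, by rw [← map_pow, hk, map_one]⟩
  let act : MulAction (zpowers u) W :=
    { smul := fun g w => ⟨φ (g : F) (w : A), hinv g g.2 w w.2⟩
      one_smul := by
        intro w
        apply Subtype.ext
        show φ ((1 : zpowers u) : F) (w : A) = w
        simp
      mul_smul := by
        intro g g' w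
        apply Subtype.ext
        show φ ((g * g' : zpowers u) : F) (w : A) = φ (g : F) (φ (g' : F) (w : A))
        simp }
  have hsm : ∀ (g : zpowers u) (w : W), ((g • w : W) : A) = φ (g : F) (w : A) := fun _ _ => rfl
  have hpU : IsPGroup l (zpowers u) := by
    rintro ⟨g, hg⟩
    obtain ⟨n, rfl⟩ := Subgroup.mem_zpowers_iff.1 hg
    obtain ⟨k, hk⟩ := hu
    refine ⟨k, ?_⟩
    apply Subtype.ext
    simp only [SubmonoidClass.mk_pow, OneMemClass.coe_one]
    rw [← zpow_natCast, ← zpow_mul, mul_comm, zpow_mul, zpow_natCast, hk, one_zpow]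
  have hpW : IsPGroup l W := by
    rintro ⟨w, hw⟩
    obtain ⟨k, hk⟩ := hw.2
    exact ⟨k, Subtype.ext (by simpa using hk)⟩
  have hWn : Nontrivial W := (Subgroup.nontrivial_iff_ne_bot W).2 hW
  have hdv : l ∣ Nat.card W := by
    obtain ⟨n, hn0, hn1⟩ := (hpW.nontrivial_iff_card).1 hWn
    rw [hn1]
    exact dvd_pow_self l hn0.ne'
  have h1f : (1 : W) ∈ MulAction.fixedPoints (zpowers u) W := by
    intro g
    apply Subtype.ext
    rw [hsm]
    simp
  obtain ⟨b, hb, hb1⟩ := hpU.exists_fixed_point_of_prime_dvd_card_of_fixed_point W hdv h1f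
  have hbZ : (b : A) ∈ Z₀ := by
    apply h.fix u hu1
    have := hb ⟨u, Subgroup.mem_zpowers u⟩
    have h2 := congrArg Subtype.val this
    rw [hsm] at h2
    exact h2
  have h3 : N (b : A) = 1 := b.2.1
  have h4 : N (b : A) = (b : A) ^ Nat.card D := by
    show normHom φ D (b : A) = _
    rw [normHom_apply]
    have h5 : ∀ d : D, φ (d : F) (b : A) = (b : A) := fun d => h.triv d b hbZ
    simp only [h5, Finset.prod_const, Finset.card_univ, Nat.card_eq_fintype_card]
  obtain ⟨k, hk⟩ := b.2.2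
  apply hb1
  apply Subtype.ext
  have h5 : orderOf (b : A) ∣ Nat.card D := orderOf_dvd_of_pow_eq_one (by rw [← h4, h3])
  have h6 : orderOf (b : A) ∣ l ^ k := orderOf_dvd_of_pow_eq_one hk
  have h7 : Nat.Coprime (Nat.card D) (l ^ k) :=
    Nat.Coprime.pow_right k ((Nat.Prime.coprime_iff_not_dvd hl.out).2 hD).symm
  have h8 : orderOf (b : A) = 1 := Nat.dvd_one.1 (h7 ▸ Nat.dvd_gcd h5 h6)
  rw [orderOf_eq_one_iff] at h8
  exact h8.symm

/-- no Frobenius group `T⟨d⟩` acts. -/
theorem FixHyp.F2 {φ : F →* MulAut A} {Z₀ : Subgroup A} (h : FixHyp φ Z₀) {T : Subgroup F} (hT : T ≠ ⊥) {d : F}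
    (hd : d ≠ 1) (hn : d ∈ normalizer (T : Set F))
    (hC : ∀ t ∈ T, ∀ i ∈ zpowers d, i ≠ 1 → i * t = t * i → t = 1) (a : A) : a ^ Nat.card T ∈ Z₀ := by
  classical
  have : Fintype T := Fintype.ofFinite T
  have : Fintype (zpowers d) := Fintype.ofFinite _
  rw [Nat.card_eq_fintype_card]
  refine grid (φ := φ) (I := zpowers d) (J := T) (fun i t => (t : F)⁻¹ * (i : F) * (t : F)) 1 a ?_ ?_ ?_
  · intro t; simp
  · intro t
    apply h.fix ((t : F)⁻¹ * d * (t : F))
    · intro h1
      apply hd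
      have : d = (t : F) * ((t : F)⁻¹ * d * (t : F)) * (t : F)⁻¹ := by group
      rw [this, h1]; group
    · rw [map_prod]
      refine Fintype.prod_equiv (Equiv.mulLeft (⟨d, Subgroup.mem_zpowers d⟩ : zpowers d)) _ _ ?_
      intro i
      rw [← MulAut.mul_apply, ← map_mul]
      congr 2
      simp only [Equiv.coe_mulLeft, Subgroup.coe_mul]
      group
  · intro i hi
    have hi1 : (i : F) ≠ 1 := fun h1 => hi (Subtype.ext h1)
    have hin : (i : F) ∈ normalizer (T : Set F) := (Subgroup.zpowers_le.2 hn) i.2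
    have hmem : ∀ t : T, (t : F)⁻¹ * ((i : F) * (t : F) * (i : F)⁻¹) ∈ T := by
      intro t
      exact T.mul_mem (T.inv_mem t.2) ((Subgroup.mem_normalizer_iff.1 hin _).1 t.2)
    have h1 : (∏ t : T, φ ((t : F)⁻¹ * (i : F) * (t : F)) a) = ∏ t : T, φ (t : F) (φ (i : F) a) := by
      refine Fintype.prod_bijective (fun t : T => (⟨(t : F)⁻¹ * ((i : F) * (t : F) * (i : F)⁻¹), hmem t⟩ : T)) ?_ _ _ ?_
      · refine (Fintype.bijective_iff_injective_and_card _).2 ⟨?_, rfl⟩
        intro t v htv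
        have h1 : (t : F)⁻¹ * ((i : F) * (t : F) * (i : F)⁻¹) = (v : F)⁻¹ * ((i : F) * (v : F) * (i : F)⁻¹) :=
          congrArg Subtype.val htv
        have h2 := hC ((v : F) * (t : F)⁻¹) (T.mul_mem v.2 (T.inv_mem t.2)) i i.2 hi1 ?_
        · apply Subtype.ext
          exact (mul_inv_eq_one.1 h2).symm
        · have h3 : (v : F) * (t : F)⁻¹ * (i : F) = (i : F) * ((v : F) * (t : F)⁻¹) := by
            have h4 : (v : F) * ((t : F)⁻¹ * ((i : F) * (t : F) * (i : F)⁻¹)) * (i : F) * (t : F)⁻¹ =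
                (v : F) * ((v : F)⁻¹ * ((i : F) * (v : F) * (i : F)⁻¹)) * (i : F) * (t : F)⁻¹ := by rw [h1]
            calc (v : F) * (t : F)⁻¹ * (i : F) = (v : F) * ((t : F)⁻¹ * ((i : F) * (t : F) * (i : F)⁻¹)) * (i : F) * (t : F)⁻¹ := by group
              _ = (v : F) * ((v : F)⁻¹ * ((i : F) * (v : F) * (i : F)⁻¹)) * (i : F) * (t : F)⁻¹ := h4
              _ = _ := by group
          exact h3.symm
      · intro t
        rw [← MulAut.mul_apply, ← map_mul]
        congr 2
        group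
    rw [h1]
    exact h.norm_mem hT _

/-- commuting elements `e1, e2` of order `r`. -/
theorem FixHyp.F3 {φ : F →* MulAut A} {Z₀ : Subgroup A} (h : FixHyp φ Z₀) {r : ℕ} [hr : Fact r.Prime] {e1 e2 : F}
    (h1 : e1 ^ r = 1) (h2 : e2 ^ r = 1) (hc : e1 * e2 = e2 * e1) (he2 : e2 ≠ 1) (hne : e1 ∉ zpowers e2) (a : A) :
    a ^ r ∈ Z₀ := by
  classical
  have hpw : ∀ (e : F) (he : e ^ r = 1) (i j : ZMod r), e ^ (i + j).val = e ^ i.val * e ^ j.val := by
    intro e he i j
    rw [ZMod.val_add, ← pow_add]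
    conv_rhs => rw [← Nat.div_add_mod (i.val + j.val) r, pow_add, pow_mul, he, one_pow, one_mul]
  have hcc : ∀ m n : ℕ, e1 ^ m * e2 ^ n = e2 ^ n * e1 ^ m := fun m n => (Commute.pow_pow (show Commute e1 e2 from hc) m n).eq
  have hcard : Fintype.card (ZMod r) = r := ZMod.card r
  rw [← hcard]
  refine grid (φ := φ) (I := ZMod r) (J := ZMod r) (fun i j => e1 ^ i.val * e2 ^ (i * j).val) 0 a ?_ ?_ ?_
  · intro j; simp
  · intro j
    apply h.fix (e1 * e2 ^ j.val)
    · intro h3
      apply hne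
      have : e1 = (e2 ^ j.val)⁻¹ := mul_eq_one_iff_eq_inv.1 h3
      rw [this]
      exact (zpowers e2).inv_mem ((zpowers e2).pow_mem (Subgroup.mem_zpowers e2) _)
    · rw [map_prod]
      refine Fintype.prod_equiv (Equiv.addRight (1 : ZMod r)) _ _ ?_
      intro i
      rw [← MulAut.mul_apply, ← map_mul]
      congr 2
      simp only [Equiv.coe_addRight]
      have hone : e1 ^ (1 : ZMod r).val = e1 := by
        have : Fact (1 < r) := ⟨hr.out.one_lt⟩
        rw [ZMod.val_one, pow_one]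
      have h5 : (i + 1) * j = i * j + j := by ring
      rw [h5, hpw e1 h1, hpw e2 h2, hone]
      calc e1 * e2 ^ j.val * (e1 ^ i.val * e2 ^ (i * j).val)
          = e1 * (e2 ^ j.val * e1 ^ i.val) * e2 ^ (i * j).val := by group
        _ = e1 * (e1 ^ i.val * e2 ^ j.val) * e2 ^ (i * j).val := by rw [hcc]
        _ = (e1 * e1 ^ i.val) * (e2 ^ j.val * e2 ^ (i * j).val) := by group
        _ = (e1 ^ i.val * e1) * (e2 ^ (i * j).val * e2 ^ j.val) := by
            rw [← pow_succ, ← pow_succ', ← pow_add, ← pow_add, add_comm (j.val)]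
  · intro i hi
    have h3 : (∏ j : ZMod r, φ (e1 ^ i.val * e2 ^ (i * j).val) a) =
        φ (e1 ^ i.val) (∏ j : ZMod r, φ (e2 ^ j.val) a) := by
      rw [map_prod]
      refine Fintype.prod_equiv (Equiv.mulLeft₀ i hi) _ _ ?_
      intro j
      rw [← MulAut.mul_apply, ← map_mul]
      rfl
    have h4 : (∏ j : ZMod r, φ (e2 ^ j.val) a) ∈ Z₀ := by
      apply h.fix e2 he2
      rw [map_prod]
      refine Fintype.prod_equiv (Equiv.addRight (1 : ZMod r)) _ _ ?_
      intro i
      rw [← MulAut.mul_apply, ← map_mul]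
      congr 2
      simp only [Equiv.coe_addRight]
      have : Fact (1 < r) := ⟨hr.out.one_lt⟩
      rw [hpw e2 h2, ZMod.val_one, pow_one, ← pow_succ, ← pow_succ']
    rw [h3, h.triv _ _ h4]
    exact h4

theorem exists_primary (K : Subgroup F) (n : ℕ) : ∀ g : F, orderOf g = n → g ∉ K →
    ∃ l j k : ℕ, l.Prime ∧ g ^ j ∉ K ∧ (g ^ j) ^ l ^ k = 1 ∧ l ∣ orderOf g := by
  induction n using Nat.strong_induction_on with
  | _ n ih =>
    intro g hn hg
    have hg1 : orderOf g ≠ 1 := by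
      intro h1
      rw [orderOf_eq_one_iff] at h1
      exact hg (h1 ▸ K.one_mem)
    obtain ⟨l, hl, hld⟩ := Nat.exists_prime_and_dvd hg1
    have hpos : orderOf g ≠ 0 := (orderOf_pos g).ne'
    obtain ⟨v, m, hm, hvm⟩ := Nat.exists_eq_pow_mul_and_not_dvd hpos l hl.ne_one
    by_cases h1 : g ^ m ∈ K
    · have h2 : g ^ l ^ v ∉ K := by
        intro h2
        apply hg
        have hcop : Nat.Coprime (l ^ v) m := Nat.Coprime.pow_left v ((Nat.Prime.coprime_iff_not_dvd hl).2 hm)
        have h3 := Nat.gcd_eq_gcd_ab (l ^ v) m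
        rw [hcop.gcd_eq_one] at h3
        have h4 : g = (g ^ l ^ v) ^ (Nat.gcdA (l ^ v) m) * (g ^ m) ^ (Nat.gcdB (l ^ v) m) := by
          rw [← zpow_natCast, ← zpow_natCast, ← zpow_mul, ← zpow_mul, ← zpow_add, ← h3]
          simp
        rw [h4]
        exact K.mul_mem (K.zpow_mem h2 _) (K.zpow_mem h1 _)
      have h3 : orderOf (g ^ l ^ v) ∣ m := orderOf_dvd_of_pow_eq_one (by
        rw [← pow_mul, ← hvm, pow_orderOf_eq_one])
      have hmpos : 0 < m := Nat.pos_of_ne_zero (by rintro rfl; simp at hm)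
      have hvpos : v ≠ 0 := by
        rintro rfl
        rw [pow_zero, one_mul] at hvm
        exact hm (hvm ▸ hld)
      have h4 : orderOf (g ^ l ^ v) < n := by
        have h5 := Nat.le_of_dvd hmpos h3
        have h6 : 1 < l ^ v := Nat.one_lt_pow hvpos hl.one_lt
        rw [← hn, hvm]
        nlinarith
      obtain ⟨l', j', k', hl', hj', hk', hd'⟩ := ih _ h4 _ rfl h2
      refine ⟨l', l ^ v * j', k', hl', ?_, ?_, ?_⟩
      · rwa [pow_mul]
      · rwa [pow_mul g]
      · exact hd'.trans (orderOf_pow_dvd _)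
    · refine ⟨l, m, v, hl, h1, ?_, hld⟩
      rw [← pow_mul, mul_comm, ← hvm, pow_orderOf_eq_one]

omit [Finite F] in
theorem zpowers_isPGroup {l : ℕ} {u : F} (hu : ∃ k, u ^ l ^ k = 1) : IsPGroup l (zpowers u) := by
  rintro ⟨g, hg⟩
  obtain ⟨n, rfl⟩ := Subgroup.mem_zpowers_iff.1 hg
  obtain ⟨k, hk⟩ := hu
  refine ⟨k, ?_⟩
  apply Subtype.ext
  simp only [SubmonoidClass.mk_pow, OneMemClass.coe_one]
  rw [← zpow_natCast, ← zpow_mul, mul_comm, zpow_mul, zpow_natCast, hk, one_zpow]

theorem not_dvd_of_prime_pow {l r n m : ℕ} (hl : l.Prime) (hr : r.Prime) (hlr : l ≠ r) (h : n ∣ r ^ m) : ¬ l ∣ n := by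
  intro h1
  exact hlr ((Nat.prime_dvd_prime_iff_eq hl hr).1 (hl.dvd_of_dvd_pow (h1.trans h)))

theorem pow_coprime_mem {B : Type*} [Group B] {K : Subgroup B} {a : B} {m n : ℕ} (h1 : a ^ m ∈ K) (h2 : a ^ n ∈ K)
    (hcop : Nat.Coprime m n) : a ∈ K := by
  have h3 := Nat.gcd_eq_gcd_ab m n
  rw [hcop.gcd_eq_one] at h3
  have h4 : a = (a ^ m) ^ (Nat.gcdA m n) * (a ^ n) ^ (Nat.gcdB m n) := by
    rw [← zpow_natCast, ← zpow_natCast, ← zpow_mul, ← zpow_mul, ← zpow_add, ← h3]
    simp
  rw [h4]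
  exact K.mul_mem (K.zpow_mem h1 _) (K.zpow_mem h2 _)

theorem FixHyp.FR {φ : F →* MulAut A} {Z₀ : Subgroup A} (h : FixHyp φ Z₀) {p r s : ℕ} [hp : Fact p.Prime]
    [hr : Fact r.Prime] [hs : Fact s.Prime] (hrp : r ≠ p) (hsr : s ≠ r) {ar as : A}
    (har : ar ∉ Z₀) (har' : ∃ k, ar ^ r ^ k = 1) (has : as ∉ Z₀) (has' : ∃ k, as ^ s ^ k = 1)
    (hQ : ∀ l, l.Prime → l ≠ p → l ∣ Nat.card F → ∃ a : A, a ∉ Z₀ ∧ ∃ k, a ^ l ^ k = 1)
    (T : Sylow r F) (hTc : ∀ x ∈ T, ∀ y ∈ T, x * y = y * x) (hT1 : (T : Subgroup F) ≠ ⊥) : IsPGroup r F := by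
  obtain ⟨n, hn⟩ := T.isPGroup'.exists_card_eq
  have hNC : normalizer ((T : Subgroup F) : Set F) ≤ centralizer ((T : Subgroup F) : Set F) := by
    intro g hg
    by_contra hgc
    obtain ⟨l, j, k, hl, hj, hk, hld⟩ := exists_primary _ _ g rfl hgc
    have : Fact l.Prime := ⟨hl⟩
    set u := g ^ j with hu
    have hun : u ∈ normalizer ((T : Subgroup F) : Set F) := Subgroup.pow_mem _ hg _
    have hu1 : u ≠ 1 := fun h1 => hj (h1 ▸ Subgroup.one_mem _)
    by_cases hlr : l = r
    · subst hlr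
      have h1 := (zpowers_isPGroup ⟨k, hk⟩).inf_normalizer_sylow T
      have h2 : u ∈ zpowers u ⊓ (T : Subgroup F) := by
        rw [← h1]
        exact ⟨Subgroup.mem_zpowers u, hun⟩
      apply hj
      rw [Subgroup.mem_centralizer_iff]
      intro y hy
      exact hTc y hy u h2.2
    · have hlT : ¬ l ∣ Nat.card T := not_dvd_of_prime_pow hl hr.out hlr (dvd_of_eq hn)
      by_cases hlp : l = p
      · subst hlp
        have hou : orderOf u ∣ l ^ k := orderOf_dvd_of_pow_eq_one hk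
        have hou1 : orderOf u ≠ 1 := fun h1 => hu1 (orderOf_eq_one_iff.1 h1)
        have hlou : l ∣ orderOf u := by
          obtain ⟨i, hi, hi2⟩ := (Nat.dvd_prime_pow hl).1 hou
          rw [hi2]
          refine dvd_pow_self l ?_
          rintro rfl
          exact hou1 (by rw [hi2, pow_zero])
        have hod : orderOf (u ^ (orderOf u / l)) = l :=
          orderOf_pow_orderOf_div (orderOf_pos u).ne' hlou
        set d := u ^ (orderOf u / l) with hd
        have hd1 : d ≠ 1 := by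
          intro h1
          rw [h1, orderOf_one] at hod
          exact hl.one_lt.ne hod
        have hC : ∀ t ∈ (T : Subgroup F), ∀ i ∈ zpowers d, i ≠ 1 → i * t = t * i → t = 1 := by
          intro t ht i hi hi1 hit
          by_contra ht1
          apply hi1
          rw [← Subgroup.zpowers_eq_bot]
          obtain ⟨k', hk'⟩ := T.isPGroup' ⟨t, ht⟩
          refine h.F1 (l := r) har har' (D := zpowers i) ?_ (u := t) ⟨k', ?_⟩ ht1 ?_
          · rw [Nat.card_zpowers]
            have h5 : orderOf i ∣ l := by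
              have h6 : i ^ l = 1 := by
                obtain ⟨n', rfl⟩ := Subgroup.mem_zpowers_iff.1 hi
                rw [← zpow_natCast, ← zpow_mul, mul_comm, zpow_mul, zpow_natCast, ← hod, pow_orderOf_eq_one, one_zpow]
              exact orderOf_dvd_of_pow_eq_one h6
            exact not_dvd_of_prime_pow hr.out hl (Ne.symm hlr) (m := 1) (by rwa [pow_one])
          · simpa using congrArg Subtype.val hk'
          · rw [Subgroup.mem_normalizer_iff]
            intro y
            have h7 : ∀ y ∈ zpowers i, t * y * t⁻¹ = y := by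
              intro y hy
              obtain ⟨n', rfl⟩ := Subgroup.mem_zpowers_iff.1 hy
              have : Commute t (i ^ n') := (show Commute t i from hit.symm).zpow_right n'
              rw [this.eq]; group
            constructor
            · intro hy
              rw [h7 y hy]; exact hy
            · intro hy
              have h8 : t⁻¹ * (t * y * t⁻¹) * t = y := by group
              have h9 : t * (t * y * t⁻¹) * t⁻¹ = t * y * t⁻¹ := h7 _ hy
              have h10 : y = t * y * t⁻¹ := by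
                have : t * (t * y * t⁻¹) * t⁻¹ = t * y * t⁻¹ := h9
                have h11 : t * y * t⁻¹ = y := by
                  have h12 : t⁻¹ * (t * (t * y * t⁻¹) * t⁻¹) * t = t⁻¹ * (t * y * t⁻¹) * t := by rw [this]
                  have e1 : t⁻¹ * (t * (t * y * t⁻¹) * t⁻¹) * t = t * y * t⁻¹ := by group
                  have e2 : t⁻¹ * (t * y * t⁻¹) * t = y := by group
                  rw [e1, e2] at h12
                  exact h12
                exact h11.symm
              rw [h10]; exact hy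
        have h3 := h.F2 hT1 hd1 (Subgroup.pow_mem _ hun _) hC as
        obtain ⟨k', hk'⟩ := has'
        apply has
        refine pow_coprime_mem h3 (n := s ^ k') (by rw [hk']; exact Z₀.one_mem) ?_
        rw [hn]
        exact Nat.coprime_pow_primes _ _ hr.out hs.out (Ne.symm hsr)
      · have hlF : l ∣ Nat.card F := by
          refine hld.trans (orderOf_dvd_natCard g)
        obtain ⟨a, ha, ha'⟩ := hQ l hl hlp hlF
        exact hT1 (h.F1 ha ha' hlT ⟨k, hk⟩ hu1 hun)
  have hcomp := MonoidHom.ker_transferSylow_isComplement' T hNC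
  have hndv := MonoidHom.not_dvd_card_ker_transferSylow T hNC
  obtain ⟨t, ht1⟩ := (Subgroup.ne_bot_iff_exists_ne_one (H := (T : Subgroup F))).1 hT1
  obtain ⟨k', hk'⟩ := T.isPGroup' t
  have hK := h.F1 (l := r) har har' (D := (MonoidHom.transferSylow T hNC).ker) hndv (u := (t : F))
    ⟨k', congrArg Subtype.val hk'⟩ (fun h1 => ht1 (Subtype.ext h1)) (by
      rw [Subgroup.normalizer_eq_top]; trivial)
  have hcard := hcomp.card_mul
  rw [hK, Subgroup.card_bot, one_mul, hn] at hcard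
  exact IsPGroup.of_card hcard.symm

end Act

end Cfsg.Agent.H21.PR
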