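import Cfsg.Agent.H21.PRa

set_option autoImplicit false

/-!
Groups whose noncentral `p`-regular elements all have the same centralizer index.
-/

namespace Cfsg.Agent.H21.PR

open Subgroup

section Base

variable {G : Type*} [Group G] {p m : ℕ}

/-- centralizer of an element -/
abbrev cz (x : G) : Subgroup G := centralizer ({x} : Set G)

theorem mem_cz {x y : G} : y ∈ cz x ↔ y * x = x * y := by
  rw [Subgroup.mem_centralizer_singleton_iff]

theorem mem_cz_comm {x y : G} (h : y ∈ cz x) : x ∈ cz y := by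
  rw [mem_cz] at *; exact h.symm

theorem self_mem_cz (x : G) : x ∈ cz x := mem_cz.2 rfl

/-- noncentral `p'`-element -/
def NC (p : ℕ) (x : G) : Prop := (orderOf x).Coprime p ∧ x ∉ center G

/-- `l`-element -/
def QEl (l : ℕ) (x : G) : Prop := ∃ k, x ^ l ^ k = 1

theorem QEl.orderOf_dvd {l : ℕ} {x : G} (h : QEl l x) : ∃ k, orderOf x ∣ l ^ k := by
  obtain ⟨k, hk⟩ := h
  exact ⟨k, orderOf_dvd_of_pow_eq_one hk⟩

theorem QEl.coprime {l q : ℕ} (hl : l.Prime) (hq : q.Prime) (hlq : l ≠ q) {x : G} (h : QEl l x) :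
    (orderOf x).Coprime q := by
  obtain ⟨k, hk⟩ := h.orderOf_dvd
  exact Nat.Coprime.coprime_dvd_left hk (Nat.Coprime.pow_left k ((Nat.coprime_primes hl hq).2 hlq))

theorem QEl.pow {l : ℕ} {x : G} (h : QEl l x) (n : ℕ) : QEl l (x ^ n) := by
  obtain ⟨k, hk⟩ := h
  exact ⟨k, by rw [← pow_mul, mul_comm, pow_mul, hk, one_pow]⟩

theorem QEl.conj {l : ℕ} {x : G} (h : QEl l x) (g : G) : QEl l (g * x * g⁻¹) := by
  obtain ⟨k, hk⟩ := h
  exact ⟨k, by rw [conj_pow, hk]; simp⟩

theorem QEl.inv {l : ℕ} {x : G} (h : QEl l x) : QEl l (x⁻¹) := by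
  obtain ⟨k, hk⟩ := h
  exact ⟨k, by rw [inv_pow, hk, inv_one]⟩

theorem QEl.mul {l : ℕ} {x y : G} (h : QEl l x) (h' : QEl l y) (hc : x * y = y * x) : QEl l (x * y) := by
  obtain ⟨k, hk⟩ := h
  obtain ⟨j, hj⟩ := h'
  refine ⟨k + j, ?_⟩
  rw [(show Commute x y from hc).mul_pow, pow_add, pow_mul, hk, one_pow, one_mul, mul_comm (l ^ k), pow_mul, hj, one_pow]

theorem conj_mem_center {x g : G} (h : g * x * g⁻¹ ∈ center G) : x ∈ center G := by
  have h1 := (inferInstance : (center G).Normal).conj_mem _ h g⁻¹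
  have h2 : g⁻¹ * (g * x * g⁻¹) * g⁻¹⁻¹ = x := by group
  rwa [h2] at h1

theorem NC.conj {x : G} (h : NC p x) (g : G) : NC p (g * x * g⁻¹) := by
  refine ⟨?_, fun h1 => h.2 (conj_mem_center h1)⟩
  have h1 : SemiconjBy g x (g * x * g⁻¹) := by
    show g * x = g * x * g⁻¹ * g
    group
  rw [← h1.orderOf_eq]
  exact h.1

end Base

section Fin

variable {G : Type*} [Group G] [Finite G] {p m : ℕ}

/-- all noncentral `p'`-elements have the same centralizer index -/
structure PHyp (G : Type*) [Group G] (p m : ℕ) : Prop where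
  hp : p.Prime
  idx : ∀ x : G, NC p x → (cz x).index = m

theorem PHyp.eq_of_le (H : PHyp G p m) {x y : G} (hx : NC p x) (hy : NC p y) (h : cz x ≤ cz y) : cz x = cz y := by
  apply Subgroup.eq_of_le_of_card_ge h
  have h1 := (cz x).card_mul_index
  have h2 := (cz y).card_mul_index
  rw [H.idx x hx] at h1
  rw [H.idx y hy] at h2
  have hm : 0 < m := by
    rw [← H.idx x hx]
    exact Nat.pos_of_ne_zero Subgroup.index_ne_zero_of_finite
  have h3 : Nat.card (cz x) * m = Nat.card (cz y) * m := by rw [h1, h2]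
  exact (Nat.eq_of_mul_eq_mul_right hm h3).ge

omit [Finite G] in
theorem cz_le_pow (x : G) (j : ℕ) : cz x ≤ cz (x ^ j) := by
  intro g hg
  rw [mem_cz] at *
  exact (show Commute g x from hg).pow_right j

theorem PHyp.primary (H : PHyp G p m) {x : G} (hx : NC p x) :
    ∃ l j, l.Prime ∧ l ≠ p ∧ QEl l (x ^ j) ∧ NC p (x ^ j) ∧ cz (x ^ j) = cz x := by
  obtain ⟨l, j, k, hl, hj, hk, hd⟩ := exists_primary (center G) _ x rfl hx.2
  have h1 : NC p (x ^ j) := ⟨Nat.Coprime.coprime_dvd_left (orderOf_pow_dvd j) hx.1, hj⟩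
  refine ⟨l, j, hl, ?_, ⟨k, hk⟩, h1, (H.eq_of_le hx h1 (cz_le_pow x j)).symm⟩
  rintro rfl
  exact hl.one_lt.ne' (Nat.Coprime.eq_one_of_dvd (Nat.Coprime.coprime_dvd_left hd hx.1).symm.symm dvd_rfl)

theorem PHyp.K1a (H : PHyp G p m) {l : ℕ} {x y : G} (hx : NC p x) (hxl : QEl l x) (hy : (orderOf y).Coprime p)
    (hyl : (orderOf y).Coprime l) (hc : x * y = y * x) : cz x ≤ cz y := by
  obtain ⟨k, hk⟩ := hxl
  have hcom : Commute x y := hc
  have key : ∀ K : Subgroup G, x * y ∈ K → x ∈ K := by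
    intro K hK
    have h1 : x ^ orderOf y ∈ K := by
      have h2 := K.pow_mem hK (orderOf y)
      rwa [hcom.mul_pow, pow_orderOf_eq_one, mul_one] at h2
    have h2 : x ^ l ^ k ∈ K := by rw [hk]; exact K.one_mem
    exact pow_coprime_mem h1 h2 (Nat.Coprime.pow_right k hyl)
  have hle : cz (x * y) ≤ cz x := by
    intro g hg
    have h1 := key (cz g) (mem_cz_comm hg)
    exact mem_cz_comm h1
  have hnc : NC p (x * y) := by
    refine ⟨?_, fun h1 => hx.2 (key _ h1)⟩
    have h1 : orderOf (x * y) ∣ orderOf x * orderOf y := hcom.orderOf_mul_dvd_mul_orderOf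
    exact Nat.Coprime.coprime_dvd_left h1 (Nat.Coprime.mul_left hx.1 hy)
  have heq := H.eq_of_le hnc hx hle
  intro g hg
  have h1 : x ∈ cz g := mem_cz_comm hg
  rw [← heq] at hg
  have h2 : x * y ∈ cz g := mem_cz_comm hg
  have h3 : y ∈ cz g := by
    have : y = x⁻¹ * (x * y) := by group
    rw [this]
    exact (cz g).mul_mem ((cz g).inv_mem h1) h2
  exact mem_cz_comm h3

/-- if there is a noncentral `l`-element then every centralizer of a noncentral `p'`-element contains one. -/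
theorem PHyp.full (H : PHyp G p m) {l : ℕ} [hl : Fact l.Prime] (hlp : l ≠ p) {w : G} (hw : QEl l w) (hwc : w ∉ center G)
    {x : G} (hx : NC p x) : ∃ y ∈ cz x, QEl l y ∧ y ∉ center G := by
  by_contra hcon
  push Not at hcon
  have hwn : NC p w := ⟨hw.coprime hl.out H.hp hlp, hwc⟩
  have hcard : Nat.card (cz x) = Nat.card (cz w) := by
    have h1 := (cz x).card_mul_index
    have h2 := (cz w).card_mul_index
    rw [H.idx x hx] at h1
    rw [H.idx w hwn] at h2
    have hm : 0 < m := by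
      rw [← H.idx x hx]
      exact Nat.pos_of_ne_zero Subgroup.index_ne_zero_of_finite
    have h3 : Nat.card (cz x) * m = Nat.card (cz w) * m := by rw [h1, h2]
    exact Nat.eq_of_mul_eq_mul_right hm h3
  obtain ⟨P⟩ : Nonempty (Sylow l (cz x)) := inferInstance
  let P' : Subgroup G := (P : Subgroup (cz x)).map (cz x).subtype
  have hP' : IsPGroup l P' := P.isPGroup'.map _
  have hPc : P' ≤ center G := by
    intro y hy
    have hy' := hy
    obtain ⟨y', hy1, rfl⟩ := hy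
    obtain ⟨k, hk⟩ := hP' ⟨_, hy'⟩
    exact hcon _ y'.2 ⟨k, congrArg Subtype.val hk⟩
  have hPn : P'.Normal := by
    constructor
    intro y hy g
    have h1 : g * y * g⁻¹ = y := by
      have h2 := Subgroup.mem_center_iff.1 (hPc hy) g
      rw [h2]; group
    rw [h1]; exact hy
  have hsup : IsPGroup l (P' ⊔ zpowers w : Subgroup G) := IsPGroup.to_sup_of_normal_left hP' (zpowers_isPGroup hw)
  have hle : P' ⊔ zpowers w ≤ cz w := by
    apply sup_le
    · exact hPc.trans (Subgroup.center_le_centralizer _)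
    · rw [Subgroup.zpowers_le]; exact self_mem_cz w
  obtain ⟨j, hj⟩ := hsup.exists_card_eq
  have h1 : l ^ j ∣ Nat.card (cz x) := by
    rw [← hj, hcard]
    exact Subgroup.card_dvd_of_le hle
  have h2 : Nat.card P' = l ^ (Nat.card (cz x)).factorization l := by
    rw [← P.card_eq_multiplicity]
    exact Nat.card_congr ((P : Subgroup (cz x)).equivMapOfInjective _ (cz x).subtype_injective).symm.toEquiv
  have h3 : j ≤ (Nat.card (cz x)).factorization l :=
    (hl.out.pow_dvd_iff_le_factorization Nat.card_pos.ne').1 h1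
  have h4 : Nat.card (P' ⊔ zpowers w : Subgroup G) ≤ Nat.card P' := by
    rw [hj, h2]
    exact Nat.pow_le_pow_right hl.out.pos h3
  have h5 := Subgroup.eq_of_le_of_card_ge (le_sup_left : P' ≤ P' ⊔ zpowers w) h4
  have h6 : w ∈ P' := by
    rw [h5]
    exact (le_sup_right : zpowers w ≤ _) (Subgroup.mem_zpowers w)
  exact hwc (hPc h6)

/-- two primes with noncentral elements -/
structure Dat (G : Type*) [Group G] (p m : ℕ) : Prop extends PHyp G p m where
  two : ∃ l1 l2 : ℕ, l1.Prime ∧ l2.Prime ∧ l1 ≠ p ∧ l2 ≠ p ∧ l1 ≠ l2 ∧ (∃ w : G, QEl l1 w ∧ w ∉ center G) ∧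
    (∃ w : G, QEl l2 w ∧ w ∉ center G)

theorem Dat.other (H : Dat G p m) (l : ℕ) : ∃ l', l'.Prime ∧ l' ≠ p ∧ l' ≠ l ∧ ∃ w : G, QEl l' w ∧ w ∉ center G := by
  obtain ⟨l1, l2, h1, h2, h3, h4, h5, h6, h7⟩ := H.two
  by_cases h : l1 = l
  · exact ⟨l2, h2, h4, fun h8 => h5 (h.trans h8.symm), h7⟩
  · exact ⟨l1, h1, h3, h, h6⟩

theorem Dat.K1 (H : Dat G p m) {x y : G} (hx : NC p x) (hy : NC p y) (hc : x * y = y * x) : cz x = cz y := by
  obtain ⟨l, j, hl, hlp, hxl, hxj, hxe⟩ := H.primary hx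
  obtain ⟨l2, j2, hl2, hl2p, hyl, hyj, hye⟩ := H.primary hy
  obtain ⟨l', hl', hl'p, hl'l, w, hw, hwc⟩ := H.other l
  have : Fact l'.Prime := ⟨hl'⟩
  obtain ⟨y', hy'c, hy'l, hy'n⟩ := H.full hl'p hw hwc hxj
  have hy'nc : NC p y' := ⟨hy'l.coprime hl' H.hp hl'p, hy'n⟩
  have e1 : cz (x ^ j) = cz y' :=
    H.eq_of_le hxj hy'nc (H.K1a hxj hxl hy'nc.1 (hy'l.coprime hl' hl hl'l) (mem_cz.1 hy'c).symm)
  have hcc : x ^ j * y ^ j2 = y ^ j2 * x ^ j := (Commute.pow_pow (show Commute x y from hc) j j2).eq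
  by_cases h : l2 = l
  · subst h
    have h1 : y ^ j2 ∈ cz y' := by
      rw [← e1]
      exact mem_cz.2 hcc.symm
    have e2 : cz y' = cz (y ^ j2) :=
      H.eq_of_le hy'nc hyj (H.K1a hy'nc hy'l hyj.1 (hyl.coprime hl2 hl' (Ne.symm hl'l)) (mem_cz.1 h1).symm)
    rw [← hxe, e1, e2, hye]
  · have e2 : cz (x ^ j) = cz (y ^ j2) := H.eq_of_le hxj hyj (H.K1a hxj hxl hyj.1 (hyl.coprime hl2 hl h) hcc)
    rw [← hxe, e2, hye]

/-- `p'`-elements of the centralizer of a noncentral `p'`-element are central in it. -/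
theorem Dat.le (H : Dat G p m) {x y : G} (hx : NC p x) (hy : (orderOf y).Coprime p) (hc : x * y = y * x) :
    cz x ≤ cz y := by
  by_cases h : y ∈ center G
  · intro g _
    rw [mem_cz]
    exact Subgroup.mem_center_iff.1 h g
  · exact (H.K1 hx ⟨hy, h⟩ hc).le

theorem Dat.comm (H : Dat G p m) {x y z : G} (hx : NC p x) (hy : (orderOf y).Coprime p) (hyx : y ∈ cz x)
    (hz : z ∈ cz x) : y * z = z * y := by
  have h1 := H.le hx hy (mem_cz.1 hyx).symm hz
  exact (mem_cz.1 h1).symm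

/-- the case where `m` is a power of `p`. -/
theorem Dat.abelian_compl (H : Dat G p m) {k : ℕ} (hm : m = p ^ k) :
    ∃ A : Subgroup G, IsMulCommutative A ∧ ¬ p ∣ Nat.card A ∧ ∃ k : ℕ, A.index = p ^ k := by
  obtain ⟨l', hl', hl'p, -, w, hw, hwc⟩ := H.other 0
  have hx : NC p w := ⟨hw.coprime hl' H.hp hl'p, hwc⟩
  let A : Subgroup G :=
    { carrier := {y | y ∈ cz w ∧ (orderOf y).Coprime p}
      mul_mem' := by
        rintro a b ⟨ha, ha'⟩ ⟨hb, hb'⟩
        refine ⟨(cz w).mul_mem ha hb, ?_⟩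
        have hc : Commute a b := H.comm hx ha' ha hb
        exact Nat.Coprime.coprime_dvd_left hc.orderOf_mul_dvd_mul_orderOf (Nat.Coprime.mul_left ha' hb')
      one_mem' := ⟨(cz w).one_mem, by simp⟩
      inv_mem' := by
        rintro a ⟨ha, ha'⟩
        exact ⟨(cz w).inv_mem ha, by rw [orderOf_inv]; exact ha'⟩ }
  have : Fact p.Prime := ⟨H.hp⟩
  refine ⟨A, ⟨⟨?_⟩⟩, ?_, ?_⟩
  · rintro ⟨a, ha⟩ ⟨b, hb⟩
    exact Subtype.ext (H.comm hx ha.2 ha.1 hb.1)
  · intro hdv
    obtain ⟨a, ha⟩ := exists_prime_orderOf_dvd_card' (G := A) p hdv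
    have h1 := a.2.2
    rw [Subgroup.orderOf_coe, ha] at h1
    exact H.hp.one_lt.ne' (Nat.Coprime.eq_one_of_dvd h1 dvd_rfl)
  · have h1 : ∀ q : ℕ, q.Prime → q ∣ A.index → q = p := by
      intro q hq hqd
      by_contra hqp
      have : Fact q.Prime := ⟨hq⟩
      -- Sylow `q` subgroup of `cz w` is Sylow in `G`
      obtain ⟨P⟩ : Nonempty (Sylow q (cz w)) := inferInstance
      let P' : Subgroup G := (P : Subgroup (cz w)).map (cz w).subtype
      have hPA : P' ≤ A := by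
        rintro _ ⟨y, hy, rfl⟩
        obtain ⟨k', hk'⟩ := P.isPGroup' ⟨y, hy⟩
        refine ⟨y.2, ?_⟩
        apply QEl.coprime hq H.hp hqp
        refine ⟨k', ?_⟩
        have h3 := congrArg Subtype.val (congrArg Subtype.val hk')
        exact h3
      have h2 : P'.index = (P : Subgroup (cz w)).index * (cz w).index := by
        rw [Subgroup.index_map, (cz w).ker_subtype, sup_bot_eq, (cz w).range_subtype]
      have h3 : q ∣ P'.index := hqd.trans (Subgroup.index_dvd_of_le hPA)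
      rw [h2, H.idx w hx, hm] at h3
      rcases (Nat.Prime.dvd_mul hq).1 h3 with h4 | h4
      · exact P.not_dvd_index h4
      · exact hqp ((Nat.prime_dvd_prime_iff_eq hq H.hp).1 (hq.dvd_of_dvd_pow h4))
    exact ⟨_, Nat.eq_prime_pow_of_unique_prime_dvd Subgroup.index_ne_zero_of_finite (fun {d} hd hd' => h1 d hd hd')⟩

end Fin

end Cfsg.Agent.H21.PR
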