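import Cfsg.Agent.H21.PRb

set_option autoImplicit false

namespace Cfsg.Agent.H21.PR

open Subgroup
open scoped commutatorElement

variable {G : Type*} [Group G] [Finite G] {p m : ℕ}

/-- the `p'`-elements of a centralizer -/
def AS (H : Dat G p m) {x : G} (hx : NC p x) : Subgroup G where
  carrier := {y | y ∈ cz x ∧ (orderOf y).Coprime p}
  mul_mem' := by
    rintro a b ⟨ha, ha'⟩ ⟨hb, hb'⟩
    refine ⟨(cz x).mul_mem ha hb, ?_⟩
    have hc : Commute a b := H.comm hx ha' ha hb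
    exact Nat.Coprime.coprime_dvd_left hc.orderOf_mul_dvd_mul_orderOf (Nat.Coprime.mul_left ha' hb')
  one_mem' := ⟨(cz x).one_mem, by simp⟩
  inv_mem' := by
    rintro a ⟨ha, ha'⟩
    exact ⟨(cz x).inv_mem ha, by rw [orderOf_inv]; exact ha'⟩

theorem mem_AS (H : Dat G p m) {x : G} (hx : NC p x) {y : G} :
    y ∈ AS H hx ↔ y ∈ cz x ∧ (orderOf y).Coprime p := Iff.rfl

instance instCommGroupAS (H : Dat G p m) {x : G} (hx : NC p x) : CommGroup (AS H hx) :=
  { (AS H hx).toGroup with mul_comm := fun a b => Subtype.ext (H.comm hx a.2.2 a.2.1 b.2.1) }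

theorem orderOf_conj_eq (g y : G) : orderOf (g * y * g⁻¹) = orderOf y := by
  have h1 : SemiconjBy g y (g * y * g⁻¹) := by
    show g * y = g * y * g⁻¹ * g
    group
  exact h1.orderOf_eq.symm

theorem norm_AS (H : Dat G p m) {x : G} (hx : NC p x) :
    normalizer (cz x : Set G) ≤ normalizer (AS H hx : Set G) := by
  intro g hg
  rw [Subgroup.mem_normalizer_iff] at *
  intro y
  rw [mem_AS, mem_AS, orderOf_conj_eq, hg y]

/-- the action of `N(cz x)` on `AS` -/
def rho (H : Dat G p m) {x : G} (hx : NC p x) : normalizer (cz x : Set G) →* MulAut (AS H hx) :=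
  (AS H hx).normalizerMonoidHom.comp (Subgroup.inclusion (norm_AS H hx))

theorem rho_apply (H : Dat G p m) {x : G} (hx : NC p x) (g : normalizer (cz x : Set G)) (a : AS H hx) :
    ((rho H hx g a : AS H hx) : G) = (g : G) * a * (g : G)⁻¹ := rfl

theorem rho_eq_one_iff (H : Dat G p m) {x : G} (hx : NC p x) (g : normalizer (cz x : Set G)) :
    rho H hx g = 1 ↔ (g : G) ∈ cz x := by
  constructor
  · intro h
    have h1 := rho_apply H hx g ⟨x, self_mem_cz x, hx.1⟩
    rw [h] at h1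
    have h2 : x = (g : G) * x * (g : G)⁻¹ := h1
    rw [mem_cz]
    calc (g : G) * x = (g : G) * x * (g : G)⁻¹ * g := by group
      _ = x * g := by rw [← h2]
  · intro h
    apply MulEquiv.ext
    intro a
    apply Subtype.ext
    rw [rho_apply]
    have h1 := H.comm hx a.2.2 a.2.1 h
    rw [← h1]
    show (a : G) * g * (g : G)⁻¹ = a
    group

theorem fixHyp (H : Dat G p m) {x : G} (hx : NC p x) :
    FixHyp (A := AS H hx) (rho H hx).range.subtype ((center G).subgroupOf (AS H hx)) where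
  fix := by
    rintro ⟨f, g, rfl⟩ hf a ha
    rw [Subgroup.mem_subgroupOf]
    by_contra hac
    apply hf
    have h1 : rho H hx g = 1 := by
      rw [rho_eq_one_iff]
      have h2 : (g : G) * a * (g : G)⁻¹ = a := by
        rw [← rho_apply]
        exact congrArg Subtype.val ha
      have h3 : cz x = cz (a : G) := H.K1 hx ⟨a.2.2, hac⟩ (mem_cz.1 a.2.1).symm
      have h4 : (g : G) ∈ cz (a : G) := by
        rw [mem_cz]
        calc (g : G) * a = (g : G) * a * (g : G)⁻¹ * g := by group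
          _ = a * g := by rw [h2]
      exact h3.ge h4
    exact Subtype.ext h1
  triv := by
    rintro ⟨f, g, rfl⟩ a ha
    apply Subtype.ext
    have h2 := rho_apply H hx g a
    have h3 := Subgroup.mem_center_iff.1 (Subgroup.mem_subgroupOf.1 ha) (g : G)
    rw [h3] at h2
    exact h2.trans (by group)

theorem mem_norm_of_conj (H : Dat G p m) {x y : G} (hx : NC p x) (hy : NC p y) (hyx : y ∈ cz x) {g : G}
    (h : g * y * g⁻¹ ∈ cz x) : g ∈ normalizer (cz x : Set G) := by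
  have e1 : cz x = cz y := H.K1 hx hy (mem_cz.1 hyx).symm
  have e2 : cz x = cz (g * y * g⁻¹) := H.K1 hx (hy.conj g) (mem_cz.1 h).symm
  rw [Subgroup.mem_normalizer_iff]
  intro h'
  constructor
  · intro h1
    rw [e1, mem_cz] at h1
    rw [e2, mem_cz]
    calc g * h' * g⁻¹ * (g * y * g⁻¹) = g * (h' * y) * g⁻¹ := by group
      _ = g * (y * h') * g⁻¹ := by rw [h1]
      _ = _ := by group
  · intro h1
    rw [e2, mem_cz] at h1
    rw [e1, mem_cz]
    calc h' * y = g⁻¹ * (g * h' * g⁻¹ * (g * y * g⁻¹)) * g := by group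
      _ = g⁻¹ * (g * y * g⁻¹ * (g * h' * g⁻¹)) * g := by rw [h1]
      _ = _ := by group

theorem mem_norm_of_comm (H : Dat G p m) {x : G} (hx : NC p x) {g : G} (h : ⁅x, g⁆ ∈ center G) :
    g ∈ normalizer (cz x : Set G) := by
  apply mem_norm_of_conj H hx hx (self_mem_cz x)
  rw [mem_cz]
  have h1 : g * x * g⁻¹ = ⁅x, g⁆⁻¹ * x := by
    rw [commutatorElement_def]; group
  have h2 := Subgroup.mem_center_iff.1 ((center G).inv_mem h) x
  rw [h1, mul_assoc, ← mul_assoc x, h2, mul_assoc]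

theorem exists_x (H : Dat G p m) {r : ℕ} [hr : Fact r.Prime] (hrp : r ≠ p) (hrm : r ∣ m) :
    ∃ (x : G) (R : Sylow r G), NC p x ∧ QEl r x ∧ x ∈ R ∧ ¬ (R : Subgroup G) ≤ cz x ∧
      ∀ u ∈ R, ⁅x, u⁆ ∈ center G := by
  obtain ⟨R⟩ : Nonempty (Sylow r G) := inferInstance
  have hnle : ∀ x, NC p x → ¬ (R : Subgroup G) ≤ cz x := by
    intro x hx hle
    apply R.not_dvd_index
    have h1 := Subgroup.index_dvd_of_le hle
    rw [H.idx x hx] at h1
    obtain ⟨c, hc⟩ := hrm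
    have h2 := (R : Subgroup G).relIndex_mul_index hle
    have h3 := H.idx x hx
    rw [← h2, h3, hc]
    exact ⟨(R : Subgroup G).relIndex (cz x) * c, by ring⟩
  obtain ⟨l1, l2, -, -, -, -, -, ⟨w, hw, hwc⟩, -⟩ := H.two
  have hRc : ¬ (R : Subgroup G) ≤ center G := by
    intro h1
    obtain ⟨l', hl', hl'p, -, w, hw, hwc⟩ := H.other 0
    exact hnle w ⟨hw.coprime hl' H.hp hl'p, hwc⟩ (h1.trans (Subgroup.center_le_centralizer _))
  -- image of `R` in `G / Z`
  let q := QuotientGroup.mk' (center G)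
  let R' : Subgroup (G ⧸ center G) := (R : Subgroup G).map q
  have hR' : IsPGroup r R' := R.isPGroup'.map _
  have hR'n : Nontrivial R' := by
    rw [Subgroup.nontrivial_iff_ne_bot]
    intro h1
    apply hRc
    intro y hy
    have h2 : q y ∈ R' := ⟨y, hy, rfl⟩
    rw [h1, Subgroup.mem_bot] at h2
    exact (QuotientGroup.eq_one_iff y).1 h2
  have hcn := hR'.center_nontrivial
  obtain ⟨⟨⟨_, x, hxR, rfl⟩, hx2⟩, hx1⟩ := exists_ne (1 : center R')
  have hxc : x ∉ center G := by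
    intro h1
    apply hx1
    apply Subtype.ext
    apply Subtype.ext
    exact (QuotientGroup.eq_one_iff x).2 h1
  have hxr : QEl r x := by
    obtain ⟨k, hk⟩ := R.isPGroup' ⟨x, hxR⟩
    exact ⟨k, congrArg Subtype.val hk⟩
  have hxn : NC p x := ⟨hxr.coprime hr.out H.hp hrp, hxc⟩
  refine ⟨x, R, hxn, hxr, hxR, hnle x hxn, ?_⟩
  intro u hu
  have h1 := Subgroup.mem_center_iff.1 hx2 ⟨q u, ⟨u, hu, rfl⟩⟩
  have h2 : q u * q x = q x * q u := congrArg Subtype.val h1
  have h3 : q ⁅x, u⁆ = 1 := by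
    rw [map_commutatorElement, commutatorElement_eq_one_iff_mul_comm]
    exact h2.symm
  exact (QuotientGroup.eq_one_iff _).1 h3

theorem not_mem_subgroupOf {H' : Subgroup G} {a : H'} (h : (a : G) ∉ center G) : a ∉ (center G).subgroupOf H' := by
  rw [Subgroup.mem_subgroupOf]; exact h

/-- `N(cz x)/cz x` is an `r`-group. -/
theorem norm_rpow (H : Dat G p m) {r : ℕ} [hr : Fact r.Prime] (hrp : r ≠ p) {x : G} {R : Sylow r G}
    (hx : NC p x) (hxr : QEl r x) (hxR : x ∈ R) (hR : ¬ (R : Subgroup G) ≤ cz x) (hcom : ∀ u ∈ R, ⁅x, u⁆ ∈ center G)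
    {g : G} (hg : g ∈ normalizer (cz x : Set G)) : ∃ k, g ^ r ^ k ∈ cz x := by
  obtain ⟨s, hs, hsp, hsr, w, hw, hwc⟩ := H.other r
  have : Fact s.Prime := ⟨hs⟩
  have : Fact p.Prime := ⟨H.hp⟩
  obtain ⟨c, hcx, hcs, hcc⟩ := H.full hsp hw hwc hx
  have hRN : (R : Subgroup G) ≤ normalizer (cz x : Set G) := fun u hu => mem_norm_of_comm H hx (hcom u hu)
  let f := (rho H hx).rangeRestrict
  have hf : Function.Surjective f := (rho H hx).rangeRestrict_surjective
  let T : Sylow r (rho H hx).range := (R.subtype hRN).mapSurjective hf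
  have hTm : ∀ t ∈ T, ∃ u : normalizer (cz x : Set G), (u : G) ∈ R ∧ f u = t := by
    intro t ht
    have h1 : t ∈ ((R.subtype hRN).mapSurjective hf : Subgroup _) := ht
    rw [Sylow.coe_mapSurjective] at h1
    obtain ⟨u, hu, rfl⟩ := h1
    refine ⟨u, ?_, rfl⟩
    have h2 : u ∈ ((R.subtype hRN : Sylow r _) : Subgroup _) := hu
    rw [Sylow.coe_subtype] at h2
    exact Subgroup.mem_subgroupOf.1 h2
  have hTc : ∀ a ∈ T, ∀ b ∈ T, a * b = b * a := by
    intro a ha b hb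
    obtain ⟨u, hu, rfl⟩ := hTm a ha
    obtain ⟨v, hv, rfl⟩ := hTm b hb
    have h1 : (v * u)⁻¹ * (u * v) ∈ f.ker := by
      rw [MonoidHom.mem_ker]
      apply Subtype.ext
      show rho H hx ((v * u)⁻¹ * (u * v)) = 1
      rw [rho_eq_one_iff, mem_cz]
      have e1 := Subgroup.mem_center_iff.1 (hcom u hu)
      have e2 := Subgroup.mem_center_iff.1 (hcom v hv)
      have hu1 : (u : G) * x = ⁅x, (u : G)⁆⁻¹ * x * u := by rw [commutatorElement_def]; group
      have hv1 : (v : G) * x = ⁅x, (v : G)⁆⁻¹ * x * v := by rw [commutatorElement_def]; group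
      have c1 : ∀ g : G, g * ⁅x, (u : G)⁆⁻¹ = ⁅x, (u : G)⁆⁻¹ * g :=
        fun g => Subgroup.mem_center_iff.1 ((center G).inv_mem (hcom u hu)) g
      have c2 : ∀ g : G, g * ⁅x, (v : G)⁆⁻¹ = ⁅x, (v : G)⁆⁻¹ * g :=
        fun g => Subgroup.mem_center_iff.1 ((center G).inv_mem (hcom v hv)) g
      have h3 : (u : G) * v * x = ⁅x, (u : G)⁆⁻¹ * ⁅x, (v : G)⁆⁻¹ * x * (u * v) := by
        calc (u : G) * v * x = u * (v * x) := by group
          _ = u * (⁅x, (v : G)⁆⁻¹ * x * v) := by rw [hv1]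
          _ = (u * ⁅x, (v : G)⁆⁻¹) * x * v := by group
          _ = (⁅x, (v : G)⁆⁻¹ * u) * x * v := by rw [c2]
          _ = ⁅x, (v : G)⁆⁻¹ * (u * x) * v := by group
          _ = ⁅x, (v : G)⁆⁻¹ * (⁅x, (u : G)⁆⁻¹ * x * u) * v := by rw [hu1]
          _ = (⁅x, (v : G)⁆⁻¹ * ⁅x, (u : G)⁆⁻¹) * x * (u * v) := by group
          _ = (⁅x, (u : G)⁆⁻¹ * ⁅x, (v : G)⁆⁻¹) * x * (u * v) := by rw [c1]
          _ = _ := by group
      have h4 : (v : G) * u * x = ⁅x, (u : G)⁆⁻¹ * ⁅x, (v : G)⁆⁻¹ * x * (v * u) := by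
        calc (v : G) * u * x = v * (u * x) := by group
          _ = v * (⁅x, (u : G)⁆⁻¹ * x * u) := by rw [hu1]
          _ = (v * ⁅x, (u : G)⁆⁻¹) * x * u := by group
          _ = (⁅x, (u : G)⁆⁻¹ * v) * x * u := by rw [c1]
          _ = ⁅x, (u : G)⁆⁻¹ * (v * x) * u := by group
          _ = ⁅x, (u : G)⁆⁻¹ * (⁅x, (v : G)⁆⁻¹ * x * v) * u := by rw [hv1]
          _ = _ := by group
      show ((v : G) * u)⁻¹ * (u * v) * x = x * (((v : G) * u)⁻¹ * (u * v))
      have h5 : x = ((v : G) * u)⁻¹ * (⁅x, (u : G)⁆⁻¹ * ⁅x, (v : G)⁆⁻¹) * x * (v * u) := by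
        calc x = ((v : G) * u)⁻¹ * (v * u * x) := by group
          _ = ((v : G) * u)⁻¹ * (⁅x, (u : G)⁆⁻¹ * ⁅x, (v : G)⁆⁻¹ * x * (v * u)) := by rw [h4]
          _ = _ := by group
      calc ((v : G) * u)⁻¹ * (u * v) * x = ((v : G) * u)⁻¹ * (u * v * x) := by group
        _ = ((v : G) * u)⁻¹ * (⁅x, (u : G)⁆⁻¹ * ⁅x, (v : G)⁆⁻¹ * x * (u * v)) := by rw [h3]
        _ = (((v : G) * u)⁻¹ * (⁅x, (u : G)⁆⁻¹ * ⁅x, (v : G)⁆⁻¹) * x * (v * u)) * (((v : G) * u)⁻¹ * (u * v)) := by group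
        _ = x * (((v : G) * u)⁻¹ * (u * v)) := by rw [← h5]
    rw [← map_mul, ← map_mul]
    have h2 := (MonoidHom.mem_ker).1 h1
    rw [map_mul, map_inv, inv_mul_eq_one] at h2
    exact h2.symm
  have hT1 : (T : Subgroup (rho H hx).range) ≠ ⊥ := by
    intro h1
    apply hR
    intro u hu
    have h2 : f ⟨u, hRN hu⟩ ∈ (T : Subgroup (rho H hx).range) := by
      show _ ∈ (((R.subtype hRN).mapSurjective hf : Sylow r (rho H hx).range) : Subgroup (rho H hx).range)
      rw [Sylow.coe_mapSurjective]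
      refine ⟨⟨u, hRN hu⟩, ?_, rfl⟩
      show _ ∈ ((R.subtype hRN : Sylow r (normalizer (cz x : Set G))) : Subgroup (normalizer (cz x : Set G)))
      rw [Sylow.coe_subtype, Subgroup.mem_subgroupOf]
      exact hu
    rw [h1, Subgroup.mem_bot] at h2
    exact (rho_eq_one_iff H hx _).1 (congrArg Subtype.val h2)
  have hQ : ∀ l, l.Prime → l ≠ p → l ∣ Nat.card (rho H hx).range →
      ∃ a : AS H hx, a ∉ (center G).subgroupOf (AS H hx) ∧ ∃ k, a ^ l ^ k = 1 := by
    intro l hl hlp hlc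
    have : Fact l.Prime := ⟨hl⟩
    obtain ⟨⟨_, g', rfl⟩, hf1⟩ := exists_prime_orderOf_dvd_card' (G := (rho H hx).range) l hlc
    have hf2 : orderOf (rho H hx g') = l := by rw [← hf1, ← Subgroup.orderOf_coe]
    obtain ⟨v, m', hm', hv⟩ := Nat.exists_eq_pow_mul_and_not_dvd (orderOf_pos g').ne' l hl.ne_one
    have hc1 : ((g' : G) ^ m') ∉ center G := by
      intro h1
      have h2 : rho H hx (g' ^ m') = 1 := by
        rw [rho_eq_one_iff]
        exact (Subgroup.center_le_centralizer _) h1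
      rw [map_pow] at h2
      apply hm'
      rw [← hf2]
      exact orderOf_dvd_of_pow_eq_one h2
    have hc2 : QEl l ((g' : G) ^ m') := by
      refine ⟨v, ?_⟩
      rw [← pow_mul, mul_comm, ← hv]
      exact congrArg Subtype.val (pow_orderOf_eq_one g')
    obtain ⟨y, hy1, hy2, hy3⟩ := H.full hlp hc2 hc1 hx
    refine ⟨⟨y, hy1, hy2.coprime hl H.hp hlp⟩, not_mem_subgroupOf hy3, ?_⟩
    obtain ⟨k, hk⟩ := hy2
    exact ⟨k, Subtype.ext hk⟩
  have hF := (fixHyp H hx).FR hrp hsr (ar := ⟨x, self_mem_cz x, hx.1⟩) (as := ⟨c, hcx, hcs.coprime hs H.hp hsp⟩)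
    (not_mem_subgroupOf hx.2) (by obtain ⟨k, hk⟩ := hxr; exact ⟨k, Subtype.ext hk⟩)
    (not_mem_subgroupOf hcc) (by obtain ⟨k, hk⟩ := hcs; exact ⟨k, Subtype.ext hk⟩) hQ T hTc hT1
  obtain ⟨k, hk⟩ := hF (f ⟨g, hg⟩)
  refine ⟨k, ?_⟩
  rw [← map_pow] at hk
  exact (rho_eq_one_iff H hx _).1 (congrArg Subtype.val hk)

end Cfsg.Agent.H21.PR
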