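import Cfsg.Agent.H21.PRc
import Cfsg.Agent.H67.Kazarin

set_option autoImplicit false

namespace Cfsg.Agent.H21.PR

open Subgroup
open scoped commutatorElement Pointwise

variable {G : Type*} [Group G] [Finite G] {p m r : ℕ} {x : G}

structure XD (G : Type*) [Group G] (p m r : ℕ) (x : G) : Prop extends Dat G p m where
  rp : r.Prime
  hrp : r ≠ p
  hx : NC p x
  hxr : QEl r x
  norm : ∀ g ∈ normalizer (cz x : Set G), ∃ k, g ^ r ^ k ∈ cz x
  exR : ∃ R : Sylow r G, x ∈ R ∧ ¬ (R : Subgroup G) ≤ cz x ∧ ∀ u ∈ R, ⁅x, u⁆ ∈ center G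

theorem exists_XD (H : Dat G p m) (hr : r.Prime) (hrp : r ≠ p) (hrm : r ∣ m) : ∃ x : G, XD G p m r x := by
  have : Fact r.Prime := ⟨hr⟩
  obtain ⟨x, R, hx, hxr, hxR, hR, hcom⟩ := exists_x H hrp hrm
  exact ⟨x, { H with
    rp := hr
    hrp := hrp
    hx := hx
    hxr := hxr
    norm := fun g hg => norm_rpow H hrp hx hxr hxR hR hcom hg
    exR := ⟨R, hxR, hR, hcom⟩ }⟩

theorem sylow_qel {q : ℕ} [Fact q.Prime] (S : Sylow q G) {y : G} (hy : y ∈ S) : QEl q y := by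
  obtain ⟨k, hk⟩ := S.isPGroup' ⟨y, hy⟩
  exact ⟨k, congrArg Subtype.val hk⟩

theorem XD.not_dvd (X : XD G p m r x) {q : ℕ} (hq : q.Prime) (hqp : q ≠ p) (hqr : q ≠ r) : ¬ q ∣ m := by
  intro hqm
  have : Fact q.Prime := ⟨hq⟩
  have hnle : ∀ S : Sylow q G, ¬ (S : Subgroup G) ≤ cz x := by
    intro S hle
    apply S.not_dvd_index
    have h2 := (S : Subgroup G).relIndex_mul_index hle
    have h3 := X.idx x X.hx
    rw [← h2, h3]
    exact Dvd.dvd.mul_left hqm _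
  obtain ⟨S0⟩ : Nonempty (Sylow q G) := inferInstance
  have h1 : ∃ w : G, QEl q w ∧ w ∉ center G := by
    by_contra hcon
    push Not at hcon
    exact hnle S0 (fun y hy => (Subgroup.center_le_centralizer _) (hcon y (sylow_qel S0 hy)))
  obtain ⟨w, hw, hwc⟩ := h1
  obtain ⟨c, hcx, hcq, hcc⟩ := X.full hqp hw hwc X.hx
  let S₁ : Subgroup G :=
    { carrier := {y | y ∈ cz x ∧ QEl q y}
      mul_mem' := by
        rintro a b ⟨ha, ha'⟩ ⟨hb, hb'⟩
        exact ⟨(cz x).mul_mem ha hb, ha'.mul hb' (X.comm X.hx (ha'.coprime hq X.hp hqp) ha hb)⟩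
      one_mem' := ⟨(cz x).one_mem, 0, by simp⟩
      inv_mem' := by
        rintro a ⟨ha, ha'⟩
        exact ⟨(cz x).inv_mem ha, ha'.inv⟩ }
  have hS₁ : IsPGroup q S₁ := by
    rintro ⟨y, hy⟩
    obtain ⟨k, hk⟩ := hy.2
    exact ⟨k, Subtype.ext hk⟩
  obtain ⟨S, hS⟩ := hS₁.exists_le_sylow
  have hSle : (S : Subgroup G) ≤ S₁ := by
    by_contra hcon
    have hnil : Group.IsNilpotent S := S.isPGroup'.isNilpotent
    have hnc := Group.normalizerCondition_of_isNilpotent (G := S)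
    have hlt : S₁.subgroupOf S < ⊤ := by
      rw [lt_top_iff_ne_top, Ne, Subgroup.subgroupOf_eq_top]
      exact hcon
    obtain ⟨g, hg, hg1⟩ := SetLike.exists_of_lt (hnc _ hlt)
    have h2 : (g : G) * c * (g : G)⁻¹ ∈ S₁ := by
      have h3 := (Subgroup.mem_normalizer_iff.1 hg ⟨c, hS ⟨hcx, hcq⟩⟩).1 (by
        show (⟨c, _⟩ : S) ∈ S₁.subgroupOf S
        rw [Subgroup.mem_subgroupOf]; exact ⟨hcx, hcq⟩)
      exact Subgroup.mem_subgroupOf.1 h3
    have h3 : (g : G) ∈ normalizer (cz x : Set G) :=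
      mem_norm_of_conj X.toDat X.hx ⟨hcq.coprime hq X.hp hqp, hcc⟩ hcx h2.1
    obtain ⟨k, hk⟩ := X.norm _ h3
    obtain ⟨j, hj⟩ := sylow_qel S g.2
    apply hg1
    rw [Subgroup.mem_subgroupOf]
    refine ⟨?_, ⟨j, hj⟩⟩
    refine pow_coprime_mem hk (n := q ^ j) (by rw [hj]; exact (cz x).one_mem) ?_
    exact Nat.coprime_pow_primes _ _ X.rp hq (Ne.symm hqr)
  exact hnle S (fun y hy => (hSle hy).1)

theorem XD.conj_cz (X : XD G p m r x) {y : G} (hy : NC p y) :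
    ∃ g : G, ∀ h : G, h ∈ cz y ↔ g⁻¹ * h * g ∈ cz x := by
  obtain ⟨s, hs, hsp, hsr, w, hw, hwc⟩ := X.other r
  have : Fact s.Prime := ⟨hs⟩
  obtain ⟨c, hcy, hcs, hcc⟩ := X.full hsp hw hwc hy
  have hcn : NC p c := ⟨hcs.coprime hs X.hp hsp, hcc⟩
  obtain ⟨P⟩ : Nonempty (Sylow s (cz x)) := inferInstance
  have hP' : IsPGroup s ((P : Subgroup (cz x)).map (cz x).subtype : Subgroup G) := P.isPGroup'.map _
  have hPi : ¬ s ∣ ((P : Subgroup (cz x)).map (cz x).subtype : Subgroup G).index := by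
    rw [Subgroup.index_map, (cz x).ker_subtype, sup_bot_eq, (cz x).range_subtype, X.idx x X.hx]
    intro h
    rcases (Nat.Prime.dvd_mul hs).1 h with h4 | h4
    · exact P.not_dvd_index h4
    · exact X.not_dvd hs hsp hsr h4
  obtain ⟨T, hT⟩ := (zpowers_isPGroup hcs).exists_le_sylow
  obtain ⟨g, hg⟩ := MulAction.exists_smul_eq G (hP'.toSylow hPi) T
  have hcT : c ∈ T := hT (Subgroup.mem_zpowers c)
  have hc2 : g⁻¹ * c * g ∈ cz x := by
    rw [← hg] at hcT
    have h1 : c ∈ (g • (hP'.toSylow hPi : Sylow s G) : Sylow s G) := hcT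
    rw [Sylow.smul_def] at h1
    have h2 : c ∈ (MulAut.conj g • ((hP'.toSylow hPi : Sylow s G) : Subgroup G) : Subgroup G) := h1
    rw [Subgroup.mem_pointwise_smul_iff_inv_smul_mem] at h2
    have h3 : (MulAut.conj g)⁻¹ • c = g⁻¹ * c * g := by
      rw [← map_inv]
      simp [MulAut.smul_def]
    rw [h3, IsPGroup.toSylow_coe] at h2
    obtain ⟨y', -, hy'⟩ := h2
    rw [← hy']
    exact y'.2
  have hcn2 : NC p (g⁻¹ * c * g) := by
    have := hcn.conj g⁻¹
    rwa [inv_inv] at this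
  have e1 : cz x = cz (g⁻¹ * c * g) := X.K1 X.hx hcn2 (mem_cz.1 hc2).symm
  have e2 : cz y = cz c := X.K1 hy hcn (mem_cz.1 hcy).symm
  refine ⟨g, fun h => ?_⟩
  rw [e1, e2, mem_cz, mem_cz]
  constructor
  · intro h1
    calc g⁻¹ * h * g * (g⁻¹ * c * g) = g⁻¹ * (h * c) * g := by group
      _ = g⁻¹ * (c * h) * g := by rw [h1]
      _ = _ := by group
  · intro h1
    calc h * c = g * (g⁻¹ * h * g * (g⁻¹ * c * g)) * g⁻¹ := by group
      _ = g * (g⁻¹ * c * g * (g⁻¹ * h * g)) * g⁻¹ := by rw [h1]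
      _ = _ := by group

theorem norm_transfer {x y g : G} (hg : ∀ h : G, h ∈ cz y ↔ g⁻¹ * h * g ∈ cz x) {n : G}
    (hn : n ∈ normalizer (cz y : Set G)) : g⁻¹ * n * g ∈ normalizer (cz x : Set G) := by
  rw [Subgroup.mem_normalizer_iff] at *
  intro h
  have e1 : h ∈ cz x ↔ g * h * g⁻¹ ∈ cz y := by
    rw [hg]
    have : g⁻¹ * (g * h * g⁻¹) * g = h := by group
    rw [this]
  have e2 : g⁻¹ * n * g * h * (g⁻¹ * n * g)⁻¹ ∈ cz x ↔ n * (g * h * g⁻¹) * n⁻¹ ∈ cz y := by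
    rw [hg]
    have : g⁻¹ * (n * (g * h * g⁻¹) * n⁻¹) * g = g⁻¹ * n * g * h * (g⁻¹ * n * g)⁻¹ := by group
    rw [this]
  show h ∈ cz x ↔ g⁻¹ * n * g * h * (g⁻¹ * n * g)⁻¹ ∈ cz x
  rw [e1, e2]
  exact hn _

theorem XD.norm' (X : XD G p m r x) {y : G} (hy : NC p y) {n : G} (hn : n ∈ normalizer (cz y : Set G)) :
    ∃ k, n ^ r ^ k ∈ cz y := by
  obtain ⟨g, hg⟩ := X.conj_cz hy
  obtain ⟨k, hk⟩ := X.norm _ (norm_transfer hg hn)
  refine ⟨k, ?_⟩
  rw [hg]
  have h1 : (g⁻¹ * n * g) ^ r ^ k = g⁻¹ * n ^ r ^ k * g := by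
    have := conj_pow (i := r ^ k) (a := g⁻¹) (b := n)
    rwa [inv_inv] at this
  rwa [h1] at hk

/-- an element of order prime to `r` normalizing a centralizer lies in it. -/
theorem XD.mem_of_norm (X : XD G p m r x) {y : G} (hy : NC p y) {n : G} (hn : n ∈ normalizer (cz y : Set G))
    {s : ℕ} (hs : s.Prime) (hsr : s ≠ r) (hns : QEl s n) : n ∈ cz y := by
  obtain ⟨k, hk⟩ := X.norm' hy hn
  obtain ⟨j, hj⟩ := hns
  refine pow_coprime_mem hk (n := s ^ j) (by rw [hj]; exact (cz y).one_mem) ?_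
  exact Nat.coprime_pow_primes _ _ X.rp hs (Ne.symm hsr)

theorem XD.notW (X : XD G p m r x) (W : Subgroup G) [hWn : W.Normal]
    (hW : ∀ w ∈ W, (orderOf w).Coprime p → w ∈ center G) {y : G} (hy : NC p y)
    (h : ∀ g : G, ∃ w ∈ W, ∃ n ∈ normalizer (cz y : Set G), g = w * n) : False := by
  have : Fact r.Prime := ⟨X.rp⟩
  obtain ⟨g₁, hg₁⟩ := X.conj_cz hy
  have h' : ∀ g : G, ∃ w ∈ W, ∃ n ∈ normalizer (cz x : Set G), g = w * n := by
    intro g
    obtain ⟨w, hw, n, hn, he⟩ := h (g₁ * g * g₁⁻¹)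
    refine ⟨g₁⁻¹ * w * g₁, ?_, g₁⁻¹ * n * g₁, norm_transfer hg₁ hn, ?_⟩
    · have := hWn.conj_mem w hw g₁⁻¹
      rwa [inv_inv] at this
    · calc g = g₁⁻¹ * (g₁ * g * g₁⁻¹) * g₁ := by group
        _ = g₁⁻¹ * (w * n) * g₁ := by rw [he]
        _ = _ := by group
  obtain ⟨R, hxR, hR, hcom⟩ := X.exR
  obtain ⟨t, htR, htx⟩ := SetLike.not_le_iff_exists.1 hR
  have htr := sylow_qel R htR
  have htN : t ∈ normalizer (cz x : Set G) := mem_norm_of_comm X.toDat X.hx (hcom t htR)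
  have htn : NC p t := ⟨htr.coprime X.rp X.hp X.hrp, fun h1 => htx ((Subgroup.center_le_centralizer _) h1)⟩
  obtain ⟨g₂, hg₂⟩ := X.conj_cz htn
  obtain ⟨w, hw, n, hn, he⟩ := h' g₂
  have h1 := (hg₂ t).1 (self_mem_cz t)
  have h2 : w⁻¹ * t * w ∈ cz x := by
    rw [he] at h1
    have h3 := (Subgroup.mem_normalizer_iff.1 hn _).1 h1
    have h4 : n * ((w * n)⁻¹ * t * (w * n)) * n⁻¹ = w⁻¹ * t * w := by group
    rwa [h4] at h3
  have hkW : w⁻¹ * (t * w * t⁻¹) ∈ W := W.mul_mem (W.inv_mem hw) (hWn.conj_mem w hw t)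
  set k := w⁻¹ * (t * w * t⁻¹) with hk
  have hkt : k * t ∈ cz x := by
    have : k * t = w⁻¹ * t * w := by rw [hk]; group
    rw [this]; exact h2
  have hkN : k ∈ normalizer (cz x : Set G) := by
    have h3 : k = (k * t) * t⁻¹ := by group
    rw [h3]
    exact Subgroup.mul_mem _ (Subgroup.le_normalizer hkt) (Subgroup.inv_mem _ htN)
  obtain ⟨v, m', hm', hv⟩ := Nat.exists_eq_pow_mul_and_not_dvd (orderOf_pos k).ne' r X.rp.ne_one
  have hkr : QEl r (k ^ m') := ⟨v, by rw [← pow_mul, mul_comm, ← hv, pow_orderOf_eq_one]⟩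
  have hkc : k ^ m' ∈ cz x :=
    (Subgroup.center_le_centralizer _) (hW _ (W.pow_mem hkW _) (hkr.coprime X.rp X.hp X.hrp))
  let ρ := rho X.toDat X.hx
  have e1 : ρ ⟨k, hkN⟩ * ρ ⟨t, htN⟩ = 1 := by
    rw [← map_mul, rho_eq_one_iff]
    exact hkt
  have e2 : ρ ⟨k, hkN⟩ ^ m' = 1 := by
    rw [← map_pow, rho_eq_one_iff]
    exact hkc
  have e3 : ρ ⟨t, htN⟩ ^ m' = 1 := by
    rw [← inv_eq_of_mul_eq_one_right e1, inv_pow, e2, inv_one]
  have e4 : t ^ m' ∈ cz x := by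
    rw [← map_pow, rho_eq_one_iff] at e3
    exact e3
  obtain ⟨a, ha⟩ := htr
  apply htx
  refine pow_coprime_mem e4 (n := r ^ a) (by rw [ha]; exact (cz x).one_mem) ?_
  exact Nat.Coprime.pow_right a ((Nat.Prime.coprime_iff_not_dvd X.rp).2 hm').symm

/-- a solvable normal subgroup containing `x`. -/
theorem XD.exists_solvable (X : XD G p m r x) : ∃ Y : Subgroup G, Y.Normal ∧ Group.IsSolvable Y ∧ x ∈ Y := by
  have : Fact r.Prime := ⟨X.rp⟩
  let q := QuotientGroup.mk' (center G)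
  have hq : Function.Surjective q := QuotientGroup.mk'_surjective _
  obtain ⟨R, hxR, hR, hcom⟩ := X.exR
  have hle : cz x ≤ (centralizer ({q x} : Set (G ⧸ center G))).comap q := by
    intro g hg
    rw [Subgroup.mem_comap, Subgroup.mem_centralizer_singleton_iff, ← map_mul, mem_cz.1 hg, map_mul]
  have hRle : (R : Subgroup G) ≤ (centralizer ({q x} : Set (G ⧸ center G))).comap q := by
    intro u hu
    rw [Subgroup.mem_comap, Subgroup.mem_centralizer_singleton_iff]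
    have h1 : q ⁅x, u⁆ = 1 := (QuotientGroup.eq_one_iff _).2 (hcom u hu)
    rw [map_commutatorElement, commutatorElement_eq_one_iff_mul_comm] at h1
    exact h1.symm
  have hidx : (centralizer ({q x} : Set (G ⧸ center G))).index ∣ m := by
    rw [← Subgroup.index_comap_of_surjective _ hq, ← X.idx x X.hx]
    exact Subgroup.index_dvd_of_le hle
  have hex : ∃ k, (centralizer ({q x} : Set (G ⧸ center G))).index = p ^ k := by
    refine ⟨_, Nat.eq_prime_pow_of_unique_prime_dvd Subgroup.index_ne_zero_of_finite (fun {d} hd hd' => ?_)⟩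
    by_contra hdp
    by_cases hdr : d = r
    · subst hdr
      rw [← Subgroup.index_comap_of_surjective _ hq] at hd'
      exact R.not_dvd_index (hd'.trans (Subgroup.index_dvd_of_le hRle))
    · exact X.not_dvd hd hdp hdr (hd'.trans hidx)
  obtain ⟨k, hk⟩ := hex
  have hsol := Cfsg.Agent.H67.kazarin (q x) X.hp k (by rw [Cfsg.Agent.H67.ncard_carrier_eq_index, hk])
  let Y : Subgroup G := (normalClosure ({q x} : Set (G ⧸ center G))).comap q
  refine ⟨Y, inferInstance, ?_, ?_⟩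
  · -- extension
    let f : Y →* normalClosure ({q x} : Set (G ⧸ center G)) :=
      (q.comp Y.subtype).codRestrict _ (fun y => y.2)
    have h1 : f.ker ≤ center Y := by
      rintro ⟨y, hy⟩ hy1
      have h2 : q y = 1 := congrArg Subtype.val (MonoidHom.mem_ker.1 hy1)
      have h3 : y ∈ center G := (QuotientGroup.eq_one_iff y).1 h2
      rw [Subgroup.mem_center_iff]
      intro g
      exact Subtype.ext (Subgroup.mem_center_iff.1 h3 g)
    have hcs : Group.IsSolvable (center Y) := Group.isSolvable_of_comm (fun a b =>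
      Subtype.ext (Subgroup.mem_center_iff.1 b.2 a))
    exact Group.isSolvable_of_ker_le_range (center Y).subtype f (by rwa [(center Y).range_subtype])
  · exact Subgroup.subset_normalClosure (Set.mem_singleton _)

end Cfsg.Agent.H21.PR
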