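import Cfsg.Agent.H21.PRd
import Cfsg.Agent.Solv.MinNormal
import Cfsg.Agent.Solv.Core

set_option autoImplicit false

namespace Cfsg.Agent.H21.PR

open Subgroup
open scoped commutatorElement Pointwise

variable {G : Type*} [Group G] [Finite G] {p m r : ℕ} {x : G}

/-- data of the local subgroup `L` -/
structure LD (G : Type*) [Group G] (p l : ℕ) (W L : Subgroup G) : Prop where
  hW : ∀ w ∈ W, (orderOf w).Coprime p → w ∈ center G
  lp : l.Prime
  hlp : l ≠ p
  el : ∀ u ∈ L, QEl l u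
  com : ∀ u ∈ L, ∀ v ∈ L, ⁅u, v⁆ ∈ center G
  pw : ∀ u ∈ L, u ^ l ∈ center G
  nc : ¬ L ≤ center G
  fr : ∀ g : G, ∃ w ∈ W, ∃ n ∈ normalizer (L : Set G), g = w * n

theorem XD.exists_L (X : XD G p m r x) :
    ∃ (W : Subgroup G) (L : Subgroup G) (l : ℕ), W.Normal ∧ LD G p l W L := by
  obtain ⟨Y, hYn, hYs, hxY⟩ := X.exists_solvable
  -- maximal `W`
  have hfin : ({W : Subgroup G | W.Normal ∧ ∀ w ∈ W, (orderOf w).Coprime p → w ∈ center G} : Set (Subgroup G)).Finite :=
    Set.toFinite _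
  obtain ⟨W, hWm⟩ := hfin.exists_maximal ⟨⊥, inferInstance, by
    intro w hw _
    rw [Subgroup.mem_bot] at hw
    rw [hw]; exact Subgroup.one_mem _⟩
  obtain ⟨hWn, hWc⟩ := hWm.prop
  let q := QuotientGroup.mk' W
  have hq : Function.Surjective q := QuotientGroup.mk'_surjective _
  have hker : q.ker = W := QuotientGroup.ker_mk' W
  have hqW : ∀ g, q g = 1 ↔ g ∈ W := fun g => QuotientGroup.eq_one_iff g
  have hY1 : Y.map q ≠ ⊥ := by
    intro h1
    have h2 : q x ∈ Y.map q := ⟨x, hxY, rfl⟩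
    rw [h1, Subgroup.mem_bot, hqW] at h2
    exact X.hx.2 (hWc x h2 X.hx.1)
  have hYn' : (Y.map q).Normal := Subgroup.Normal.map hYn q hq
  obtain ⟨N, hNn, hNY, hN1, hNmin⟩ := Cfsg.Agent.Solv.exists_minimal_normal (Y.map q) hYn' hY1
  have hNs : Group.IsSolvable N := by
    have h1 : Group.IsSolvable (Y.map q) := by
      have : Group.IsSolvable Y := hYs
      exact Group.isSolvable_of_surjective (f := q.subgroupMap Y) (q.subgroupMap_surjective Y)
    exact Group.isSolvable_of_isSolvable_injective (f := Subgroup.inclusion hNY) (Subgroup.inclusion_injective hNY)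
  obtain ⟨hNc, l, hl, hNl⟩ := Cfsg.Agent.Solv.minimal_normal_of_solvable N hNs hN1 hNmin
  have : Fact l.Prime := ⟨hl⟩
  let M : Subgroup G := N.comap q
  have hMn : M.Normal := inferInstance
  have hWM : W ≤ M := by
    intro w hw
    rw [Subgroup.mem_comap, (hqW w).2 hw]
    exact N.one_mem
  have hMW : ¬ M ≤ W := by
    intro h1
    apply hN1
    rw [eq_bot_iff]
    intro n hn
    obtain ⟨g, rfl⟩ := hq n
    rw [Subgroup.mem_bot, hqW]
    exact h1 hn
  have hMc : ¬ ∀ w ∈ M, (orderOf w).Coprime p → w ∈ center G := by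
    intro h1
    exact hMW (hWm.le_of_ge ⟨hMn, h1⟩ hWM)
  have hMl : ∀ g ∈ M, g ^ l ∈ W := by
    intro g hg
    rw [← hqW, map_pow]
    exact hNl _ hg
  have hlp : l ≠ p := by
    rintro rfl
    apply hMc
    intro g hg hgo
    refine hWc g ?_ hgo
    exact pow_coprime_mem (hMl g hg) (n := orderOf g) (by rw [pow_orderOf_eq_one]; exact W.one_mem) hgo.symm
  obtain ⟨P⟩ : Nonempty (Sylow l M) := inferInstance
  let L : Subgroup G := (P : Subgroup M).map M.subtype
  have hLM : L ≤ M := by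
    rintro _ ⟨u, -, rfl⟩
    exact u.2
  have hLel : ∀ u ∈ L, QEl l u := by
    rintro _ ⟨u, hu, rfl⟩
    obtain ⟨k, hk⟩ := P.isPGroup' ⟨u, hu⟩
    exact ⟨k, congrArg Subtype.val (congrArg Subtype.val hk)⟩
  have hLW : ∀ u ∈ L, u ∈ W → u ∈ center G := fun u hu huW => hWc u huW ((hLel u hu).coprime hl X.hp hlp)
  -- `M = W L`
  have hWL : ∀ g ∈ M, ∃ w ∈ W, ∃ u ∈ L, g = w * u := by
    let f : M →* N := (q.comp M.subtype).codRestrict N (fun g => g.2)
    have hf : Function.Surjective f := by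
      rintro ⟨n, hn⟩
      obtain ⟨g, rfl⟩ := hq n
      exact ⟨⟨g, hn⟩, rfl⟩
    have hNp : IsPGroup l N := by
      rintro ⟨n, hn⟩
      exact ⟨1, Subtype.ext (by simpa using hNl n hn)⟩
    have hT := (P.mapSurjective hf).3 (Q := ⊤) (by
      rintro ⟨n, hn⟩
      obtain ⟨k, hk⟩ := hNp n
      exact ⟨k, Subtype.ext hk⟩) le_top
    intro g hg
    have h1 : f ⟨g, hg⟩ ∈ ((P.mapSurjective hf : Sylow l N) : Subgroup N) := by
      have h2 : f ⟨g, hg⟩ ∈ (⊤ : Subgroup N) := trivial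
      rw [hT] at h2
      exact h2
    rw [Sylow.coe_mapSurjective] at h1
    obtain ⟨u, hu, hu2⟩ := h1
    refine ⟨g * (u : G)⁻¹, ?_, u, ⟨u, hu, rfl⟩, by group⟩
    rw [← hqW, map_mul, map_inv, mul_inv_eq_one]
    exact (congrArg Subtype.val hu2).symm
  refine ⟨W, L, l, hWn, hWc, hl, hlp, hLel, ?_, ?_, ?_, ?_⟩
  · intro u hu v hv
    apply hLW
    · rw [commutatorElement_def]
      exact L.mul_mem (L.mul_mem (L.mul_mem hu hv) (L.inv_mem hu)) (L.inv_mem hv)
    · rw [← hqW, map_commutatorElement, commutatorElement_eq_one_iff_mul_comm]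
      have h1 := hNc.is_comm.comm ⟨q u, hLM hu⟩ ⟨q v, hLM hv⟩
      exact congrArg Subtype.val h1
  · intro u hu
    exact hLW _ (L.pow_mem hu l) (hMl u (hLM hu))
  · intro hLc
    apply hMc
    intro g hg hgo
    obtain ⟨w, hw, u, hu, rfl⟩ := hWL g hg
    have huc := hLc hu
    have h1 : (orderOf w).Coprime p := by
      have h2 : w = (w * u) * u⁻¹ := by group
      have h3 : Commute (w * u) u⁻¹ := (Subgroup.mem_center_iff.1 ((center G).inv_mem huc) (w * u))
      rw [h2]
      refine Nat.Coprime.coprime_dvd_left h3.orderOf_mul_dvd_mul_orderOf (Nat.Coprime.mul_left hgo ?_)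
      rw [orderOf_inv]
      exact (hLel u hu).coprime hl X.hp hlp
    exact (center G).mul_mem (hWc w hw h1) huc
  · intro g
    have h1 : g ∈ normalizer ((P : Subgroup M).map M.subtype : Set G) ⊔ M := by
      have h2 := P.normalizer_sup_eq_top
      have h3 : g ∈ (⊤ : Subgroup G) := trivial
      rw [← h2] at h3
      exact h3
    obtain ⟨n, hn, m', hm', rfl⟩ := Subgroup.mem_sup_of_normal_right.1 h1
    obtain ⟨w, hw, u, hu, rfl⟩ := hWL m' hm'
    refine ⟨n * w * n⁻¹, hWn.conj_mem w hw n, n * u, ?_, by group⟩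
    exact Subgroup.mul_mem _ hn (Subgroup.le_normalizer hu)

end Cfsg.Agent.H21.PR
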