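import Cfsg.Agent.H21.PRe

set_option autoImplicit false

namespace Cfsg.Agent.H21.PR

open Subgroup
open scoped commutatorElement Pointwise

variable {G : Type*} [Group G] [Finite G] {p m r : ℕ} {x : G}

theorem lift_part {Q : Type*} [Group Q] (q : G →* Q) {s : ℕ} (hs : s.Prime) {g c : G} (hc : QEl s c)
    (h : q g = q c) : ∃ k : ℕ, QEl s (g ^ k) ∧ q (g ^ k) = q c := by
  obtain ⟨e, he⟩ := hc
  obtain ⟨v, m', hm', hv⟩ := Nat.exists_eq_pow_mul_and_not_dvd (orderOf_pos g).ne' s hs.ne_one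
  have hcop : Nat.Coprime (s ^ e) m' := Nat.Coprime.pow_left e ((Nat.Prime.coprime_iff_not_dvd hs).2 hm')
  obtain ⟨t, ht1, ht2⟩ := Nat.chineseRemainder hcop 1 0
  refine ⟨t, ⟨v, ?_⟩, ?_⟩
  · rw [← pow_mul]
    apply orderOf_dvd_iff_pow_eq_one.1
    rw [hv, mul_comm t]
    exact Nat.mul_dvd_mul_left _ ((Nat.modEq_zero_iff_dvd).1 ht2)
  · rw [map_pow, h, ← map_pow]
    congr 1
    have h1 : c ^ t = c ^ 1 := by
      rw [pow_eq_pow_iff_modEq]
      exact ht1.of_dvd (orderOf_dvd_of_pow_eq_one he)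
    rw [h1, pow_one]

omit [Finite G] in
theorem exists_pow_eq {a c : G} {r s : ℕ} (hr : r.Prime) (hs : s.Prime) (hrs : r ≠ s) (ha : QEl r a) (hc : QEl s c)
    (hac : a * c = c * a) : ∃ i : ℕ, (a * c) ^ i = c := by
  obtain ⟨e, he⟩ := hc
  obtain ⟨f, hf⟩ := ha
  have hcop : Nat.Coprime (s ^ e) (r ^ f) := Nat.coprime_pow_primes _ _ hs hr (Ne.symm hrs)
  obtain ⟨t, ht1, ht2⟩ := Nat.chineseRemainder hcop 1 0
  refine ⟨t, ?_⟩
  rw [(show Commute a c from hac).mul_pow]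
  have h1 : c ^ t = c ^ 1 := by
    rw [pow_eq_pow_iff_modEq]
    exact ht1.of_dvd (orderOf_dvd_of_pow_eq_one he)
  have h2 : a ^ t = 1 := by
    apply orderOf_dvd_iff_pow_eq_one.1
    exact (orderOf_dvd_of_pow_eq_one hf).trans ((Nat.modEq_zero_iff_dvd).1 ht2)
  rw [h1, h2, pow_one, one_mul]

omit [Finite G] in
theorem comm_of_d {c u : G} {r s : ℕ} (hr : r.Prime) (hs : s.Prime) (hrs : r ≠ s) (hc : QEl s c)
    (hd : QEl r (c * u * c⁻¹ * u⁻¹)) (hcd : c * (c * u * c⁻¹ * u⁻¹) = (c * u * c⁻¹ * u⁻¹) * c) : c * u = u * c := by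
  set d := c * u * c⁻¹ * u⁻¹ with hdd
  have h1 : c * u * c⁻¹ = d * u := by rw [hdd]; group
  have h2 : ∀ n : ℕ, c ^ n * u * (c ^ n)⁻¹ = d ^ n * u := by
    intro n
    induction n with
    | zero => simp
    | succ n ih =>
      have h3 : c * d ^ n = d ^ n * c := (Commute.pow_right (show Commute c d from hcd) n).eq
      calc c ^ (n + 1) * u * (c ^ (n + 1))⁻¹ = c * (c ^ n * u * (c ^ n)⁻¹) * c⁻¹ := by
            rw [pow_succ']; group
        _ = c * (d ^ n * u) * c⁻¹ := by rw [ih]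
        _ = (c * d ^ n) * u * c⁻¹ := by group
        _ = d ^ n * (c * u * c⁻¹) := by rw [h3]; group
        _ = d ^ n * (d * u) := by rw [h1]
        _ = _ := by rw [pow_succ]; group
  obtain ⟨j, hj⟩ := hc
  obtain ⟨k, hk⟩ := hd
  have h3 := h2 (s ^ j)
  rw [hj] at h3
  have h4 : d ^ s ^ j = 1 := by
    have h5 : u = d ^ s ^ j * u := by
      rw [← h3]; group
    exact (mul_eq_right.1 h5.symm)
  have h5 : d ∈ (⊥ : Subgroup G) :=
    pow_coprime_mem (K := ⊥) (by rw [hk]; exact Subgroup.one_mem _) (by rw [h4]; exact Subgroup.one_mem _)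
      (Nat.coprime_pow_primes k j hr hs hrs)
  rw [Subgroup.mem_bot] at h5
  rw [h5, one_mul, mul_inv_eq_iff_eq_mul] at h1
  exact h1

theorem XD.grid3 (X : XD G p m r x) {y : G} (hy : NC p y) {e1 e2 : G} (h1 : e1 ∈ normalizer (cz y : Set G))
    (h2 : e2 ∈ normalizer (cz y : Set G)) (h1r : e1 ^ r ∈ cz y) (h2r : e2 ^ r ∈ cz y) (hc : ⁅e1, e2⁆ ∈ cz y)
    (hne : e2 ∉ cz y) : ∃ i : ℤ, e1 * e2 ^ i ∈ cz y := by
  have : Fact r.Prime := ⟨X.rp⟩
  obtain ⟨s, hs, hsp, hsr, w, hw, hwc⟩ := X.other r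
  have : Fact s.Prime := ⟨hs⟩
  obtain ⟨c, hcy, hcs, hcc⟩ := X.full hsp hw hwc hy
  let ρ := rho X.toDat hy
  let f1 : ρ.range := ⟨ρ ⟨e1, h1⟩, ⟨_, rfl⟩⟩
  let f2 : ρ.range := ⟨ρ ⟨e2, h2⟩, ⟨_, rfl⟩⟩
  have hf1 : f1 ^ r = 1 := by
    apply Subtype.ext
    show ρ ⟨e1, h1⟩ ^ r = 1
    rw [← map_pow, rho_eq_one_iff]
    exact h1r
  have hf2 : f2 ^ r = 1 := by
    apply Subtype.ext
    show ρ ⟨e2, h2⟩ ^ r = 1
    rw [← map_pow, rho_eq_one_iff]
    exact h2r
  have hf : f1 * f2 = f2 * f1 := by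
    apply Subtype.ext
    show ρ ⟨e1, h1⟩ * ρ ⟨e2, h2⟩ = ρ ⟨e2, h2⟩ * ρ ⟨e1, h1⟩
    have h3 : ρ ⁅(⟨e1, h1⟩ : normalizer (cz y : Set G)), ⟨e2, h2⟩⁆ = 1 := by
      rw [rho_eq_one_iff]
      exact hc
    rwa [map_commutatorElement, commutatorElement_eq_one_iff_mul_comm] at h3
  have hf2' : f2 ≠ 1 := by
    intro h3
    apply hne
    exact (rho_eq_one_iff X.toDat hy _).1 (congrArg Subtype.val h3)
  by_contra hcon
  have hnz : f1 ∉ zpowers f2 := by
    intro h3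
    obtain ⟨i, hi⟩ := Subgroup.mem_zpowers_iff.1 h3
    apply hcon
    refine ⟨-i, ?_⟩
    have h4 : ρ ⟨e2, h2⟩ ^ i = ρ ⟨e1, h1⟩ := congrArg Subtype.val hi
    have h5 : ρ (⟨e1, h1⟩ * (⟨e2, h2⟩ : normalizer (cz y : Set G)) ^ (-i)) = 1 := by
      rw [map_mul, map_zpow, zpow_neg, h4, mul_inv_cancel]
    exact (rho_eq_one_iff X.toDat hy _).1 h5
  have h3 := (fixHyp X.toDat hy).F3 hf1 hf2 hf hf2' hnz ⟨c, hcy, hcs.coprime hs X.hp hsp⟩
  apply hcc
  obtain ⟨e, he⟩ := hcs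
  refine pow_coprime_mem (K := center G) (m := r) (n := s ^ e) (Subgroup.mem_subgroupOf.1 h3)
    (by rw [he]; exact Subgroup.one_mem _) ?_
  exact Nat.Coprime.pow_right e ((Nat.coprime_primes X.rp hs).2 (Ne.symm hsr))

theorem mem_center_iff_comm_map {g b : G} :
    ⁅g, b⁆ ∈ center G ↔ QuotientGroup.mk' (center G) g * QuotientGroup.mk' (center G) b =
      QuotientGroup.mk' (center G) b * QuotientGroup.mk' (center G) g := by
  rw [← commutatorElement_eq_one_iff_mul_comm, ← map_commutatorElement]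
  exact (QuotientGroup.eq_one_iff _).symm

/-- two elements inducing the same commutator with `y` -/
theorem comm_d {y c u z : G} (hz : z ∈ center G) (h1 : y * u = z * (u * y)) (hcy : y * (c * u * c⁻¹) = z * (c * u * c⁻¹ * y)) :
    (c * u * c⁻¹ * u⁻¹) * y = y * (c * u * c⁻¹ * u⁻¹) := by
  have hzc := Subgroup.mem_center_iff.1 hz
  have h2 : y * u⁻¹ = z⁻¹ * (u⁻¹ * y) := by
    have h3 : u⁻¹ * y = z * (y * u⁻¹) := by
      calc u⁻¹ * y = u⁻¹ * (y * u) * u⁻¹ := by group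
        _ = u⁻¹ * (z * (u * y)) * u⁻¹ := by rw [h1]
        _ = (u⁻¹ * z) * u * y * u⁻¹ := by group
        _ = (z * u⁻¹) * u * y * u⁻¹ := by rw [hzc]
        _ = _ := by group
    rw [h3]; group
  calc (c * u * c⁻¹ * u⁻¹) * y = z⁻¹ * (z * (c * u * c⁻¹ * y)) * (y⁻¹ * u⁻¹ * y) := by group
    _ = z⁻¹ * (y * (c * u * c⁻¹)) * (y⁻¹ * u⁻¹ * y) := by rw [hcy]
    _ = z⁻¹ * y * (c * u * c⁻¹) * y⁻¹ * (u⁻¹ * y) := by group
    _ = z⁻¹ * y * (c * u * c⁻¹) * y⁻¹ * (z * (z⁻¹ * (u⁻¹ * y))) := by group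
    _ = z⁻¹ * y * (c * u * c⁻¹) * y⁻¹ * (z * (y * u⁻¹)) := by rw [h2]
    _ = z⁻¹ * ((y * (c * u * c⁻¹) * y⁻¹) * z) * (y * u⁻¹) := by group
    _ = z⁻¹ * (z * (y * (c * u * c⁻¹) * y⁻¹)) * (y * u⁻¹) := by rw [hzc]
    _ = _ := by group

theorem XD.false (X : XD G p m r x) : False := by
  have : Fact r.Prime := ⟨X.rp⟩
  obtain ⟨W, L, l, hWn, D⟩ := X.exists_L
  have : Fact l.Prime := ⟨D.lp⟩
  have hnc : ∀ u ∈ L, u ∉ center G → NC p u := fun u hu h => ⟨(D.el u hu).coprime D.lp X.hp D.hlp, h⟩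
  obtain ⟨y₀, hy₀L, hy₀c⟩ := SetLike.not_le_iff_exists.1 D.nc
  have hy₀ := hnc y₀ hy₀L hy₀c
  -- `L` is not abelian
  have hna : ¬ ∀ u ∈ L, ∀ v ∈ L, u * v = v * u := by
    intro hab
    refine X.notW W D.hW hy₀ ?_
    intro g
    obtain ⟨w, hw, n, hn, he⟩ := D.fr g
    refine ⟨w, hw, n, ?_, he⟩
    have h1 := (Subgroup.mem_normalizer_iff.1 hn y₀).1 hy₀L
    exact mem_norm_of_conj X.toDat hy₀ hy₀ (self_mem_cz y₀) (mem_cz.2 (hab _ h1 _ hy₀L))
  have hlr : l = r := by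
    by_contra hlr
    have hlm := X.not_dvd D.lp D.hlp hlr
    apply hna
    -- a Sylow `l`-subgroup of `G` inside `cz y₀`
    obtain ⟨P⟩ : Nonempty (Sylow l (cz y₀)) := inferInstance
    have hP' : IsPGroup l ((P : Subgroup (cz y₀)).map (cz y₀).subtype : Subgroup G) := P.isPGroup'.map _
    have hPi : ¬ l ∣ ((P : Subgroup (cz y₀)).map (cz y₀).subtype : Subgroup G).index := by
      rw [Subgroup.index_map, (cz y₀).ker_subtype, sup_bot_eq, (cz y₀).range_subtype, X.idx y₀ hy₀]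
      intro h
      rcases (Nat.Prime.dvd_mul D.lp).1 h with h4 | h4
      · exact P.not_dvd_index h4
      · exact hlm h4
    have hLp : IsPGroup l L := by
      rintro ⟨u, hu⟩
      obtain ⟨k, hk⟩ := D.el u hu
      exact ⟨k, Subtype.ext hk⟩
    obtain ⟨T, hT⟩ := hLp.exists_le_sylow
    obtain ⟨g, hg⟩ := MulAction.exists_smul_eq G (hP'.toSylow hPi) T
    have hconj : ∀ u ∈ L, g⁻¹ * u * g ∈ cz y₀ := by
      intro u hu
      have hcT : u ∈ T := hT hu
      rw [← hg] at hcT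
      have h1 : u ∈ (g • (hP'.toSylow hPi : Sylow l G) : Sylow l G) := hcT
      rw [Sylow.smul_def] at h1
      have h2 : u ∈ (MulAut.conj g • ((hP'.toSylow hPi : Sylow l G) : Subgroup G) : Subgroup G) := h1
      rw [Subgroup.mem_pointwise_smul_iff_inv_smul_mem] at h2
      have h3 : (MulAut.conj g)⁻¹ • u = g⁻¹ * u * g := by
        rw [← map_inv]
        simp [MulAut.smul_def]
      rw [h3, IsPGroup.toSylow_coe] at h2
      obtain ⟨y', -, hy'⟩ := h2
      rw [← hy']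
      exact y'.2
    intro u hu v hv
    have h1 : QEl l (g⁻¹ * u * g) := by
      have := (D.el u hu).conj g⁻¹
      rwa [inv_inv] at this
    have h2 := X.comm hy₀ (h1.coprime D.lp X.hp D.hlp) (hconj u hu) (hconj v hv)
    calc u * v = g * ((g⁻¹ * u * g) * (g⁻¹ * v * g)) * g⁻¹ := by group
      _ = g * ((g⁻¹ * v * g) * (g⁻¹ * u * g)) * g⁻¹ := by rw [h2]
      _ = _ := by group
  subst hlr
  -- noncommuting pairs generate
  have hLnorm : ∀ y ∈ L, ∀ u ∈ L, u ∈ normalizer (cz y : Set G) := by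
    intro y hy u hu
    by_cases hyc : y ∈ center G
    · have : cz y = ⊤ := by
        rw [eq_top_iff]
        intro g _
        rw [mem_cz]
        exact Subgroup.mem_center_iff.1 hyc g
      rw [this]
      have h2 : normalizer ((⊤ : Subgroup G) : Set G) = ⊤ := Subgroup.normalizer_eq_top _
      rw [h2]; trivial
    · exact mem_norm_of_comm X.toDat (hnc y hy hyc) (D.com y hy u hu)
  have hgen : ∀ y ∈ L, ∀ y' ∈ L, y' ∉ cz y → ∀ u ∈ L, ∃ i j : ℤ, u * y' ^ i * y ^ j ∈ center G := by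
    intro y hy y' hy' hne u hu
    have hyc : y ∉ center G := by
      intro h
      apply hne
      rw [mem_cz]
      exact Subgroup.mem_center_iff.1 h y'
    have hyc' : y' ∉ center G := fun h => hne ((Subgroup.center_le_centralizer _) h)
    have hny := hnc y hy hyc
    have hny' := hnc y' hy' hyc'
    have hcz : ∀ z : G, center G ≤ cz z := fun z => Subgroup.center_le_centralizer _
    obtain ⟨i, hi⟩ := X.grid3 hny (hLnorm y hy u hu) (hLnorm y hy y' hy') (hcz _ (D.pw u hu)) (hcz _ (D.pw y' hy'))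
      (hcz _ (D.com u hu y' hy')) hne
    have hu1 : u * y' ^ i ∈ L := L.mul_mem hu (L.zpow_mem hy' i)
    have hne' : y ∉ cz y' := fun h => hne (mem_cz_comm h)
    obtain ⟨j, hj⟩ := X.grid3 hny' (hLnorm y' hy' _ hu1) (hLnorm y' hy' y hy) (hcz _ (D.pw _ hu1)) (hcz _ (D.pw y hy))
      (hcz _ (D.com _ hu1 y hy)) hne'
    refine ⟨i, j, ?_⟩
    by_contra hcon
    have hu2 : u * y' ^ i * y ^ j ∈ L := L.mul_mem hu1 (L.zpow_mem hy j)
    have hn2 := hnc _ hu2 hcon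
    have h1 : u * y' ^ i * y ^ j ∈ cz y := (cz y).mul_mem hi ((cz y).zpow_mem (self_mem_cz y) j)
    have e1 := X.K1 hny hn2 (mem_cz.1 h1).symm
    have e2 := X.K1 hny' hn2 (mem_cz.1 hj).symm
    apply hne
    rw [e1, ← e2]
    exact self_mem_cz y'
  -- the elements `b`, `c`
  obtain ⟨s, hs, hsp, hsr, w₀, hw₀, hw₀c⟩ := X.other l
  have : Fact s.Prime := ⟨hs⟩
  obtain ⟨c₀, hc₀x, hc₀s, hc₀c⟩ := X.full hsp hw₀ hw₀c X.hx
  have hxc : x * c₀ = c₀ * x := (mem_cz.1 hc₀x).symm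
  obtain ⟨ic, hic⟩ := exists_pow_eq X.rp hs (Ne.symm hsr) X.hxr hc₀s hxc
  obtain ⟨ib, hib⟩ := exists_pow_eq hs X.rp hsr hc₀s X.hxr hxc.symm
  rw [← hxc] at hib
  obtain ⟨w, hw, n, hn, he⟩ := D.fr (x * c₀)
  let q := QuotientGroup.mk' W
  have hqW : ∀ g, q g = 1 ↔ g ∈ W := fun g => QuotientGroup.eq_one_iff g
  have hqn : q n = q (x * c₀) := by
    rw [he, map_mul, (hqW w).2 hw, one_mul]
  obtain ⟨kc, hkc1, hkc2⟩ := lift_part q hs (g := n ^ ic) (c := c₀) hc₀s (by rw [map_pow, hqn, ← map_pow, hic])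
  obtain ⟨kb, hkb1, hkb2⟩ := lift_part q X.rp (g := n ^ ib) (c := x) X.hxr (by rw [map_pow, hqn, ← map_pow, hib])
  set c := (n ^ ic) ^ kc with hc
  set b := (n ^ ib) ^ kb with hb
  have hcb : c * b = b * c := by
    rw [hc, hb, ← pow_mul, ← pow_mul, ← pow_add, ← pow_add, add_comm]
  have hcN : c ∈ normalizer (L : Set G) := Subgroup.pow_mem _ (Subgroup.pow_mem _ hn _) _
  have hbN : b ∈ normalizer (L : Set G) := Subgroup.pow_mem _ (Subgroup.pow_mem _ hn _) _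
  have key : ∀ (q' : ℕ), q'.Prime → q' ≠ p → ∀ c c₀ : G, QEl q' c → QEl q' c₀ → q c = q c₀ → c₀ ∉ center G → c ∉ center G := by
    intro q' hq' hq'p c c₀ h1 h2 h3 h4 h5
    apply h4
    have h6 : c⁻¹ * c₀ ∈ W := by
      rw [← hqW, map_mul, map_inv, h3, inv_mul_cancel]
    have h7 : c⁻¹ * c₀ = c₀ * c⁻¹ := (Subgroup.mem_center_iff.1 ((center G).inv_mem h5) c₀).symm
    have h8 := D.hW _ h6 ((h1.inv.mul h2 h7).coprime hq' X.hp hq'p)
    have h9 : c₀ = c * (c⁻¹ * c₀) := by group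
    rw [h9]
    exact (center G).mul_mem h5 h8
  have hcc : c ∉ center G := key s hs hsp c c₀ hkc1 hc₀s hkc2 hc₀c
  have hbc : b ∉ center G := key l X.rp X.hrp b x hkb1 X.hxr hkb2 X.hx.2
  have hcn : NC p c := ⟨hkc1.coprime hs X.hp hsp, hcc⟩
  have hbn : NC p b := ⟨hkb1.coprime X.rp X.hp X.hrp, hbc⟩
  have hcLconj : ∀ u ∈ L, c * u * c⁻¹ ∈ L := fun u hu => (Subgroup.mem_normalizer_iff.1 hcN u).1 hu
  -- `y ∈ L` with `[y, b]` central
  have hyb : ∃ y ∈ L, y ∉ center G ∧ ⁅y, b⁆ ∈ center G := by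
    let qz := QuotientGroup.mk' (center G)
    have hqz : ∀ g, qz g = 1 ↔ g ∈ center G := fun g => QuotientGroup.eq_one_iff g
    have hLp : IsPGroup l L := by
      rintro ⟨u, hu⟩
      obtain ⟨k, hk⟩ := D.el u hu
      exact ⟨k, Subtype.ext hk⟩
    have hBp : IsPGroup l (L ⊔ zpowers b : Subgroup G) := by
      refine IsPGroup.to_sup_of_normal_left' hLp (zpowers_isPGroup hkb1) ?_
      rw [Subgroup.zpowers_le]
      exact hbN
    have hB'p : IsPGroup l ((L ⊔ zpowers b : Subgroup G).map qz) := hBp.map _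
    have hnil : Group.IsNilpotent ((L ⊔ zpowers b : Subgroup G).map qz) := hB'p.isNilpotent
    let N : Subgroup ((L ⊔ zpowers b : Subgroup G).map qz) := (L.map qz).subgroupOf _
    have hNn : N.Normal := by
      constructor
      rintro ⟨n, hn⟩ hnN ⟨g, hg⟩
      rw [Subgroup.mem_subgroupOf] at hnN ⊢
      obtain ⟨u, hu, rfl⟩ := hnN
      obtain ⟨g', hg', rfl⟩ := hg
      have h1 : g' ∈ normalizer (L : Set G) := by
        have h2 : L ⊔ zpowers b ≤ normalizer (L : Set G) := sup_le Subgroup.le_normalizer (Subgroup.zpowers_le.2 hbN)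
        exact h2 hg'
      refine ⟨g' * u * g'⁻¹, (Subgroup.mem_normalizer_iff.1 h1 u).1 hu, ?_⟩
      simp
    have hN1 : N ≠ ⊥ := by
      intro h1
      apply hy₀c
      have h2 : (⟨qz y₀, ⟨y₀, (le_sup_left : L ≤ _) hy₀L, rfl⟩⟩ : (L ⊔ zpowers b : Subgroup G).map qz) ∈ N := by
        rw [Subgroup.mem_subgroupOf]
        exact ⟨y₀, hy₀L, rfl⟩
      rw [h1, Subgroup.mem_bot] at h2
      exact (hqz y₀).1 (congrArg Subtype.val h2)
    have h1 := Cfsg.Agent.Solv.inf_center_ne_bot_of_nilpotent N hN1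
    obtain ⟨⟨⟨v, hv⟩, hvN, hvc⟩, hv1⟩ := (Subgroup.ne_bot_iff_exists_ne_one).1 h1
    obtain ⟨y, hyL, hyv⟩ := Subgroup.mem_subgroupOf.1 hvN
    refine ⟨y, hyL, ?_, ?_⟩
    · intro h2
      apply hv1
      apply Subtype.ext
      apply Subtype.ext
      show v = 1
      have h3 : qz y = v := hyv
      rw [← h3]
      exact (hqz y).2 h2
    · rw [mem_center_iff_comm_map]
      have h2 := Subgroup.mem_center_iff.1 hvc ⟨qz b, ⟨b, (le_sup_right : zpowers b ≤ _) (Subgroup.mem_zpowers b), rfl⟩⟩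
      have h3 : qz b * v = v * qz b := congrArg Subtype.val h2
      have h4 : qz y = v := hyv
      rw [← h4] at h3
      exact h3.symm
  obtain ⟨y, hyL, hyc, hyb⟩ := hyb
  have hyn := hnc y hyL hyc
  have dL : ∀ u ∈ L, c * u * c⁻¹ * u⁻¹ ∈ L := fun u hu => L.mul_mem (hcLconj u hu) (L.inv_mem hu)
  have hcz' : ∀ {a u : G}, a * u = ⁅a, u⁆ * (u * a) := by
    intro a u; rw [commutatorElement_def]; group
  by_cases hall : ∀ u ∈ L, ⁅u, b⁆ ∈ center G
  · -- case B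
    have hall' : ∀ u ∈ L, ⁅b, u⁆ ∈ center G := by
      intro u hu
      rw [← commutatorElement_inv]
      exact (center G).inv_mem (hall u hu)
    have hcb' : cz b = cz c := X.K1 hbn hcn hcb.symm
    apply hna
    have hLc : ∀ u ∈ L, u ∈ cz c := by
      intro u hu
      have h1 : (c * u * c⁻¹ * u⁻¹) * b = b * (c * u * c⁻¹ * u⁻¹) := by
        refine comm_d (z := ⁅b, u⁆) (hall' u hu) hcz' ?_
        have hzc := Subgroup.mem_center_iff.1 (hall' u hu)
        have hbc' : b * c⁻¹ = c⁻¹ * b := by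
          calc b * c⁻¹ = c⁻¹ * (c * b) * c⁻¹ := by group
            _ = c⁻¹ * (b * c) * c⁻¹ := by rw [hcb]
            _ = _ := by group
        calc b * (c * u * c⁻¹) = (b * c) * u * c⁻¹ := by group
          _ = c * (b * u) * c⁻¹ := by rw [← hcb]; group
          _ = c * (⁅b, u⁆ * (u * b)) * c⁻¹ := by rw [← hcz']
          _ = (c * ⁅b, u⁆) * u * (b * c⁻¹) := by group
          _ = (⁅b, u⁆ * c) * u * (c⁻¹ * b) := by rw [hzc, hbc']
          _ = _ := by group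
      have h2 : (c * u * c⁻¹ * u⁻¹) ∈ cz c := by
        rw [← hcb', mem_cz]; exact h1
      rw [mem_cz]
      exact (comm_of_d X.rp hs (Ne.symm hsr) hkc1 (D.el _ (dL u hu)) (mem_cz.1 h2).symm).symm
    intro u hu v hv
    exact X.comm hcn ((D.el u hu).coprime D.lp X.hp D.hlp) (hLc u hu) (hLc v hv)
  · -- case A
    push Not at hall
    obtain ⟨u, hu, hub⟩ := hall
    have hyconj : c * y * c⁻¹ ∈ cz y := by
      by_contra hne
      obtain ⟨i, j, hij⟩ := hgen y hyL _ (hcLconj y hyL) hne u hu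
      apply hub
      rw [mem_center_iff_comm_map]
      let qz := QuotientGroup.mk' (center G)
      have hqz : ∀ g, qz g = 1 ↔ g ∈ center G := fun g => QuotientGroup.eq_one_iff g
      have h1 : qz y * qz b = qz b * qz y := mem_center_iff_comm_map.1 hyb
      have h2 : qz (c * y * c⁻¹) * qz b = qz b * qz (c * y * c⁻¹) := by
        have h3 : qz c * qz b = qz b * qz c := by rw [← map_mul, hcb, map_mul]
        have h4 : (qz c)⁻¹ * qz b = qz b * (qz c)⁻¹ := by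
          calc (qz c)⁻¹ * qz b = (qz c)⁻¹ * (qz b * qz c) * (qz c)⁻¹ := by group
            _ = (qz c)⁻¹ * (qz c * qz b) * (qz c)⁻¹ := by rw [h3]
            _ = _ := by group
        rw [map_mul, map_mul, map_inv]
        calc qz c * qz y * (qz c)⁻¹ * qz b = qz c * qz y * ((qz c)⁻¹ * qz b) := by group
          _ = qz c * qz y * (qz b * (qz c)⁻¹) := by rw [h4]
          _ = qz c * (qz y * qz b) * (qz c)⁻¹ := by group
          _ = qz c * (qz b * qz y) * (qz c)⁻¹ := by rw [h1]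
          _ = (qz c * qz b) * qz y * (qz c)⁻¹ := by group
          _ = (qz b * qz c) * qz y * (qz c)⁻¹ := by rw [h3]
          _ = _ := by group
      have h5 : qz u = (qz y ^ j)⁻¹ * (qz (c * y * c⁻¹) ^ i)⁻¹ := by
        have h6 : qz (u * (c * y * c⁻¹) ^ i * y ^ j) = 1 := (hqz _).2 hij
        rw [map_mul, map_mul, map_zpow, map_zpow] at h6
        have h7 := mul_eq_one_iff_eq_inv.1 h6
        calc qz u = (qz u * qz (c * y * c⁻¹) ^ i) * (qz (c * y * c⁻¹) ^ i)⁻¹ := by group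
          _ = _ := by rw [h7]
      show qz u * qz b = qz b * qz u
      rw [h5]
      have c1 : Commute ((qz y ^ j)⁻¹) (qz b) := ((show Commute (qz y) (qz b) from h1).zpow_left j).inv_left
      have c2 : Commute ((qz (c * y * c⁻¹) ^ i)⁻¹) (qz b) :=
        ((show Commute (qz (c * y * c⁻¹)) (qz b) from h2).zpow_left i).inv_left
      exact (c1.mul_left c2).eq
    have hcNy : c ∈ normalizer (cz y : Set G) := mem_norm_of_conj X.toDat hyn hyn (self_mem_cz y) hyconj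
    have hccy : c ∈ cz y := X.mem_of_norm hyn hcNy hs hsr hkc1
    have hcy' : c * y = y * c := mem_cz.1 hccy
    have hyc' : cz y = cz c := X.K1 hyn hcn hcy'.symm
    apply hna
    have hLc : ∀ u ∈ L, u ∈ cz c := by
      intro u hu
      have h1 : (c * u * c⁻¹ * u⁻¹) * y = y * (c * u * c⁻¹ * u⁻¹) := by
        refine comm_d (z := ⁅y, u⁆) (D.com y hyL u hu) hcz' ?_
        have hzc := Subgroup.mem_center_iff.1 (D.com y hyL u hu)
        have hbc' : y * c⁻¹ = c⁻¹ * y := by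
          calc y * c⁻¹ = c⁻¹ * (c * y) * c⁻¹ := by group
            _ = c⁻¹ * (y * c) * c⁻¹ := by rw [hcy']
            _ = _ := by group
        calc y * (c * u * c⁻¹) = (y * c) * u * c⁻¹ := by group
          _ = c * (y * u) * c⁻¹ := by rw [← hcy']; group
          _ = c * (⁅y, u⁆ * (u * y)) * c⁻¹ := by rw [← hcz']
          _ = (c * ⁅y, u⁆) * u * (y * c⁻¹) := by group
          _ = (⁅y, u⁆ * c) * u * (c⁻¹ * y) := by rw [hzc, hbc']
          _ = _ := by group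
      have h2 : (c * u * c⁻¹ * u⁻¹) ∈ cz c := by
        rw [← hyc', mem_cz]; exact h1
      rw [mem_cz]
      exact (comm_of_d X.rp hs (Ne.symm hsr) hkc1 (D.el _ (dL u hu)) (mem_cz.1 h2).symm).symm
    intro u hu v hv
    exact X.comm hcn ((D.el u hu).coprime D.lp X.hp D.hlp) (hLc u hu) (hLc v hv)

end Cfsg.Agent.H21.PR
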