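import Cfsg.Agent.H21.SqField

/-! 2-groups with an involutory automorphism whose fixed points form a line for a Singer cycle: first steps. -/

set_option autoImplicit false

namespace Cfsg.Agent.H21.SI

universe u v

/-- the setup: `α` an involutory automorphism, the fixed points have a coordinate in `F` on which `ρ` is
multiplication by `lam` -/
structure Cfg (T : Type u) [Group T] (F : Type v) [Field F] (lam : F) where
  α : T →* T
  ρ : T →* T
  invol : ∀ x, α (α x) = x
  comm : ∀ x, α (ρ x) = ρ (α x)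
  ε : T → F
  ε_mul : ∀ x y, α x = x → α y = y → ε (x * y) = ε x + ε y
  ε_inj : ∀ x, α x = x → ε x = 0 → x = 1
  ε_surj : ∀ s, ∃ x, α x = x ∧ ε x = s
  ε_ρ : ∀ x, α x = x → ε (ρ x) = lam * ε x

variable {T : Type u} [Group T] {F : Type v} [Field F] {lam : F}

/-- `lam` generates the multiplicative group -/
def Gen (lam : F) : Prop := ∀ s : F, s ≠ 0 → ∃ k : ℕ, lam ^ k = s

namespace Cfg

variable (D : Cfg T F lam)

theorem ε_one : D.ε 1 = 0 := by
  have := D.ε_mul 1 1 (map_one _) (map_one _)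
  rw [mul_one] at this
  exact left_eq_add.1 this

theorem fix_mul {x y : T} (hx : D.α x = x) (hy : D.α y = y) : D.α (x * y) = x * y := by rw [map_mul, hx, hy]

theorem fix_inv {x : T} (hx : D.α x = x) : D.α x⁻¹ = x⁻¹ := by rw [map_inv, hx]

theorem ε_inv {x : T} (hx : D.α x = x) : D.ε x⁻¹ = - D.ε x := by
  have := D.ε_mul x x⁻¹ hx (D.fix_inv hx)
  rw [mul_inv_cancel, D.ε_one] at this
  exact (neg_eq_of_add_eq_zero_right this.symm).symm

theorem eq_of_ε {x y : T} (hx : D.α x = x) (hy : D.α y = y) (h : D.ε x = D.ε y) : x = y := by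
  have h1 := D.ε_mul x y⁻¹ hx (D.fix_inv hy)
  rw [D.ε_inv hy, h, add_neg_cancel] at h1
  exact mul_inv_eq_one.1 (D.ε_inj _ (D.fix_mul hx (D.fix_inv hy)) h1)

theorem fix_sq [CharP F 2] {x : T} (hx : D.α x = x) : x * x = 1 := by
  apply D.ε_inj _ (D.fix_mul hx hx)
  rw [D.ε_mul _ _ hx hx, CharTwo.add_self_eq_zero]

theorem fix_ρ {x : T} (hx : D.α x = x) : D.α (D.ρ x) = D.ρ x := by rw [D.comm, hx]

theorem iter (hl : Gen lam) {x : T} (hx : D.α x = x) (hx1 : x ≠ 1) {y : T} (hy : D.α y = y) (hy1 : y ≠ 1) :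
    ∃ k : ℕ, (D.ρ^[k]) x = y := by
  have hfix : ∀ k : ℕ, D.α ((D.ρ^[k]) x) = (D.ρ^[k]) x ∧ D.ε ((D.ρ^[k]) x) = lam ^ k * D.ε x := by
    intro k
    induction k with
    | zero => exact ⟨hx, by simp⟩
    | succ k ih =>
      rw [Function.iterate_succ_apply']
      refine ⟨D.fix_ρ ih.1, ?_⟩
      rw [D.ε_ρ _ ih.1, ih.2, pow_succ]; ring
  have h1 : D.ε x ≠ 0 := fun h => hx1 (D.ε_inj _ hx h)
  have h2 : D.ε y ≠ 0 := fun h => hy1 (D.ε_inj _ hy h)
  obtain ⟨k, hk⟩ := hl (D.ε y / D.ε x) (div_ne_zero h2 h1)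
  refine ⟨k, D.eq_of_ε (hfix k).1 hy ?_⟩
  rw [(hfix k).2, hk, div_mul_cancel₀ _ h1]

theorem iter_mem {H : Subgroup T} (hH : ∀ x ∈ H, D.ρ x ∈ H) {x : T} (hx : x ∈ H) (k : ℕ) : (D.ρ^[k]) x ∈ H := by
  induction k with
  | zero => exact hx
  | succ k ih => rw [Function.iterate_succ_apply']; exact hH _ ih

/-- `u x = x⁻¹ α(x)` -/
def u (x : T) : T := x⁻¹ * D.α x

theorem α_u (x : T) : D.α (D.u x) = (D.u x)⁻¹ := by
  rw [u, map_mul, map_inv, D.invol]; group

theorem u_mul (x y : T) : D.u (x * y) = y⁻¹ * D.u x * y * D.u y := by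
  rw [u, u, u, map_mul]; group

theorem u_α (x : T) : D.u (D.α x) = (D.u x)⁻¹ := by
  rw [u, u, D.invol]; group

theorem u_ρ (x : T) : D.u (D.ρ x) = D.ρ (D.u x) := by
  rw [u, u, D.comm, map_mul, map_inv]

theorem u_eq_one_iff (x : T) : D.u x = 1 ↔ D.α x = x := by
  rw [u, inv_mul_eq_one, eq_comm]

theorem nontriv [CharP F 2] : ∃ x, D.α x = x ∧ x ≠ 1 := by
  obtain ⟨x, hx, h1⟩ := D.ε_surj 1
  refine ⟨x, hx, ?_⟩
  rintro rfl
  rw [D.ε_one] at h1
  exact zero_ne_one h1

/-- the fixed points are central -/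
theorem central [Finite T] [CharP F 2] (hT : IsPGroup 2 T) (hl : Gen lam) (hρ : Function.Injective D.ρ) {x : T} (hx : D.α x = x) :
    x ∈ Subgroup.center T := by
  have hp : Fact (Nat.Prime 2) := ⟨Nat.prime_two⟩
  by_cases hx1 : x = 1
  · rw [hx1]; exact Subgroup.one_mem _
  have hαbij : Function.Bijective D.α := ⟨fun a b h => by rw [← D.invol a, h, D.invol], fun b => ⟨D.α b, D.invol b⟩⟩
  have hρbij : Function.Bijective D.ρ := ⟨hρ, Finite.surjective_of_injective hρ⟩
  have hchar : ∀ f : T →* T, Function.Bijective f → ∀ z ∈ Subgroup.center T, f z ∈ Subgroup.center T := by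
    intro f hf z hz
    rw [Subgroup.mem_center_iff] at hz ⊢
    intro g
    obtain ⟨g, rfl⟩ := hf.2 g
    rw [← map_mul, ← map_mul, hz]
  have : Nontrivial T := ⟨x, 1, hx1⟩
  have hZ : Nontrivial (Subgroup.center T) := hT.center_nontrivial
  obtain ⟨k, hk0, hk⟩ := (hT.to_subgroup (Subgroup.center T)).nontrivial_iff_card.1 hZ
  obtain ⟨z, hz⟩ := exists_prime_orderOf_dvd_card' (G := Subgroup.center T) 2
    (by rw [hk]; exact dvd_pow_self 2 hk0.ne')
  have hzz : (z : T) * z = 1 := by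
    have : z ^ 2 = 1 := by rw [← hz, pow_orderOf_eq_one]
    rw [pow_two] at this
    exact congrArg Subtype.val this
  have hz1 : (z : T) ≠ 1 := by
    intro h
    have : z = 1 := Subtype.ext h
    rw [this, orderOf_one] at hz
    omega
  obtain ⟨z0, hz0, hz0f, hz01⟩ : ∃ z0 ∈ Subgroup.center T, D.α z0 = z0 ∧ z0 ≠ 1 := by
    by_cases h : (z : T) * D.α z = 1
    · refine ⟨z, z.2, ?_, hz1⟩
      have h2 : D.α z = (z : T)⁻¹ := eq_inv_of_mul_eq_one_right h
      rw [h2]
      exact inv_eq_of_mul_eq_one_right hzz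
    · refine ⟨z * D.α z, Subgroup.mul_mem _ z.2 (hchar _ hαbij _ z.2), ?_, h⟩
      rw [map_mul, D.invol]
      have := Subgroup.mem_center_iff.1 z.2 (D.α z)
      rw [this]
  obtain ⟨k, hk⟩ := D.iter hl hz0f hz01 hx hx1
  rw [← hk]
  exact D.iter_mem (H := Subgroup.center T) (hchar _ hρbij) hz0 k

/-- the subgroup of fixed points -/
def fixS : Subgroup T where
  carrier := {x | D.α x = x}
  one_mem' := map_one _
  mul_mem' := fun hx hy => D.fix_mul hx hy
  inv_mem' := fun hx => D.fix_inv hx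

theorem mem_fixS {x : T} : x ∈ D.fixS ↔ D.α x = x := Iff.rfl

end Cfg

/-- **Lemma 1**: the elements `x⁻¹ α(x)` form a subgroup -/
theorem closed [CharP F 2] (hl : Gen lam) : ∀ (N : ℕ) (T : Type u) [Group T] [Finite T], Nat.card T = N → IsPGroup 2 T →
    ∀ (D : Cfg T F lam), Function.Injective D.ρ → ∀ x y, ∃ z, D.u x * D.u y = D.u z := by
  intro N
  induction N using Nat.strong_induction_on with
  | _ N ih =>
  intro T _ _ hN hT D hρ x y
  by_cases hall : ∀ x, D.α x = x
  · refine ⟨1, ?_⟩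
    rw [(D.u_eq_one_iff x).2 (hall x), (D.u_eq_one_iff y).2 (hall y), (D.u_eq_one_iff 1).2 (hall 1), one_mul]
  push Not at hall
  obtain ⟨x0, hx0⟩ := hall
  have hcen : ∀ c, D.α c = c → ∀ x, c * x = x * c := fun c hc x =>
    (Subgroup.mem_center_iff.1 (D.central hT hl hρ hc) x).symm
  have hnorm : D.fixS.Normal := ⟨fun c hc g => by
    rw [← hcen c hc g, mul_assoc, mul_inv_cancel, mul_one]; exact hc⟩
  -- the map `c` on `N`
  have huc : ∀ w c, D.α c = c → D.u (w * c) = D.u w := by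
    intro w c hc
    have h1 : D.u c = 1 := (D.u_eq_one_iff c).2 hc
    have h2 := hcen c hc (D.u w * c)
    rw [D.u_mul, h1, mul_one, mul_assoc, inv_mul_eq_iff_eq_mul, hcen c hc]
  have hmulN : ∀ w w', D.α (D.u w) = D.u w → D.u (w * w') = D.u w * D.u w' := by
    intro w w' h
    rw [D.u_mul, mul_assoc w'⁻¹, hcen _ h w', inv_mul_cancel_left]
  -- existence of an element of `N` outside the fixed points
  have hN1 : ∃ w, D.α (D.u w) = D.u w ∧ D.u w ≠ 1 := by
    -- `α` acts on the nontrivial 2-group `T / Fix`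
    let Tq := T ⧸ D.fixS
    have hTq : IsPGroup 2 Tq := hT.to_quotient D.fixS
    let αq : Tq →* Tq := QuotientGroup.map D.fixS D.fixS D.α (fun c hc => by
      show D.α (D.α c) = D.α c
      rw [D.invol, hc])
    have hαq : ∀ x : T, αq (x : Tq) = ((D.α x : T) : Tq) := fun x => rfl
    have hx0q : (x0 : Tq) ≠ 1 := fun h => hx0 ((QuotientGroup.eq_one_iff _).1 h)
    have : Nontrivial Tq := ⟨_, _, hx0q⟩
    have hZ : Nontrivial (Subgroup.center Tq) := hTq.center_nontrivial
    have hp : Fact (Nat.Prime 2) := ⟨Nat.prime_two⟩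
    obtain ⟨k, hk0, hk⟩ := (hTq.to_subgroup (Subgroup.center Tq)).nontrivial_iff_card.1 hZ
    obtain ⟨z, hz⟩ := exists_prime_orderOf_dvd_card' (G := Subgroup.center Tq) 2
      (by rw [hk]; exact dvd_pow_self 2 hk0.ne')
    have hzz : (z : Tq) * z = 1 := by
      have : z ^ 2 = 1 := by rw [← hz, pow_orderOf_eq_one]
      rw [pow_two] at this
      exact congrArg Subtype.val this
    have hz1 : (z : Tq) ≠ 1 := by
      intro h
      have : z = 1 := Subtype.ext h
      rw [this, orderOf_one] at hz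
      omega
    have hinv : ∀ y : Tq, αq (αq y) = y := by
      intro y
      induction y using QuotientGroup.induction_on with
      | H y => rw [hαq, hαq, D.invol]
    obtain ⟨y, hy1, hyf⟩ : ∃ y : Tq, y ≠ 1 ∧ αq y = y := by
      by_cases h : (z : Tq) * αq z = 1
      · refine ⟨z, hz1, ?_⟩
        have h2 : αq z = (z : Tq)⁻¹ := eq_inv_of_mul_eq_one_right h
        rw [h2]
        exact inv_eq_of_mul_eq_one_right hzz
      · refine ⟨z * αq z, h, ?_⟩
        rw [map_mul, hinv]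
        exact (Subgroup.mem_center_iff.1 z.2 (αq z))
    obtain ⟨w, rfl⟩ := QuotientGroup.mk_surjective y
    refine ⟨w, ?_, ?_⟩
    · have : ((w : Tq))⁻¹ * αq w = 1 := by rw [hyf, inv_mul_cancel]
      rw [hαq, ← QuotientGroup.mk_inv, ← QuotientGroup.mk_mul, QuotientGroup.eq_one_iff] at this
      exact this
    · intro h
      apply hy1
      rw [QuotientGroup.eq_one_iff]
      exact (D.u_eq_one_iff w).1 h
  obtain ⟨w0, hw0, hw01⟩ := hN1
  -- `c` is onto the fixed points
  have hsur : ∀ c, D.α c = c → ∃ w, D.u w = c := by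
    intro c hc
    by_cases hc1 : c = 1
    · exact ⟨1, by rw [hc1, (D.u_eq_one_iff 1).2 (map_one _)]⟩
    obtain ⟨k, hk⟩ := D.iter hl hw0 hw01 hc hc1
    refine ⟨(D.ρ^[k]) w0, ?_⟩
    rw [← hk]
    clear hk
    induction k with
    | zero => rfl
    | succ k ih => rw [Function.iterate_succ_apply', Function.iterate_succ_apply', D.u_ρ, ih]
  -- the quotient
  let αq : T ⧸ D.fixS →* T ⧸ D.fixS := QuotientGroup.map D.fixS D.fixS D.α (fun c hc => by
    show D.α (D.α c) = D.α c
    rw [D.invol, hc])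
  let ρq : T ⧸ D.fixS →* T ⧸ D.fixS := QuotientGroup.map D.fixS D.fixS D.ρ (fun c hc => D.fix_ρ hc)
  have hαq : ∀ x : T, αq (x : T ⧸ D.fixS) = ((D.α x : T) : T ⧸ D.fixS) := fun x => rfl
  have hρq : ∀ x : T, ρq (x : T ⧸ D.fixS) = ((D.ρ x : T) : T ⧸ D.fixS) := fun x => rfl
  have hfixq : ∀ x : T, αq (x : T ⧸ D.fixS) = x ↔ D.α (D.u x) = D.u x := by
    intro x
    rw [hαq, eq_comm, QuotientGroup.eq]; rfl
  let Dq : Cfg (T ⧸ D.fixS) F lam :=
    { α := αq
      ρ := ρq
      invol := by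
        intro y
        induction y using QuotientGroup.induction_on with
        | H y => rw [hαq, hαq, D.invol]
      comm := by
        intro y
        induction y using QuotientGroup.induction_on with
        | H y => rw [hρq, hαq, hαq, hρq, D.comm]
      ε := Quotient.lift (fun x => D.ε (D.u x)) (by
        intro a b hab
        rw [← Quotient.eq_iff_equiv, Quotient.eq] at hab
        have h1 : a⁻¹ * b ∈ D.fixS := QuotientGroup.leftRel_apply.1 hab
        have h2 : b = a * (a⁻¹ * b) := by group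
        show D.ε (D.u a) = D.ε (D.u b)
        rw [h2, huc _ _ h1])
      ε_mul := by
        intro a b
        refine QuotientGroup.induction_on a fun a => ?_
        refine QuotientGroup.induction_on b fun b => ?_
        intro ha hb
        show D.ε (D.u (a * b)) = D.ε (D.u a) + D.ε (D.u b)
        rw [hmulN _ _ ((hfixq a).1 ha), D.ε_mul _ _ ((hfixq a).1 ha) ((hfixq b).1 hb)]
      ε_inj := by
        intro a
        refine QuotientGroup.induction_on a fun a => ?_
        intro ha h0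
        rw [QuotientGroup.eq_one_iff]
        exact (D.u_eq_one_iff a).1 (D.ε_inj _ ((hfixq a).1 ha) h0)
      ε_surj := by
        intro s
        obtain ⟨c, hc, hcs⟩ := D.ε_surj s
        obtain ⟨w, hw⟩ := hsur c hc
        refine ⟨(w : T ⧸ D.fixS), (hfixq w).2 (by rw [hw, hc]), ?_⟩
        show D.ε (D.u w) = s
        rw [hw, hcs]
      ε_ρ := by
        intro a
        refine QuotientGroup.induction_on a fun a => ?_
        intro ha
        show D.ε (D.u (D.ρ a)) = lam * D.ε (D.u a)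
        rw [D.u_ρ, D.ε_ρ _ ((hfixq a).1 ha)] }
  have hlt : Nat.card (T ⧸ D.fixS) < N := by
    rw [← hN, Subgroup.card_eq_card_quotient_mul_card_subgroup D.fixS]
    obtain ⟨c, hc, hc1⟩ := D.nontriv
    have h1 : 1 < Nat.card D.fixS := by
      rw [Finite.one_lt_card_iff_nontrivial]
      exact ⟨⟨c, hc⟩, 1, fun h => hc1 (congrArg Subtype.val h)⟩
    have h2 : 0 < Nat.card (T ⧸ D.fixS) := Nat.card_pos
    nlinarith
  have hρq' : Function.Injective Dq.ρ := by
    intro a b
    refine QuotientGroup.induction_on a fun a => ?_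
    refine QuotientGroup.induction_on b fun b => ?_
    intro hab
    have h1 : ((D.ρ a : T) : T ⧸ D.fixS) = ((D.ρ b : T) : T ⧸ D.fixS) := hab
    rw [QuotientGroup.eq] at h1 ⊢
    have h2 : D.α (D.ρ (a⁻¹ * b)) = D.ρ (a⁻¹ * b) := by rw [map_mul, map_inv]; exact h1
    rw [D.comm] at h2
    exact hρ h2
  obtain ⟨z, hz⟩ := ih _ hlt (T ⧸ D.fixS) rfl (hT.to_quotient _) Dq hρq' (x : T ⧸ D.fixS) (y : T ⧸ D.fixS)
  obtain ⟨z, rfl⟩ := QuotientGroup.mk_surjective z
  have hz' : ((D.u x * D.u y : T) : T ⧸ D.fixS) = ((D.u z : T) : T ⧸ D.fixS) := hz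
  rw [QuotientGroup.eq] at hz'
  have hz2 : D.α ((D.u x * D.u y)⁻¹ * D.u z) = (D.u x * D.u y)⁻¹ * D.u z := hz'
  obtain ⟨w, hw⟩ := hsur _ (D.fix_inv hz2)
  refine ⟨w * z, ?_⟩
  have h3 : D.α (D.u w) = D.u w := by rw [hw]; exact D.fix_inv hz2
  rw [hmulN _ _ h3]
  have h4 : D.u x * D.u y = D.u z * ((D.u x * D.u y)⁻¹ * D.u z)⁻¹ := by group
  rw [hw, hcen _ (D.fix_inv hz2), ← h4]

end Cfsg.Agent.H21.SI
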