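import Cfsg.Agent.H21.SI2

/-! The main analysis. -/

set_option autoImplicit false

namespace Cfsg.Agent.H21.SI

universe u v

structure Str (T : Type u) [Group T] (A : Type u) [CommGroup A] (F : Type v) [Field F] (lam : F) extends AStr A F lam where
  α : T →* T
  ρT : T →* T
  inc : A →* T
  inc_inj : Function.Injective inc
  inc_ρ : ∀ a, inc (ρ a) = ρT (inc a)
  cj : T → A →* A
  inc_cj : ∀ x a, inc (cj x a) = x⁻¹ * inc a * x
  u : T → A
  inc_u : ∀ x, inc (u x) = x⁻¹ * α x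
  u_surj : Function.Surjective u
  α_inc : ∀ a, α (inc a) = (inc a)⁻¹
  invol : ∀ x, α (α x) = x
  comm : ∀ x, α (ρT x) = ρT (α x)
  fixA : ∀ x, α x = x → ∃ a, inc a = x
  cen : ∀ a, a * a = 1 → ∀ x, inc a * x = x * inc a

namespace Str

open AStr

variable {T : Type u} [Group T] {A : Type u} [CommGroup A] {F : Type v} [Field F] {lam : F} (D : Str T A F lam)

theorem cj_inc (a b : A) : D.cj (D.inc b) a = a := by
  apply D.inc_inj
  rw [D.inc_cj, ← map_inv, ← map_mul, ← map_mul, mul_comm b⁻¹, inv_mul_cancel_right]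

theorem cj_mul (x y : T) (a : A) : D.cj (x * y) a = D.cj y (D.cj x a) := by
  apply D.inc_inj
  rw [D.inc_cj, D.inc_cj, D.inc_cj]; group

theorem cj_fix {a : A} (ha : a * a = 1) (x : T) : D.cj x a = a := by
  apply D.inc_inj
  rw [D.inc_cj, mul_assoc, D.cen a ha, inv_mul_cancel_left]

/-- the commutator `[a, x]` -/
def g (a : A) (x : T) : A := a⁻¹ * D.cj x a

theorem cj_eq (a : A) (x : T) : D.cj x a = a * D.g a x := by rw [g, mul_inv_cancel_left]

theorem g_mul (a b : A) (x : T) : D.g (a * b) x = D.g a x * D.g b x := by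
  rw [g, g, g, map_mul, mul_inv]; exact mul_mul_mul_comm _ _ _ _

theorem g_one (x : T) : D.g 1 x = 1 := by rw [g, map_one, inv_one, one_mul]

theorem g_pow (a : A) (n : ℕ) (x : T) : D.g (a ^ n) x = D.g a x ^ n := by
  induction n with
  | zero => rw [pow_zero, pow_zero, D.g_one]
  | succ n ih => rw [pow_succ, D.g_mul, ih, pow_succ]

theorem g_fix {a : A} (ha : a * a = 1) (x : T) : D.g a x = 1 := by rw [g, D.cj_fix ha, inv_mul_cancel]

theorem g_inc (a b : A) : D.g a (D.inc b) = 1 := by rw [g, D.cj_inc, inv_mul_cancel]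

theorem g_mul_right (a : A) (x y : T) : D.g a (x * y) = D.g a y * D.g a x * D.g (D.g a x) y := by
  have h : D.cj (x * y) a = a * (D.g a y * D.g a x * D.g (D.g a x) y) := by
    rw [D.cj_mul, D.cj_eq a x, map_mul, D.cj_eq a y, D.cj_eq (D.g a x) y]
    simp only [mul_assoc, mul_left_comm, mul_comm]
  rw [g, h, inv_mul_cancel_left]

theorem u_mul (x y : T) : D.u (x * y) = D.cj y (D.u x) * D.u y := by
  apply D.inc_inj
  rw [D.inc_u, map_mul, map_mul, D.inc_cj, D.inc_u, D.inc_u]; group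

theorem u_ρ (x : T) : D.u (D.ρT x) = D.ρ (D.u x) := by
  apply D.inc_inj
  rw [D.inc_u, D.inc_ρ, D.inc_u, D.comm, map_mul, map_inv]

theorem cj_ρ (a : A) (x : T) : D.cj (D.ρT x) (D.ρ a) = D.ρ (D.cj x a) := by
  apply D.inc_inj
  rw [D.inc_cj, D.inc_ρ, D.inc_ρ, D.inc_cj, map_mul, map_mul, map_inv]

theorem g_ρ (a : A) (x : T) : D.g (D.ρ a) (D.ρT x) = D.ρ (D.g a x) := by
  rw [g, g, D.cj_ρ, map_mul, map_inv]

theorem u_inc (a : A) : D.u (D.inc a) = (a * a)⁻¹ := by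
  apply D.inc_inj
  rw [D.inc_u, D.α_inc, map_inv, map_mul, mul_inv_rev]

theorem pp (e : A) (i j : ℕ) : (e ^ 2 ^ i) ^ 2 ^ j = e ^ 2 ^ (i + j) := by rw [← pow_mul, ← pow_add]

variable {m : ℕ} (L : Lev A m)

include L in
theorem pow_sq {a : A} : a ^ 2 ^ m * a ^ 2 ^ m = 1 := by
  rw [← pow_two, ← pow_mul, ← pow_succ]; exact L.P0 a

/-- coordinate of `T / A` -/
def ω (m : ℕ) (x : T) : F := D.ε (D.u x ^ 2 ^ m)

/-- coordinate of `A / A²` -/
def ω₂ (m : ℕ) (a : A) : F := D.ε (a ^ 2 ^ m)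

include L in
theorem ω₂_mul (a b : A) : D.ω₂ m (a * b) = D.ω₂ m a + D.ω₂ m b := by
  rw [ω₂, mul_pow, D.ε_mul _ _ (pow_sq L) (pow_sq L)]; rfl

include L in
theorem ω₂_zero {a : A} : D.ω₂ m a = 0 ↔ ∃ f, a = f * f := by
  constructor
  · intro h
    have h1 := D.ε_inj _ (pow_sq L) h
    obtain ⟨f, hf⟩ := L.P2 1 m (by omega) a h1
    exact ⟨f, by rw [hf, pow_one, pow_two]⟩
  · rintro ⟨f, rfl⟩
    rw [ω₂, mul_pow, pow_sq L, D.ε_one]

include L in
theorem ω₂_surj : Function.Surjective (D.ω₂ m) := by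
  intro s
  obtain ⟨c, hc, hs⟩ := D.ε_surj s
  obtain ⟨a, ha⟩ := L.P1 c hc
  exact ⟨a, by rw [ω₂, ha, hs]⟩

include L in
theorem ω₂_ρ (a : A) : D.ω₂ m (D.ρ a) = lam * D.ω₂ m a := by
  rw [ω₂, ← map_pow, D.ε_ρ _ (pow_sq L)]; rfl

theorem ω₂_u (x : T) : D.ω₂ m (D.u x) = D.ω m x := rfl

include L in
theorem ω_mul (x y : T) : D.ω m (x * y) = D.ω m x + D.ω m y := by
  rw [ω, D.u_mul, mul_pow, ← map_pow, D.cj_fix (pow_sq L), D.ε_mul _ _ (pow_sq L) (pow_sq L)]; rfl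

include L in
theorem ω_ρ (x : T) : D.ω m (D.ρT x) = lam * D.ω m x := by
  rw [ω, D.u_ρ, ← map_pow, D.ε_ρ _ (pow_sq L)]; rfl

include L in
theorem ω_surj : Function.Surjective (D.ω m) := by
  intro s
  obtain ⟨a, ha⟩ := D.ω₂_surj L s
  obtain ⟨x, rfl⟩ := D.u_surj a
  exact ⟨x, ha⟩

include L in
theorem ω_inc (a : A) : D.ω m (D.inc a) = 0 := by
  rw [ω, D.u_inc, inv_pow, mul_pow, pow_sq L, inv_one, D.ε_one]

include L in
theorem ω_zero {x : T} : D.ω m x = 0 ↔ ∃ a, D.inc a = x := by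
  constructor
  · intro h
    obtain ⟨f, hf⟩ := (D.ω₂_zero L).1 (show D.ω₂ m (D.u x) = 0 from h)
    have h1 : D.α (x * D.inc f) = x * D.inc f := by
      have h2 := D.inc_u x
      rw [hf, map_mul] at h2
      have h3 : D.α x = x * (D.inc f * D.inc f) := by rw [h2]; group
      rw [map_mul, h3, D.α_inc]; group
    obtain ⟨a, ha⟩ := D.fixA _ h1
    exact ⟨a * f⁻¹, by rw [map_mul, ha, map_inv]; group⟩
  · rintro ⟨a, rfl⟩
    exact D.ω_inc L a

/-- the general commutator pairing -/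
theorem pairing [Finite F] [CharP F 2] (hl : Gen lam) {i j : ℕ} (hij : i + j = m) (L : Lev A m)
    (H : ∀ a x, ∃ e, D.g a x = e ^ 2 ^ i) :
    ∃ c, ∀ a x, D.ε (D.g a x ^ 2 ^ j) * D.ε (D.g a x ^ 2 ^ j) = c * (D.ω₂ m a * D.ω m x) := by
  have hs : ∀ a x, D.g a x ^ 2 ^ j * D.g a x ^ 2 ^ j = 1 := by
    intro a x
    obtain ⟨e, he⟩ := H a x
    rw [he, pp, hij]
    exact pow_sq L
  apply ev hl (G₁ := A) (G₂ := T) (D.ω₂ m) (D.ω m) (D.ω₂_mul L) (D.ω_mul L) (D.ω₂_surj L) (D.ω_surj L) D.ρ D.ρT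
    (D.ω₂_ρ L) (D.ω_ρ L) (fun a x => D.ε (D.g a x ^ 2 ^ j))
  · intro a b x
    show D.ε (D.g (a * b) x ^ 2 ^ j) = _
    rw [D.g_mul, mul_pow, D.ε_mul _ _ (hs _ _) (hs _ _)]
  · intro a x y
    show D.ε (D.g a (x * y) ^ 2 ^ j) = _
    obtain ⟨e, he⟩ := H a x
    have h1 : D.g (D.g a x) y ^ 2 ^ j = 1 := by
      rw [he, D.g_pow, pp, hij, ← D.g_pow, D.g_fix (pow_sq L)]
    rw [D.g_mul_right, mul_pow, mul_pow, h1, mul_one, D.ε_mul _ _ (hs _ _) (hs _ _), add_comm]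
  · intro a x ha
    show D.ε (D.g a x ^ 2 ^ j) = 0
    obtain ⟨f, rfl⟩ := (D.ω₂_zero L).1 ha
    rw [D.g_mul, mul_pow, hs, D.ε_one]
  · intro a x hx
    show D.ε (D.g a x ^ 2 ^ j) = 0
    obtain ⟨b, rfl⟩ := (D.ω_zero L).1 hx
    rw [D.g_inc, one_pow, D.ε_one]
  · intro a x
    show D.ε (D.g (D.ρ a) (D.ρT x) ^ 2 ^ j) = lam * D.ε (D.g a x ^ 2 ^ j)
    rw [D.g_ρ, ← map_pow, D.ε_ρ _ (hs _ _)]

/-- squares lie in `A` -/
theorem exists_s [CharP F 2] (L : Lev A m) (x : T) : ∃ s, D.inc s = x * x := by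
  apply (D.ω_zero L).1
  rw [D.ω_mul L, CharTwo.add_self_eq_zero]

theorem g_sq {x : T} {s : A} (hs : D.inc s = x * x) : D.g s x = 1 := by
  apply D.inc_inj
  rw [g, map_mul, map_inv, D.inc_cj, hs, map_one]; group

theorem g_u {x : T} {s : A} (hs : D.inc s = x * x) : D.g (D.u x) x = (s * s)⁻¹ * (D.u x * D.u x)⁻¹ := by
  have h1 : D.α (D.inc s) = (D.inc s)⁻¹ := D.α_inc s
  have h2 : D.α x = x * D.inc (D.u x) := by rw [D.inc_u]; group
  rw [hs, map_mul, h2] at h1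
  have h3 : x * D.inc (D.u x) * (x * D.inc (D.u x)) = D.inc s * D.inc (D.cj x (D.u x)) * D.inc (D.u x) := by
    rw [D.inc_cj, hs]; group
  rw [h3, ← hs, ← map_mul, ← map_mul, ← map_inv] at h1
  have h4 := D.inc_inj h1
  rw [D.cj_eq] at h4
  -- s * (u * g) * u = s⁻¹
  have h5 : D.g (D.u x) x = (s * (D.u x * D.g (D.u x) x) * D.u x) * (s⁻¹ * (D.u x * D.u x)⁻¹) := by
    generalize D.g (D.u x) x = w
    generalize D.u x = v
    rw [mul_inv]
    have : s * (v * w) * v * (s⁻¹ * (v⁻¹ * v⁻¹)) = (s * s⁻¹) * (v * v⁻¹) * (v * v⁻¹) * w := by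
      simp only [mul_assoc, mul_left_comm, mul_comm]
    rw [this, mul_inv_cancel, mul_inv_cancel, one_mul, one_mul, one_mul]
  rw [h5, h4, mul_inv s s, mul_assoc]

theorem ε_inv' [CharP F 2] {a : A} (ha : a * a = 1) : D.ε a⁻¹ = D.ε a := by
  rw [D.toAStr.ε_inv ha, CharTwo.neg_eq]

/-- elements of `A`: all commutators are squares -/
theorem H1 (L : Lev A m) (a : A) (x : T) : ∃ e, D.g a x = e ^ 2 ^ 1 := by
  apply L.P2 1 m (by omega)
  rw [← D.g_pow, D.g_fix (pow_sq L)]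

/-- the dichotomy -/
theorem dich [Finite F] [CharP F 2] (hl : Gen lam) {n : ℕ} (L : Lev A (n + 1)) :
    (∀ x s, D.inc s = x * x → D.ω₂ (n + 1) s = D.ω (n + 1) x) ∨
    ((∀ a x, D.ε (D.g a x ^ 2 ^ n) * D.ε (D.g a x ^ 2 ^ n) = D.ω₂ (n + 1) a * D.ω (n + 1) x) ∧
      ∀ x s, D.inc s = x * x → D.ω₂ (n + 1) s = 0) := by
  obtain ⟨c, hc⟩ := D.pairing hl (i := 1) (j := n) (by omega) L (D.H1 L)
  have e1 : ∀ x s, D.inc s = x * x → D.ε (D.g (D.u x) x ^ 2 ^ n) = D.ω₂ (n + 1) s + D.ω (n + 1) x := by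
    intro x s hs
    have h1 : (s * s) ^ 2 ^ n = s ^ 2 ^ (n + 1) := by rw [← pow_two, ← pow_mul, pow_succ']
    have h2 : (D.u x * D.u x) ^ 2 ^ n = D.u x ^ 2 ^ (n + 1) := by rw [← pow_two, ← pow_mul, pow_succ']
    rw [D.g_u hs, mul_pow, inv_pow, inv_pow, h1, h2, D.ε_mul _ _ (sq_inv (pow_sq L)) (sq_inv (pow_sq L)),
      D.ε_inv' (pow_sq L), D.ε_inv' (pow_sq L)]
    rfl
  have e2 : ∀ x s, D.inc s = x * x → (D.ω₂ (n + 1) s + D.ω (n + 1) x) * (D.ω₂ (n + 1) s + D.ω (n + 1) x) =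
      c * (D.ω (n + 1) x * D.ω (n + 1) x) := by
    intro x s hs
    rw [← e1 x s hs, hc, D.ω₂_u]
  have e3 : ∀ x s, D.inc s = x * x → c * (D.ω₂ (n + 1) s * D.ω (n + 1) x) = 0 := by
    intro x s hs
    rw [← hc, D.g_sq hs, one_pow, D.ε_one, mul_zero]
  have hinj2 : ∀ a b : F, a * a = b * b → a = b := by
    intro a b hab
    apply CharTwo.sq_injective (R := F)
    simpa [pow_two] using hab
  obtain ⟨x, hx⟩ := D.ω_surj L 1
  obtain ⟨s, hs⟩ := D.exists_s L x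
  have h1 := e2 x s hs
  have h2 := e3 x s hs
  rw [hx] at h1 h2
  rw [mul_one, mul_one] at h1
  rw [mul_one] at h2
  rcases mul_eq_zero.1 h2 with h3 | h3
  · left
    intro x s hs
    have h4 := e2 x s hs
    rw [h3, zero_mul] at h4
    have h5 := mul_self_eq_zero.1 h4
    have h6 := eq_neg_of_add_eq_zero_left h5
    rwa [CharTwo.neg_eq] at h6
  · right
    rw [h3, zero_add, one_mul] at h1
    refine ⟨fun a x => by rw [hc, ← h1, one_mul], fun x s hs => ?_⟩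
    have h4 := e2 x s hs
    rw [← h1, one_mul] at h4
    have h5 := hinj2 _ _ h4
    exact add_eq_right.1 h5

/-- if `A` is central then `T` is abelian -/
theorem comm_of_central [Finite F] [CharP F 2] (hl : Gen lam) (L : Lev A m) (hcen : ∀ a x, D.inc a * x = x * D.inc a)
    (x y : T) : x * y = y * x := by
  -- commutators
  have hex : ∀ x y : T, ∃ a, D.inc a = x⁻¹ * y⁻¹ * x * y := by
    intro x y
    apply (D.ω_zero L).1
    have h1 : ∀ z, D.ω m z⁻¹ = D.ω m z := by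
      intro z
      have e1 := D.ω_mul L z z⁻¹
      have e2 : D.ω m 1 = 0 := by
        have := D.ω_inc L 1
        rwa [map_one] at this
      rw [mul_inv_cancel, e2] at e1
      have := eq_neg_of_add_eq_zero_right e1.symm
      rwa [CharTwo.neg_eq] at this
    rw [D.ω_mul L, D.ω_mul L, D.ω_mul L, h1, h1]
    have : D.ω m x + D.ω m y + D.ω m x + D.ω m y = (D.ω m x + D.ω m x) + (D.ω m y + D.ω m y) := by ring
    rw [this, CharTwo.add_self_eq_zero, CharTwo.add_self_eq_zero, add_zero]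
  choose κ hκ using hex
  have κl : ∀ x x' y, κ (x * x') y = κ x y * κ x' y := by
    intro x x' y
    apply D.inc_inj
    rw [map_mul, hκ, hκ x' y]
    have h1 := hcen (κ x y) x'
    rw [hκ] at h1
    calc (x * x')⁻¹ * y⁻¹ * (x * x') * y = x'⁻¹ * (x⁻¹ * y⁻¹ * x * y) * (y⁻¹ * x' * y) := by group
      _ = x'⁻¹ * ((x⁻¹ * y⁻¹ * x * y) * x') * (x'⁻¹ * y⁻¹ * x' * y) := by group
      _ = x'⁻¹ * (x' * (x⁻¹ * y⁻¹ * x * y)) * (x'⁻¹ * y⁻¹ * x' * y) := by rw [h1]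
      _ = _ := by rw [hκ]; group
  have κs : ∀ x y, κ x y = (κ y x)⁻¹ := by
    intro x y
    apply D.inc_inj
    rw [map_inv, hκ, hκ]; group
  have κr : ∀ x y y', κ x (y * y') = κ x y * κ x y' := by
    intro x y y'
    rw [κs, κl, mul_inv, ← κs, ← κs]
  have κx : ∀ x, κ x x = 1 := by
    intro x
    apply D.inc_inj
    rw [hκ, map_one]; group
  have κi : ∀ a y, κ (D.inc a) y = 1 := by
    intro a y
    apply D.inc_inj
    rw [hκ, map_one, ← map_inv, mul_assoc (D.inc a⁻¹), hcen a⁻¹]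
    rw [map_inv]; group
  have κρ : ∀ x y, κ (D.ρT x) (D.ρT y) = D.ρ (κ x y) := by
    intro x y
    apply D.inc_inj
    rw [hκ, D.inc_ρ, hκ, map_mul, map_mul, map_mul, map_inv, map_inv]
  -- induction
  have key : ∀ i j, i + j = m + 1 → ∀ x y, ∃ e, κ x y = e ^ 2 ^ i := by
    intro i
    induction i with
    | zero => intro j _ x y; exact ⟨κ x y, by rw [pow_zero, pow_one]⟩
    | succ i ih =>
      intro j hij
      have ih' := ih (j + 1) (by omega)
      have hs : ∀ x y, κ x y ^ 2 ^ j * κ x y ^ 2 ^ j = 1 := by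
        intro x y
        obtain ⟨e, he⟩ := ih' x y
        rw [he, pp, show i + j = m by omega]
        exact pow_sq L
      obtain ⟨c, hc⟩ := ev hl (G₁ := T) (G₂ := T) (D.ω m) (D.ω m) (D.ω_mul L) (D.ω_mul L) (D.ω_surj L) (D.ω_surj L)
        D.ρT D.ρT (D.ω_ρ L) (D.ω_ρ L) (fun x y => D.ε (κ x y ^ 2 ^ j))
        (fun x x' y => by rw [κl, mul_pow, D.ε_mul _ _ (hs _ _) (hs _ _)])
        (fun x y y' => by rw [κr, mul_pow, D.ε_mul _ _ (hs _ _) (hs _ _)])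
        (fun x y hx => by
          obtain ⟨a, rfl⟩ := (D.ω_zero L).1 hx
          rw [κi, one_pow, D.ε_one])
        (fun x y hy => by
          obtain ⟨a, rfl⟩ := (D.ω_zero L).1 hy
          rw [κs, κi, inv_one, one_pow, D.ε_one])
        (fun x y => by rw [κρ, ← map_pow, D.ε_ρ _ (hs _ _)])
      obtain ⟨x1, hx1⟩ := D.ω_surj L 1
      have h1 := hc x1 x1
      simp only [κx, one_pow, D.ε_one, mul_zero, hx1, mul_one] at h1
      intro x y
      have h2 := hc x y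
      simp only [← h1, zero_mul] at h2
      have h3 := D.ε_inj _ (hs x y) (mul_self_eq_zero.1 h2)
      exact L.P2 (i + 1) j hij _ h3
  obtain ⟨e, he⟩ := key (m + 1) 0 (by omega) x y
  rw [L.P0] at he
  have h1 := hκ x y
  rw [he, map_one] at h1
  calc x * y = y * x * (x⁻¹ * y⁻¹ * x * y) := by group
    _ = y * x := by rw [← h1, mul_one]

/-- the first case -/
theorem comm_of_sq [Finite F] [CharP F 2] (hl : Gen lam) (L : Lev A m)
    (h : ∀ x s, D.inc s = x * x → D.ω₂ m s = D.ω m x) (x y : T) : x * y = y * x := by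
  apply D.comm_of_central hl L
  have key : ∀ i j, i + j = m + 1 → ∀ a x, ∃ e, D.g a x = e ^ 2 ^ i := by
    intro i
    induction i with
    | zero => intro j _ a x; exact ⟨D.g a x, by rw [pow_zero, pow_one]⟩
    | succ i ih =>
      intro j hij
      have ih' := ih (j + 1) (by omega)
      obtain ⟨c, hc⟩ := D.pairing hl (i := i) (j := j) (by omega) L ih'
      have hs : ∀ a x, D.g a x ^ 2 ^ j * D.g a x ^ 2 ^ j = 1 := by
        intro a x
        obtain ⟨e, he⟩ := ih' a x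
        rw [he, pp, show i + j = m by omega]
        exact pow_sq L
      obtain ⟨x1, hx1⟩ := D.ω_surj L 1
      obtain ⟨s, hs1⟩ := D.exists_s L x1
      have h1 := hc s x1
      rw [D.g_sq hs1, one_pow, D.ε_one, mul_zero, h x1 s hs1, hx1, mul_one, mul_one] at h1
      intro a x
      have h2 := hc a x
      rw [← h1, zero_mul] at h2
      have h3 := D.ε_inj _ (hs a x) (mul_self_eq_zero.1 h2)
      exact L.P2 (i + 1) j hij _ h3
  intro a x
  obtain ⟨e, he⟩ := key (m + 1) 0 (by omega) a x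
  rw [L.P0] at he
  have h1 := D.cj_eq a x
  rw [he, mul_one] at h1
  have h2 := D.inc_cj x a
  rw [h1] at h2
  calc D.inc a * x = x * (x⁻¹ * D.inc a * x) := by group
    _ = x * D.inc a := by rw [← h2]

/-- in the second case `A` has exponent four -/
theorem second [Finite F] [CharP F 2] {n : ℕ} (L : Lev A (n + 1))
    (h4 : ∃ t : F, t ≠ 0 ∧ t ≠ 1)
    (hg : ∀ a x, D.ε (D.g a x ^ 2 ^ n) * D.ε (D.g a x ^ 2 ^ n) = D.ω₂ (n + 1) a * D.ω (n + 1) x) : n = 0 := by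
  by_contra hn
  obtain ⟨n, rfl⟩ := Nat.exists_eq_succ_of_ne_zero hn
  have hinj2 : ∀ a b : F, a * a = b * b → a = b := by
    intro a b hab
    apply CharTwo.sq_injective (R := F)
    simpa [pow_two] using hab
  obtain ⟨t, ht0, ht1⟩ := h4
  obtain ⟨x, hx⟩ := D.ω_surj L 1
  obtain ⟨a, ha⟩ := D.ω₂_surj L t
  obtain ⟨s, hs⟩ := D.exists_s L x
  have h1 : D.g a (x * x) = 1 := by rw [← hs, D.g_inc]
  rw [D.g_mul_right] at h1
  obtain ⟨e, he⟩ := D.H1 L a x
  rw [pow_one] at he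
  have h2 : D.g (D.g a x) x = D.g e x ^ 2 := by
    conv_lhs => rw [he]
    rw [D.g_pow]
  rw [h2, ← pow_two] at h1
  -- raise to the power `2 ^ n`
  have h3 := congrArg (fun z => z ^ 2 ^ n) h1
  simp only [mul_pow, one_pow] at h3
  have h5 : ∀ z : A, (z ^ 2) ^ 2 ^ n = z ^ 2 ^ (n + 1) := fun z => by rw [← pow_mul, pow_succ']
  rw [h5, h5] at h3
  have hs1 : ∀ z : A, ∀ y, D.g z y ^ 2 ^ (n + 1) * D.g z y ^ 2 ^ (n + 1) = 1 := by
    intro z y
    obtain ⟨e, he⟩ := D.H1 L z y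
    rw [he, pp, show 1 + (n + 1) = n + 1 + 1 by omega]
    exact pow_sq L
  have h6 := congrArg D.ε h3
  rw [D.ε_mul _ _ (hs1 _ _) (hs1 _ _), D.ε_one] at h6
  have h7 : D.ε (D.g a x ^ 2 ^ (n + 1)) = D.ε (D.g e x ^ 2 ^ (n + 1)) := by
    have := eq_neg_of_add_eq_zero_left h6
    rwa [CharTwo.neg_eq] at this
  have h8 := hg a x
  have h9 := hg e x
  rw [← h7, h8, hx, mul_one, mul_one, ha] at h9
  -- `ω₂ e = γ(a, x)`
  have h10 : D.ω₂ (n + 1 + 1) e = D.ε (D.g a x ^ 2 ^ (n + 1)) := by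
    rw [he, ω₂, ← pow_mul, ← pow_succ']
  rw [h10] at h9
  rw [← h9, hx, mul_one, ha] at h8
  exact ht1 (mul_left_cancel₀ ht0 (by rw [h8, mul_one]))

end Str

end Cfsg.Agent.H21.SI
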