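import Mathlib

/-! Central extensions of elementary abelian 2-groups by elementary abelian 2-groups are determined by their
squaring maps. -/

set_option autoImplicit false

namespace Cfsg.Agent.H21.Sq

/-- `T` is a central extension of `W` by `V`, with squaring map `Q`. -/
structure SqData (T W V : Type*) [Group T] [AddCommGroup W] [AddCommGroup V] (Q : W → V) where
  π : T →* Multiplicative W
  ι : Multiplicative V →* T
  surj : Function.Surjective π
  inj : Function.Injective ι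
  exact : ∀ t, π t = 1 ↔ ∃ v, ι v = t
  central : ∀ v t, ι v * t = t * ι v
  two : ∀ v : V, v + v = 0
  sq : ∀ t, t * t = ι (Multiplicative.ofAdd (Q (Multiplicative.toAdd (π t))))

variable {T₁ T₂ W₁ W₂ V₁ V₂ : Type*} [Group T₁] [Group T₂] [AddCommGroup W₁] [AddCommGroup W₂] [AddCommGroup V₁]
  [AddCommGroup V₂] {Q₁ : W₁ → V₁} {Q₂ : W₂ → V₂}

namespace SqData

theorem pi_iota (D : SqData T₁ W₁ V₁ Q₁) (v : Multiplicative V₁) : D.π (D.ι v) = 1 := (D.exact _).2 ⟨v, rfl⟩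

theorem pi_sq (D : SqData T₁ W₁ V₁ Q₁) (t : T₁) : D.π t * D.π t = 1 := by
  rw [← map_mul, D.sq, D.pi_iota]

theorem two' (D : SqData T₁ W₁ V₁ Q₁) (v : Multiplicative V₁) : v * v = 1 := D.two (Multiplicative.toAdd v)

theorem iota_sq (D : SqData T₁ W₁ V₁ Q₁) (v : Multiplicative V₁) : D.ι v * D.ι v = 1 := by
  rw [← map_mul, D.two', map_one]

theorem twoW (D : SqData T₁ W₁ V₁ Q₁) (w : W₁) : w + w = 0 := by
  obtain ⟨t, ht⟩ := D.surj (Multiplicative.ofAdd w)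
  have h := D.pi_sq t
  rw [ht] at h
  exact h

theorem card (D : SqData T₁ W₁ V₁ Q₁) [Finite T₁] : Nat.card T₁ = Nat.card W₁ * Nat.card V₁ := by
  have h1 := Subgroup.card_eq_card_quotient_mul_card_subgroup D.π.ker
  rw [h1]
  congr 1
  · rw [Nat.card_congr (QuotientGroup.quotientKerEquivOfSurjective D.π D.surj).toEquiv]
    rfl
  · have h2 : D.π.ker = D.ι.range := by
      ext t
      rw [MonoidHom.mem_ker, D.exact, MonoidHom.mem_range]
    rw [h2, ← Nat.card_congr (MonoidHom.ofInjective D.inj).toEquiv]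
    rfl

end SqData

/-- **Main lemma**: the squaring map determines the group. -/
theorem iso_of_sq [Finite T₁] [Finite T₂] (D₁ : SqData T₁ W₁ V₁ Q₁) (D₂ : SqData T₂ W₂ V₂ Q₂)
    (A : W₁ ≃+ W₂) (B : V₁ ≃+ V₂) (h : ∀ w, Q₂ (A w) = B (Q₁ w)) :
    ∃ φ : T₁ ≃* T₂, (∀ t, Multiplicative.toAdd (D₂.π (φ t)) = A (Multiplicative.toAdd (D₁.π t))) ∧
      ∀ v, φ (D₁.ι (Multiplicative.ofAdd v)) = D₂.ι (Multiplicative.ofAdd (B v)) := by
  classical
  let A' : Multiplicative W₁ ≃* Multiplicative W₂ := AddEquiv.toMultiplicative A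
  let B' : Multiplicative V₁ ≃* Multiplicative V₂ := AddEquiv.toMultiplicative B
  have hB : ∀ w, D₂.ι (Multiplicative.ofAdd (Q₂ (Multiplicative.toAdd (A' w)))) =
      D₂.ι (B' (Multiplicative.ofAdd (Q₁ (Multiplicative.toAdd w)))) := by
    intro w
    congr 1
    exact congrArg _ (h _)
  -- the family of partial isomorphisms
  let S : Set (Subgroup (T₁ × T₂)) := {Γ | (∀ p ∈ Γ, D₂.π p.2 = A' (D₁.π p.1)) ∧
    (∀ v, (D₁.ι v, D₂.ι (B' v)) ∈ Γ) ∧ ∀ p ∈ Γ, D₁.π p.1 = 1 → ∃ v, p = (D₁.ι v, D₂.ι (B' v))}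
  have hS0 : (((D₁.ι).prod ((D₂.ι).comp B'.toMonoidHom)).range) ∈ S := by
    refine ⟨?_, ?_, ?_⟩
    · rintro p ⟨v, rfl⟩
      show D₂.π (D₂.ι (B' v)) = A' (D₁.π (D₁.ι v))
      rw [D₁.pi_iota, D₂.pi_iota, map_one]
    · intro v
      exact ⟨v, rfl⟩
    · rintro p ⟨v, rfl⟩ _
      exact ⟨v, rfl⟩
  obtain ⟨Γ, hΓ⟩ := (Set.toFinite S).exists_maximal ⟨_, hS0⟩
  obtain ⟨⟨h1, h2, h3⟩, hmax⟩ := hΓ
  -- squares
  have hsq : ∀ m : T₁ × T₂, D₂.π m.2 = A' (D₁.π m.1) → ∃ v, m * m = (D₁.ι v, D₂.ι (B' v)) := by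
    rintro ⟨a, b⟩ hm
    refine ⟨Multiplicative.ofAdd (Q₁ (Multiplicative.toAdd (D₁.π a))), ?_⟩
    ext
    · exact D₁.sq a
    · show b * b = _
      rw [D₂.sq b]
      have : D₂.π b = A' (D₁.π a) := hm
      rw [this, hB]
  have hcen : ∀ v (m : T₁ × T₂), (D₁.ι v, D₂.ι (B' v)) * m = m * (D₁.ι v, D₂.ι (B' v)) := by
    rintro v ⟨a, b⟩
    ext
    · exact D₁.central _ _
    · exact D₂.central _ _
  have hfull : ∀ m : T₁ × T₂, D₂.π m.2 = A' (D₁.π m.1) → ∃ v, m * (1, D₂.ι v) ∈ Γ := by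
    intro m hm
    by_contra hcon
    push Not at hcon
    -- `m ∉ Γ (V × V)`
    have hnot : ∀ p ∈ Γ, D₁.π p.1 ≠ D₁.π m.1 := by
      intro p hp hpm
      have e1 : D₁.π (m.1⁻¹ * p.1) = 1 := by rw [map_mul, map_inv, hpm, inv_mul_cancel]
      obtain ⟨v, hv⟩ := (D₁.exact _).1 e1
      have e2 : D₂.π (m.2⁻¹ * p.2) = 1 := by rw [map_mul, map_inv, h1 p hp, hpm, ← hm, inv_mul_cancel]
      obtain ⟨v', hv'⟩ := (D₂.exact _).1 e2
      apply hcon (v' * (B' v)⁻¹)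
      have e3 := Γ.mul_mem hp (Γ.inv_mem (h2 v))
      have e4 : p * (D₁.ι v, D₂.ι (B' v))⁻¹ = m * (1, D₂.ι (v' * (B' v)⁻¹)) := by
        ext
        · show p.1 * (D₁.ι v)⁻¹ = m.1 * 1
          rw [hv]; group
        · show p.2 * (D₂.ι (B' v))⁻¹ = m.2 * D₂.ι (v' * (B' v)⁻¹)
          rw [map_mul, hv', map_inv]; group
      rwa [e4] at e3
    have hmul : ∀ x y : T₁ × T₂, D₂.π x.2 = A' (D₁.π x.1) → D₂.π y.2 = A' (D₁.π y.1) →
        D₂.π (x * y).2 = A' (D₁.π (x * y).1) := by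
      intro x y hx hy
      rw [Prod.snd_mul, Prod.fst_mul, map_mul, map_mul, map_mul, hx, hy]
    -- squares are in `Γ`
    have hsqΓ : ∀ x : T₁ × T₂, D₂.π x.2 = A' (D₁.π x.1) → x * x ∈ Γ := by
      intro x hx
      obtain ⟨v, hv⟩ := hsq x hx
      rw [hv]; exact h2 v
    have hmm : m * m ∈ Γ := hsqΓ m hm
    have hnorm : ∀ p ∈ Γ, m * p * m⁻¹ ∈ Γ := by
      intro p hp
      obtain ⟨v, hv⟩ := hsq m hm
      have e1 : m * p * m⁻¹ = (m * p) * (m * p) * (m * m)⁻¹ * p⁻¹ := by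
        have e2 := hcen v (p⁻¹)
        rw [← hv] at e2
        have e3 : (m * m)⁻¹ * p⁻¹ = p⁻¹ * (m * m)⁻¹ := by
          rw [inv_mul_eq_iff_eq_mul, ← mul_assoc, e2, mul_assoc, mul_inv_cancel, mul_one]
        calc m * p * m⁻¹ = (m * p) * (m * p) * (p⁻¹ * (m * m)⁻¹) := by group
          _ = (m * p) * (m * p) * ((m * m)⁻¹ * p⁻¹) := by rw [e3]
          _ = (m * p) * (m * p) * (m * m)⁻¹ * p⁻¹ := by rw [← mul_assoc]
      rw [e1]
      exact Γ.mul_mem (Γ.mul_mem (hsqΓ _ (hmul _ _ hm (h1 p hp))) (Γ.inv_mem hmm)) (Γ.inv_mem hp)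
    have hnorm' : ∀ p ∈ Γ, m⁻¹ * p * m ∈ Γ := by
      intro p hp
      have e1 := hnorm _ (Γ.mul_mem (Γ.mul_mem (Γ.inv_mem hmm) hp) hmm)
      have e2 : m * ((m * m)⁻¹ * p * (m * m)) * m⁻¹ = m⁻¹ * p * m := by group
      rwa [e2] at e1
    let Γ' : Subgroup (T₁ × T₂) :=
      { carrier := {p | p ∈ Γ ∨ p * m ∈ Γ}
        one_mem' := Or.inl Γ.one_mem
        mul_mem' := by
          rintro x y (hx | hx) (hy | hy)
          · exact Or.inl (Γ.mul_mem hx hy)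
          · right
            show x * y * m ∈ Γ
            rw [mul_assoc]; exact Γ.mul_mem hx hy
          · right
            show x * y * m ∈ Γ
            have e1 : x * y * m = (x * m) * (m⁻¹ * y * m) := by group
            rw [e1]; exact Γ.mul_mem hx (hnorm' _ hy)
          · left
            show x * y ∈ Γ
            have e1 : x * y = (x * m) * (m⁻¹ * (y * m) * m) * (m * m)⁻¹ := by group
            rw [e1]; exact Γ.mul_mem (Γ.mul_mem hx (hnorm' _ hy)) (Γ.inv_mem hmm)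
        inv_mem' := by
          rintro x (hx | hx)
          · exact Or.inl (Γ.inv_mem hx)
          · right
            show x⁻¹ * m ∈ Γ
            have e1 : x⁻¹ * m = m * (x * m)⁻¹ * m⁻¹ * (m * m) := by group
            rw [e1]; exact Γ.mul_mem (hnorm _ (Γ.inv_mem hx)) hmm }
    have hΓΓ' : Γ ≤ Γ' := fun p hp => Or.inl hp
    have hmΓ' : m ∈ Γ' := Or.inr hmm
    have hΓ'S : Γ' ∈ S := by
      refine ⟨?_, fun v => Or.inl (h2 v), ?_⟩
      · rintro p (hp | hp)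
        · exact h1 p hp
        · have e1 := h1 _ hp
          rw [Prod.snd_mul, Prod.fst_mul, map_mul, map_mul, map_mul, hm] at e1
          exact mul_right_cancel e1
      · rintro p (hp | hp) hp1
        · exact h3 p hp hp1
        · exfalso
          apply hnot _ hp
          rw [Prod.fst_mul, map_mul, hp1, one_mul]
    have h4 := hmax hΓ'S hΓΓ'
    exact hnot m (h4 hmΓ') rfl
  -- the isomorphism
  have hex : ∀ t : T₁, ∃ s : T₂, (t, s) ∈ Γ := by
    intro t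
    obtain ⟨s, hs⟩ := D₂.surj (A' (D₁.π t))
    obtain ⟨v, hv⟩ := hfull (t, s) hs
    refine ⟨s * D₂.ι v, ?_⟩
    have : ((t, s) : T₁ × T₂) * (1, D₂.ι v) = (t, s * D₂.ι v) := by simp
    rwa [this] at hv
  have huniq : ∀ (t : T₁) (s s' : T₂), (t, s) ∈ Γ → (t, s') ∈ Γ → s = s' := by
    intro t s s' hs hs'
    have e1 := Γ.mul_mem (Γ.inv_mem hs) hs'
    have e2 : ((t, s) : T₁ × T₂)⁻¹ * (t, s') = (1, s⁻¹ * s') := by simp
    rw [e2] at e1
    obtain ⟨v, hv⟩ := h3 _ e1 (map_one _)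
    have e3 : (1 : T₁) = D₁.ι v := congrArg Prod.fst hv
    have e4 : s⁻¹ * s' = D₂.ι (B' v) := congrArg Prod.snd hv
    have e5 : v = 1 := D₁.inj (by rw [← e3, map_one])
    rw [e5, map_one, map_one] at e4
    exact (inv_mul_eq_one.1 e4)
  have huniq' : ∀ (t t' : T₁) (s : T₂), (t, s) ∈ Γ → (t', s) ∈ Γ → t = t' := by
    intro t t' s hs hs'
    have e1 := Γ.mul_mem (Γ.inv_mem hs) hs'
    have e2 : ((t, s) : T₁ × T₂)⁻¹ * (t', s) = (t⁻¹ * t', 1) := by simp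
    rw [e2] at e1
    have e6 : D₁.π (t⁻¹ * t') = 1 := by
      have := h1 _ e1
      simp only [map_one] at this
      exact A'.injective (by rw [← this, map_one])
    obtain ⟨v, hv⟩ := h3 _ e1 e6
    have e3 : (1 : T₂) = D₂.ι (B' v) := congrArg Prod.snd hv
    have e4 : t⁻¹ * t' = D₁.ι v := congrArg Prod.fst hv
    have e5 : v = 1 := B'.injective (D₂.inj (by rw [← e3, map_one, map_one]))
    rw [e5, map_one] at e4
    exact (inv_mul_eq_one.1 e4)
  have hex' : ∀ s : T₂, ∃ t : T₁, (t, s) ∈ Γ := by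
    intro s
    obtain ⟨t, ht⟩ := D₁.surj (A'.symm (D₂.π s))
    obtain ⟨v, hv⟩ := hfull (t, s) (by show D₂.π s = A' (D₁.π t); rw [ht, A'.apply_symm_apply])
    have e1 := Γ.mul_mem hv (Γ.inv_mem (h2 (B'.symm v)))
    have e2 : ((t, s) : T₁ × T₂) * (1, D₂.ι v) * (D₁.ι (B'.symm v), D₂.ι (B' (B'.symm v)))⁻¹ =
        (t * (D₁.ι (B'.symm v))⁻¹, s) := by
      ext
      · simp
      · simp
    rw [e2] at e1
    exact ⟨_, e1⟩
  choose f hf using hex
  have hfmul : ∀ a b, f (a * b) = f a * f b := by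
    intro a b
    exact huniq _ _ _ (hf (a * b)) (Γ.mul_mem (hf a) (hf b))
  let φ₀ : T₁ →* T₂ := MonoidHom.mk' f hfmul
  have hbij : Function.Bijective φ₀ := by
    constructor
    · intro a b hab
      have hab' : f a = f b := hab
      have := hf a
      rw [hab'] at this
      exact huniq' _ _ _ this (hf b)
    · intro s
      obtain ⟨t, ht⟩ := hex' s
      exact ⟨t, huniq _ _ _ (hf t) ht⟩
  refine ⟨MulEquiv.ofBijective φ₀ hbij, fun t => ?_, fun v => ?_⟩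
  · exact h1 _ (hf t)
  · exact huniq _ _ _ (hf _) (h2 (Multiplicative.ofAdd v))

end Cfsg.Agent.H21.Sq
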