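import Cfsg.Agent.H21.SI3
import Cfsg.Agent.H21.SqBase

/-! From the setup to the structure; the squaring map in the nonabelian case. -/

set_option autoImplicit false

namespace Cfsg.Agent.H21.SI

open AStr Str

universe u v

section Build

variable {T : Type u} [Group T] {F : Type v} [Field F] {lam : F}

/-- the subgroup of the elements `x⁻¹ α(x)` -/
def Cfg.BB (D : Cfg T F lam) (hcl : ∀ x y, ∃ z, D.u x * D.u y = D.u z) : Subgroup T where
  carrier := Set.range D.u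
  one_mem' := ⟨1, (D.u_eq_one_iff 1).2 (map_one _)⟩
  mul_mem' := by
    rintro _ _ ⟨x, rfl⟩ ⟨y, rfl⟩
    obtain ⟨z, hz⟩ := hcl x y
    exact ⟨z, hz.symm⟩
  inv_mem' := by
    rintro _ ⟨x, rfl⟩
    exact ⟨D.α x, D.u_α x⟩

variable (D : Cfg T F lam) (hcl : ∀ x y, ∃ z, D.u x * D.u y = D.u z)

theorem Cfg.BB_inv {b : T} (hb : b ∈ D.BB hcl) : D.α b = b⁻¹ := by
  obtain ⟨x, rfl⟩ := hb
  exact D.α_u x

theorem Cfg.BB_comm {a b : T} (ha : a ∈ D.BB hcl) (hb : b ∈ D.BB hcl) : a * b = b * a := by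
  have h1 := D.BB_inv hcl (Subgroup.mul_mem _ ha hb)
  rw [map_mul, D.BB_inv hcl ha, D.BB_inv hcl hb, mul_inv_rev] at h1
  have h2 := congrArg (fun z => z⁻¹) h1
  simp only [mul_inv_rev, inv_inv] at h2
  exact h2.symm

theorem Cfg.BB_normal : (D.BB hcl).Normal := by
  constructor
  rintro _ ⟨x, rfl⟩ g
  have h1 := D.u_mul x g⁻¹
  rw [inv_inv] at h1
  have h2 : g * D.u x * g⁻¹ = D.u (x * g⁻¹) * (D.u g⁻¹)⁻¹ := by rw [h1]; group
  rw [h2]
  exact Subgroup.mul_mem _ ⟨_, rfl⟩ (Subgroup.inv_mem _ ⟨_, rfl⟩)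

/-- commutative group structure on `BB` -/
@[implicit_reducible] def Cfg.BBComm : CommGroup ↥(D.BB hcl) :=
  { (inferInstance : Group ↥(D.BB hcl)) with
    mul_comm := fun a b => Subtype.ext (D.BB_comm hcl a.2 b.2) }

theorem exists_str [Finite T] [CharP F 2] (hT : IsPGroup 2 T) (hl : Gen lam) (hρ : Function.Injective D.ρ)
    (hne : ∃ x, D.α x ≠ x) :
    ∃ (A : Type u) (_ : CommGroup A) (_ : Finite A) (E : Str T A F lam) (m : ℕ), Lev A m ∧ (∀ x, E.α x = D.α x) ∧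
      (∀ x, E.ρT x = D.ρ x) ∧ ∀ a, a * a = 1 → E.ε a = D.ε (E.inc a) := by
  have hp : Fact (Nat.Prime 2) := ⟨Nat.prime_two⟩
  have hcl := closed hl _ T rfl hT D hρ
  let B := D.BB hcl
  let _ : CommGroup ↥B := D.BBComm hcl
  have hBn : (D.BB hcl).Normal := D.BB_normal hcl
  have hfix : ∀ a : ↥B, a * a = 1 → D.α a = a := by
    intro a ha
    rw [D.BB_inv hcl a.2]
    have h1 : (a : T) * a = 1 := congrArg Subtype.val ha
    exact inv_eq_of_mul_eq_one_right h1
  have hfixB : ∀ x, D.α x = x → x ∈ D.BB hcl := by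
    intro x hx
    by_cases hx1 : x = 1
    · rw [hx1]; exact Subgroup.one_mem _
    obtain ⟨x0, hx0⟩ := hne
    have h1 : D.u x0 ≠ 1 := fun h => hx0 ((D.u_eq_one_iff x0).1 h)
    have : Nontrivial ↥(D.BB hcl) := ⟨⟨D.u x0, x0, rfl⟩, 1, fun h => h1 (congrArg Subtype.val h)⟩
    obtain ⟨k, hk0, hk⟩ := (hT.to_subgroup (D.BB hcl)).nontrivial_iff_card.1 this
    obtain ⟨z, hz⟩ := exists_prime_orderOf_dvd_card' (G := ↥(D.BB hcl)) 2 (by rw [hk]; exact dvd_pow_self 2 hk0.ne')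
    have hzz : (z : T) * z = 1 := by
      have : z ^ 2 = 1 := by rw [← hz, pow_orderOf_eq_one]
      rw [pow_two] at this
      exact congrArg Subtype.val this
    have hz1 : (z : T) ≠ 1 := by
      intro h
      have : z = 1 := Subtype.ext h
      rw [this, orderOf_one] at hz
      omega
    obtain ⟨j, hj⟩ := D.iter hl (hfix z (Subtype.ext hzz)) hz1 hx hx1
    rw [← hj]
    refine D.iter_mem (H := D.BB hcl) ?_ z.2 j
    rintro _ ⟨y, rfl⟩
    exact ⟨D.ρ y, D.u_ρ y⟩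
  let E0 : AStr ↥B F lam :=
    { ρ := (D.ρ.comp B.subtype).codRestrict B (by
        rintro ⟨_, y, rfl⟩
        exact ⟨D.ρ y, D.u_ρ y⟩)
      ε := fun a => D.ε a
      ε_mul := fun a b ha hb => D.ε_mul _ _ (hfix a ha) (hfix b hb)
      ε_inj := fun a ha h => Subtype.ext (D.ε_inj _ (hfix a ha) h)
      ε_surj := fun s => by
        obtain ⟨x, hx, hs⟩ := D.ε_surj s
        exact ⟨⟨x, hfixB x hx⟩, Subtype.ext (D.fix_sq hx), hs⟩
      ε_ρ := fun a ha => D.ε_ρ _ (hfix a ha) }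
  have hA : IsPGroup 2 ↥B := hT.to_subgroup _
  obtain ⟨m, L⟩ := E0.exists_lev hA hl
  let E : Str T ↥B F lam :=
    { E0 with
      α := D.α
      ρT := D.ρ
      inc := B.subtype
      inc_inj := Subtype.val_injective
      inc_ρ := fun a => rfl
      cj := fun x => (MulAut.conjNormal (H := D.BB hcl) x⁻¹).toMonoidHom
      inc_cj := fun x a => by
        show ((MulAut.conjNormal (H := D.BB hcl) x⁻¹ a : ↥(D.BB hcl)) : T) = x⁻¹ * a * x
        rw [MulAut.conjNormal_apply, inv_inv]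
      u := fun x => ⟨D.u x, x, rfl⟩
      inc_u := fun x => rfl
      u_surj := by
        rintro ⟨_, x, rfl⟩
        exact ⟨x, rfl⟩
      α_inc := fun a => D.BB_inv hcl a.2
      invol := D.invol
      comm := D.comm
      fixA := fun x hx => ⟨⟨x, hfixB x hx⟩, rfl⟩
      cen := fun a ha x => ((Subgroup.mem_center_iff.1 (D.central hT hl hρ (hfix a ha))) x).symm }
  exact ⟨↥B, inferInstance, inferInstance, E, m, L, fun _ => rfl, fun _ => rfl, fun _ _ => rfl⟩

end Build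

variable {T : Type u} [Group T] {A : Type u} [CommGroup A] {F : Type v} [Field F] {lam : F}

/-- in the nonabelian case `A` is homocyclic of exponent four and all squares are fixed -/
theorem nonab [Finite F] [CharP F 2] (D : Str T A F lam) (hl : Gen lam) (h4 : ∃ t : F, t ≠ 0 ∧ t ≠ 1) {m : ℕ} (L : Lev A m)
    (hna : ∃ x y : T, x * y ≠ y * x) :
    m = 1 ∧ (∀ a x, D.ε (D.g a x) * D.ε (D.g a x) = D.ω₂ 1 a * D.ω 1 x) ∧ ∀ x s, D.inc s = x * x → D.ω₂ 1 s = 0 := by
  obtain ⟨x, y, hxy⟩ := hna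
  rcases m with _ | n
  · exfalso
    apply hxy
    apply D.comm_of_central hl L
    intro a x
    apply D.cen
    have := L.P0 a
    rw [zero_add, pow_one, pow_two] at this
    exact this
  · rcases D.dich hl L with h | ⟨h1, h2⟩
    · exact absurd (D.comm_of_sq hl L h x y) hxy
    · have hn := D.second L h4 h1
      subst hn
      refine ⟨rfl, fun a x => ?_, h2⟩
      have := h1 a x
      rwa [pow_zero, pow_one] at this

/-- the equivariant extension of `ω₂` -/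
theorem exists_eta [Finite F] [CharP F 2] (D : Str T A F lam) (L : Lev A 1)
    (hsq : ∀ x s, D.inc s = x * x → D.ω₂ 1 s = 0) {N : ℕ} (hN : Odd N) (hρN : ∀ x, (D.ρT^[N]) x = x) :
    ∃ η : T → F, (∀ x y, η (x * y) = η x + η y) ∧ (∀ a, η (D.inc a) = D.ω₂ 1 a) ∧ ∀ x, η (D.ρT x) = lam * η x := by
  classical
  -- the central subgroup
  let C : Subgroup T :=
    { carrier := {x | ∃ a : A, a * a = 1 ∧ D.inc a = x}
      one_mem' := ⟨1, one_mul 1, map_one _⟩
      mul_mem' := by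
        rintro _ _ ⟨a, ha, rfl⟩ ⟨b, hb, rfl⟩
        exact ⟨a * b, sq_mul ha hb, map_mul _ _ _⟩
      inv_mem' := by
        rintro _ ⟨a, ha, rfl⟩
        exact ⟨a⁻¹, sq_inv ha, map_inv _ _⟩ }
  have hCn : C.Normal := by
    constructor
    rintro _ ⟨a, ha, rfl⟩ g
    rw [← D.cen a ha, mul_assoc, mul_inv_cancel, mul_one]
    exact ⟨a, ha, rfl⟩
  have hω2 : ∀ a : A, D.ω₂ 1 a = 0 ↔ a * a = 1 := by
    intro a
    constructor
    · intro h
      have h1 := D.ε_inj _ (pow_sq L) h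
      rwa [pow_one, pow_two] at h1
    · intro h
      rw [ω₂, pow_one, pow_two, h, D.ε_one]
  have hsqC : ∀ x : T, x * x ∈ C := by
    intro x
    obtain ⟨s, hs⟩ := D.exists_s L x
    exact ⟨s, (hω2 s).1 (hsq x s hs), hs⟩
  have hexp : ∀ y : T ⧸ C, y * y = 1 := by
    intro y
    induction y using QuotientGroup.induction_on with
    | H y =>
      rw [← QuotientGroup.mk_mul, QuotientGroup.eq_one_iff]
      exact hsqC y
  have hcomm : ∀ x y : T ⧸ C, x * y = y * x := by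
    intro x y
    have h1 : ∀ z : T ⧸ C, z⁻¹ = z := fun z => inv_eq_of_mul_eq_one_right (hexp z)
    have h2 := h1 (x * y)
    rw [mul_inv_rev, h1, h1] at h2
    exact h2.symm
  let _ : CommGroup (T ⧸ C) := { (inferInstance : Group (T ⧸ C)) with mul_comm := hcomm }
  let V := Additive (T ⧸ C)
  let _ : Module (ZMod 2) V := AddCommGroup.zmodModule (fun x => by
    rw [two_nsmul]
    exact hexp (Additive.toMul x))
  let _ : Algebra (ZMod 2) F := ZMod.algebra F 2
  let mk : T → V := fun x => Additive.ofMul (QuotientGroup.mk x : T ⧸ C)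
  have mk_mul : ∀ x y, mk (x * y) = mk x + mk y := fun x y => rfl
  have mk_eq : ∀ x y : T, mk x = mk y ↔ x⁻¹ * y ∈ C := fun x y => QuotientGroup.eq
  choose σ hσ using D.ω₂_surj L
  have hwell : ∀ a b : A, D.ω₂ 1 a = D.ω₂ 1 b → mk (D.inc a) = mk (D.inc b) := by
    intro a b hab
    rw [mk_eq]
    refine ⟨a⁻¹ * b, ?_, by rw [map_mul, map_inv]⟩
    rw [← hω2, D.ω₂_mul L]
    have h1 := D.ω₂_mul L a⁻¹ a
    rw [inv_mul_cancel] at h1
    have h2 : D.ω₂ 1 (1 : A) = 0 := (hω2 1).2 (one_mul 1)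
    rw [h2] at h1
    rw [← hab, ← h1]
  let i0 : F →+ V :=
    { toFun := fun s => mk (D.inc (σ s))
      map_zero' := by
        have h1 := hwell (σ 0) 1 (by rw [hσ]; exact ((hω2 1).2 (one_mul 1)).symm)
        rw [h1, map_one]; rfl
      map_add' := fun s t => by
        have h1 := hwell (σ (s + t)) (σ s * σ t) (by rw [hσ, D.ω₂_mul L, hσ, hσ])
        rw [h1, map_mul]; rfl }
  let i : F →ₗ[ZMod 2] V := i0.toZModLinearMap 2
  have hi : ∀ a, i (D.ω₂ 1 a) = mk (D.inc a) := fun a => hwell _ _ (hσ _)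
  have hinj : LinearMap.ker i = ⊥ := by
    rw [LinearMap.ker_eq_bot']
    intro s hs
    obtain ⟨a, rfl⟩ := D.ω₂_surj L s
    rw [hi] at hs
    have h1 : mk (D.inc a) = mk 1 := hs
    rw [mk_eq, mul_one] at h1
    obtain ⟨b, hb, hb'⟩ := h1
    rw [hω2]
    have h2 : b = a⁻¹ := D.inc_inj (by rw [hb', map_inv])
    rw [h2] at hb
    have := sq_inv hb
    rwa [inv_inv] at this
  obtain ⟨r, hr⟩ := LinearMap.exists_leftInverse_of_injective i hinj
  have hri : ∀ s, r (i s) = s := fun s => LinearMap.congr_fun hr s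
  let η₀ : T → F := fun x => r (mk x)
  have η₀mul : ∀ x y, η₀ (x * y) = η₀ x + η₀ y := fun x y => by
    show r (mk (x * y)) = _
    rw [mk_mul, map_add]
  have η₀inc : ∀ a, η₀ (D.inc a) = D.ω₂ 1 a := fun a => by
    show r (mk (D.inc a)) = _
    rw [← hi, hri]
  -- averaging
  have hiter : ∀ k x y, (D.ρT^[k]) (x * y) = (D.ρT^[k]) x * (D.ρT^[k]) y := by
    intro k
    induction k with
    | zero => intro x y; rfl
    | succ k ih => intro x y; rw [Function.iterate_succ_apply', Function.iterate_succ_apply', Function.iterate_succ_apply', ih, map_mul]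
  have hiterinc : ∀ k a, ∃ b, (D.ρT^[k]) (D.inc a) = D.inc b ∧ D.ω₂ 1 b = lam ^ k * D.ω₂ 1 a := by
    intro k
    induction k with
    | zero => intro a; exact ⟨a, rfl, by rw [pow_zero, one_mul]⟩
    | succ k ih =>
      intro a
      obtain ⟨b, hb, hb2⟩ := ih a
      refine ⟨D.ρ b, ?_, ?_⟩
      · rw [Function.iterate_succ_apply', hb, D.inc_ρ]
      · rw [D.ω₂_ρ L, hb2, pow_succ]; ring
  have hlamN : lam ^ N = 1 := by
    obtain ⟨a, ha⟩ := D.ω₂_surj L 1
    obtain ⟨b, hb, hb2⟩ := hiterinc N a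
    rw [hρN] at hb
    have := D.inc_inj hb
    rw [← this, ha, mul_one] at hb2
    exact hb2.symm
  have hlam0 : lam ≠ 0 := by
    rintro rfl
    rw [zero_pow hN.pos.ne'] at hlamN
    exact zero_ne_one hlamN
  let η : T → F := fun x => ∑ k ∈ Finset.range N, (lam ^ k)⁻¹ * η₀ ((D.ρT^[k]) x)
  refine ⟨η, ?_, ?_, ?_⟩
  · intro x y
    show ∑ k ∈ Finset.range N, (lam ^ k)⁻¹ * η₀ ((D.ρT^[k]) (x * y)) = _ + _
    rw [← Finset.sum_add_distrib]
    apply Finset.sum_congr rfl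
    intro k _
    rw [hiter, η₀mul]; ring
  · intro a
    have h1 : ∀ k ∈ Finset.range N, (lam ^ k)⁻¹ * η₀ ((D.ρT^[k]) (D.inc a)) = D.ω₂ 1 a := by
      intro k _
      obtain ⟨b, hb, hb2⟩ := hiterinc k a
      rw [hb, η₀inc, hb2, ← mul_assoc, inv_mul_cancel₀ (pow_ne_zero _ hlam0), one_mul]
    show ∑ k ∈ Finset.range N, (lam ^ k)⁻¹ * η₀ ((D.ρT^[k]) (D.inc a)) = _
    rw [Finset.sum_congr rfl h1, Finset.sum_const, Finset.card_range]
    obtain ⟨M, rfl⟩ := hN
    rw [add_smul, mul_smul, one_smul, two_nsmul, CharTwo.add_self_eq_zero, zero_add]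
  · intro x
    show ∑ k ∈ Finset.range N, (lam ^ k)⁻¹ * η₀ ((D.ρT^[k]) (D.ρT x)) = lam * ∑ k ∈ Finset.range N, (lam ^ k)⁻¹ * η₀ ((D.ρT^[k]) x)
    have h1 : ∀ k, (lam ^ k)⁻¹ * η₀ ((D.ρT^[k]) (D.ρT x)) = lam * ((lam ^ (k + 1))⁻¹ * η₀ ((D.ρT^[k + 1]) x)) := by
      intro k
      rw [← Function.iterate_succ_apply, pow_succ, mul_inv]
      have : lam * ((lam ^ k)⁻¹ * lam⁻¹ * η₀ ((D.ρT^[k + 1]) x)) = (lam * lam⁻¹) * ((lam ^ k)⁻¹ * η₀ ((D.ρT^[k + 1]) x)) := by ring
      rw [this, mul_inv_cancel₀ hlam0, one_mul]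
    rw [Finset.sum_congr rfl (fun k _ => h1 k), ← Finset.mul_sum]
    congr 1
    have h2 := Finset.sum_range_succ (fun k => (lam ^ k)⁻¹ * η₀ ((D.ρT^[k]) x)) N
    rw [Finset.sum_range_succ'] at h2
    rw [hρN, hlamN, pow_zero] at h2
    exact add_right_cancel h2

end Cfsg.Agent.H21.SI
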