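import Cfsg.Agent.H21.SI4

/-! The squaring map in the nonabelian case is a binary quadratic form. -/

set_option autoImplicit false

namespace Cfsg.Agent.H21.SI

open AStr Str Sq

universe u v

variable {T : Type u} [Group T] {A : Type u} [CommGroup A] {F : Type v} [Field F] {lam : F}

theorem quad_data [Finite F] [CharP F 2] (D : Str T A F lam) (hl : Gen lam) (L : Lev A 1)
    (hg : ∀ a x, D.ε (D.g a x) * D.ε (D.g a x) = D.ω₂ 1 a * D.ω 1 x)
    (hsq : ∀ x s, D.inc s = x * x → D.ω₂ 1 s = 0) {N : ℕ} (hN : Odd N) (hρN : ∀ x, (D.ρT^[N]) x = x) :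
    ∃ e : F, Nonempty (SqData T (F × F) F (fun w => w.1 * w.1 + w.1 * w.2 + e * (w.2 * w.2))) := by
  classical
  obtain ⟨η, ηmul, ηinc, ηρ⟩ := exists_eta D L hsq hN hρN
  have hω2 : ∀ a : A, D.ω₂ 1 a = 0 ↔ a * a = 1 := by
    intro a
    constructor
    · intro h
      have h1 := D.ε_inj _ (pow_sq L) h
      rwa [pow_one, pow_two] at h1
    · intro h
      rw [ω₂, pow_one, pow_two, h, D.ε_one]
  have hω2' : ∀ a : A, D.ω₂ 1 a = D.ε (a * a) := fun a => by rw [ω₂, pow_one, pow_two]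
  have haa : ∀ a : A, (a * a) * (a * a) = 1 := fun a => by
    have := pow_sq L (a := a)
    rwa [pow_one, pow_two] at this
  -- squares
  have hexs : ∀ x : T, ∃ s : A, D.inc s = x * x ∧ s * s = 1 := by
    intro x
    obtain ⟨s, hs⟩ := D.exists_s L x
    exact ⟨s, hs, (hω2 s).1 (hsq x s hs)⟩
  choose s hs hss using hexs
  have hgg : ∀ a x, D.g a x * D.g a x = 1 := by
    intro a x
    obtain ⟨e, he⟩ := D.H1 L a x
    rw [he, pow_one, pow_two]; exact haa e
  have sone : s 1 = 1 := D.inc_inj (by rw [hs, map_one, one_mul])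
  have sinc : ∀ a, s (D.inc a) = a * a := fun a => D.inc_inj (by rw [hs, map_mul])
  -- polarisation
  let κ : T → T → A := fun x y => s (x * y) * (s x * s y)
  have κκ : ∀ x y, κ x y * κ x y = 1 := fun x y => sq_mul (hss _) (sq_mul (hss _) (hss _))
  have sκ : ∀ x y, s (x * y) = s x * s y * κ x y := by
    intro x y
    show s (x * y) = s x * s y * (s (x * y) * (s x * s y))
    calc s (x * y) = s (x * y) * ((s x * s x) * (s y * s y)) := by rw [hss, hss, one_mul, mul_one]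
      _ = _ := by simp only [mul_assoc, mul_left_comm, mul_comm]
  -- `κ` is the commutator
  have κcom : ∀ x y, D.inc (κ x y) = y⁻¹ * x⁻¹ * y * x := by
    intro x y
    have h1 := D.cen (s x) (hss x)
    have h2 := D.cen (s y) (hss y)
    have h3 : D.inc (s (x * y)) = x * y * (x * y) := hs _
    rw [sκ, map_mul, map_mul] at h3
    have h4 : D.inc (κ x y) = (D.inc (s x) * D.inc (s y))⁻¹ * (x * y * (x * y)) := by rw [← h3]; group
    rw [h4, mul_inv_rev]
    have h5 : ∀ z, (D.inc (s x))⁻¹ * z = z * (D.inc (s x))⁻¹ := by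
      intro z
      rw [inv_mul_eq_iff_eq_mul, ← mul_assoc, h1 z, mul_assoc, mul_inv_cancel, mul_one]
    have h6 : ∀ z, (D.inc (s y))⁻¹ * z = z * (D.inc (s y))⁻¹ := by
      intro z
      rw [inv_mul_eq_iff_eq_mul, ← mul_assoc, h2 z, mul_assoc, mul_inv_cancel, mul_one]
    have h7 : (D.inc (s x))⁻¹ = x⁻¹ * x⁻¹ := by rw [hs]; group
    have h8 : (D.inc (s y))⁻¹ = y⁻¹ * y⁻¹ := by rw [hs]; group
    calc (D.inc (s y))⁻¹ * (D.inc (s x))⁻¹ * (x * y * (x * y))
        = (D.inc (s y))⁻¹ * (((D.inc (s x))⁻¹ * (x * y * x)) * y) := by group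
      _ = (D.inc (s y))⁻¹ * (((x * y * x) * (D.inc (s x))⁻¹) * y) := by rw [h5]
      _ = (D.inc (s y))⁻¹ * (x * y * x⁻¹ * y) := by rw [h7]; group
      _ = (x * y * x⁻¹ * y) * (D.inc (s y))⁻¹ := h6 _
      _ = x * y * x⁻¹ * y⁻¹ := by rw [h8]; group
      _ = y⁻¹ * x⁻¹ * y * x := by
        -- the commutator is central of order two
        have h9 : D.inc (κ x y) = x * y * x⁻¹ * y⁻¹ := by
          rw [h4, mul_inv_rev]
          calc (D.inc (s y))⁻¹ * (D.inc (s x))⁻¹ * (x * y * (x * y))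
            = (D.inc (s y))⁻¹ * (((D.inc (s x))⁻¹ * (x * y * x)) * y) := by group
            _ = (D.inc (s y))⁻¹ * (((x * y * x) * (D.inc (s x))⁻¹) * y) := by rw [h5]
            _ = (D.inc (s y))⁻¹ * (x * y * x⁻¹ * y) := by rw [h7]; group
            _ = (x * y * x⁻¹ * y) * (D.inc (s y))⁻¹ := h6 _
            _ = x * y * x⁻¹ * y⁻¹ := by rw [h8]; group
        have h10 := D.cen (κ x y) (κκ x y) (y * x)
        rw [h9] at h10
        calc x * y * x⁻¹ * y⁻¹ = (y * x)⁻¹ * ((y * x) * (x * y * x⁻¹ * y⁻¹)) := by group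
          _ = (y * x)⁻¹ * ((x * y * x⁻¹ * y⁻¹) * (y * x)) := by rw [h10]
          _ = x⁻¹ * y⁻¹ * x * y := by group
          _ = y⁻¹ * x⁻¹ * y * x := by
            have h11 := κκ x y
            have h12 : D.inc (κ x y) = x⁻¹ * y⁻¹ * x * y := by
              rw [h9]
              calc x * y * x⁻¹ * y⁻¹ = (y * x)⁻¹ * ((y * x) * (x * y * x⁻¹ * y⁻¹)) := by group
                _ = (y * x)⁻¹ * ((x * y * x⁻¹ * y⁻¹) * (y * x)) := by rw [h10]
                _ = x⁻¹ * y⁻¹ * x * y := by group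
            have h13 : D.inc (κ x y) = (D.inc (κ x y))⁻¹ := by
              rw [eq_inv_iff_mul_eq_one, ← map_mul, h11, map_one]
            rw [← h12, h13, h12]; group
  have κc : ∀ x y, D.inc (κ x y) * (x * y) = y * x := by
    intro x y
    have h1 := D.cen (κ x y) (κκ x y) (x * y)
    rw [h1, κcom]; group
  have κl : ∀ x x' y, κ (x * x') y = κ x y * κ x' y := by
    intro x x' y
    apply D.inc_inj
    rw [map_mul D.inc (κ x y) (κ x' y), κcom, κcom x' y]
    have h1 := D.cen (κ x y) (κκ x y) x'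
    have h1' := D.cen (κ x y) (κκ x y) (y⁻¹ * x'⁻¹ * y)
    rw [κcom] at h1'
    calc y⁻¹ * (x * x')⁻¹ * y * (x * x') = (y⁻¹ * x'⁻¹ * y) * (y⁻¹ * x⁻¹ * y * x) * x' := by group
      _ = (y⁻¹ * x⁻¹ * y * x) * (y⁻¹ * x'⁻¹ * y) * x' := by rw [← h1']
      _ = _ := by rw [κcom]; group
  have κs : ∀ x y, κ x y = κ y x := by
    intro x y
    have h1 : κ x y * κ y x = 1 := by
      apply D.inc_inj
      rw [map_mul, κcom, κcom, map_one]; group
    have h2 : κ y x * κ y x = 1 := κκ y x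
    exact mul_right_cancel (h1.trans h2.symm)
  have κr : ∀ x y y', κ x (y * y') = κ x y * κ x y' := by
    intro x y y'
    rw [κs, κl, κs y x, κs y' x]
  have κx : ∀ x, κ x x = 1 := by
    intro x
    apply D.inc_inj
    rw [κcom, map_one]; group
  have κfix : ∀ a, a * a = 1 → ∀ y, κ (D.inc a) y = 1 := by
    intro a ha y
    apply D.inc_inj
    rw [κcom, map_one]
    have h1 := D.cen a ha y
    calc y⁻¹ * (D.inc a)⁻¹ * y * D.inc a = y⁻¹ * (D.inc a)⁻¹ * (y * D.inc a) := by group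
      _ = y⁻¹ * (D.inc a)⁻¹ * (D.inc a * y) := by rw [h1]
      _ = 1 := by group
  have κg : ∀ a x, κ (D.inc a) x = D.g a x := by
    intro a x
    have h1 : κ (D.inc a) x = (D.g a x)⁻¹ := by
      apply D.inc_inj
      rw [κcom, map_inv, g, map_mul, map_inv, D.inc_cj]; group
    rw [h1]
    exact inv_eq_of_mul_eq_one_right (hgg a x)
  have sρ : ∀ x, s (D.ρT x) = D.ρ (s x) := by
    intro x
    apply D.inc_inj
    rw [hs, D.inc_ρ, hs, map_mul]
  have κρ : ∀ x y, κ (D.ρT x) (D.ρT y) = D.ρ (κ x y) := by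
    intro x y
    show s (D.ρT x * D.ρT y) * (s (D.ρT x) * s (D.ρT y)) = D.ρ (s (x * y) * (s x * s y))
    rw [← map_mul, sρ, sρ, sρ, map_mul, map_mul]
  -- the kernel of `η`
  let T0 : Subgroup T :=
    { carrier := {x | η x = 0}
      one_mem' := by
        have := ηmul 1 1
        rw [mul_one] at this
        exact left_eq_add.1 this
      mul_mem' := fun {x y} hx hy => by
        have hx' : η x = 0 := hx
        have hy' : η y = 0 := hy
        show η (x * y) = 0
        rw [ηmul, hx', hy', add_zero]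
      inv_mem' := fun {x} hx => by
        have hx' : η x = 0 := hx
        have h1 := ηmul x x⁻¹
        have h0 : η 1 = 0 := by
          have := ηmul 1 1
          rw [mul_one] at this
          exact left_eq_add.1 this
        rw [mul_inv_cancel, h0, hx', zero_add] at h1
        exact h1.symm }
  have hT0 : ∀ x, x ∈ T0 ↔ η x = 0 := fun _ => Iff.rfl
  have hηinv : ∀ x, η x⁻¹ = η x := by
    intro x
    have h1 := ηmul x x⁻¹
    rw [mul_inv_cancel, (hT0 1).1 T0.one_mem] at h1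
    have := eq_neg_of_add_eq_zero_right h1.symm
    rwa [CharTwo.neg_eq] at this
  -- decomposition
  have hdec : ∀ x, ∃ b, D.ω₂ 1 b = η x ∧ (D.inc b)⁻¹ * x ∈ T0 := by
    intro x
    obtain ⟨b, hb⟩ := D.ω₂_surj L (η x)
    refine ⟨b, hb, ?_⟩
    rw [hT0, ηmul, hηinv, ηinc, hb, CharTwo.add_self_eq_zero]
  have hker : ∀ x, η x = 0 → D.ω 1 x = 0 → ∃ a, a * a = 1 ∧ D.inc a = x := by
    intro x h1 h2
    obtain ⟨a, rfl⟩ := (D.ω_zero L).1 h2
    rw [ηinc] at h1
    exact ⟨a, (hω2 a).1 h1, rfl⟩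
  have hωsurj0 : Function.Surjective (fun x : T0 => D.ω 1 (x : T)) := by
    intro t
    obtain ⟨x, hx⟩ := D.ω_surj L t
    obtain ⟨b, hb, hb'⟩ := hdec x
    refine ⟨⟨_, hb'⟩, ?_⟩
    show D.ω 1 ((D.inc b)⁻¹ * x) = t
    rw [D.ω_mul L, ← map_inv, D.ω_inc L, zero_add, hx]
  -- `κ` vanishes on `T0`
  obtain ⟨c, hc⟩ := ev hl (G₁ := T0) (G₂ := T0) (fun x => D.ω 1 (x : T)) (fun x => D.ω 1 (x : T))
    (fun x y => D.ω_mul L _ _) (fun x y => D.ω_mul L _ _) hωsurj0 hωsurj0
    (fun x => ⟨D.ρT x, by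
      have h1 : η x = 0 := x.2
      rw [hT0, ηρ, h1, mul_zero]⟩) (fun x => ⟨D.ρT x, by
      have h1 : η x = 0 := x.2
      rw [hT0, ηρ, h1, mul_zero]⟩) (fun x => D.ω_ρ L _) (fun x => D.ω_ρ L _)
    (fun x y => D.ε (κ x y))
    (fun x x' y => by
      show D.ε (κ ((x : T) * x') y) = _
      rw [κl, D.ε_mul _ _ (κκ _ _) (κκ _ _)])
    (fun x y y' => by
      show D.ε (κ x ((y : T) * y')) = _
      rw [κr, D.ε_mul _ _ (κκ _ _) (κκ _ _)])
    (fun x y hx => by
      obtain ⟨a, ha, hax⟩ := hker x x.2 hx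
      show D.ε (κ (x : T) y) = 0
      rw [← hax, κfix a ha, D.ε_one])
    (fun x y hy => by
      obtain ⟨a, ha, hay⟩ := hker y y.2 hy
      show D.ε (κ (x : T) y) = 0
      rw [κs, ← hay, κfix a ha, D.ε_one])
    (fun x y => by
      show D.ε (κ (D.ρT x) (D.ρT y)) = _
      rw [κρ, D.ε_ρ _ (κκ _ _)])
  obtain ⟨x1, hx1⟩ := hωsurj0 1
  have hx1' : D.ω 1 (x1 : T) = 1 := hx1
  have hc0 : c = 0 := by
    have h1 := hc x1 x1
    simp only [κx, D.ε_one, mul_zero, hx1', mul_one] at h1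
    exact h1.symm
  have κ0 : ∀ x ∈ T0, ∀ y ∈ T0, κ x y = 1 := by
    intro x hx y hy
    have h1 := hc ⟨x, hx⟩ ⟨y, hy⟩
    rw [hc0, zero_mul] at h1
    exact D.ε_inj _ (κκ _ _) (mul_self_eq_zero.1 h1)
  -- the values of the squaring map
  let q : T → F := fun x => D.ε (s x)
  have qmul : ∀ x y, q (x * y) = q x + q y + D.ε (κ x y) := by
    intro x y
    show D.ε (s (x * y)) = D.ε (s x) + D.ε (s y) + D.ε (κ x y)
    rw [sκ, D.ε_mul _ _ (sq_mul (hss _) (hss _)) (κκ _ _), D.ε_mul _ _ (hss _) (hss _)]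
  have qρ : ∀ x, q (D.ρT x) = lam * q x := fun x => by
    show D.ε (s (D.ρT x)) = lam * D.ε (s x)
    rw [sρ, D.ε_ρ _ (hss x)]
  have qfix : ∀ a, a * a = 1 → q (D.inc a) = 0 := fun a ha => by
    show D.ε (s (D.inc a)) = 0
    rw [sinc, ha, D.ε_one]
  have q0 : ∀ x ∈ T0, q x = q (x1 : T) * D.ω 1 x := by
    have hwell : ∀ x ∈ T0, ∀ y ∈ T0, D.ω 1 x = D.ω 1 y → q x = q y := by
      intro x hx y hy hxy
      have h1 : η (x * y⁻¹) = 0 := T0.mul_mem hx (T0.inv_mem hy)
      have h2 : D.ω 1 (x * y⁻¹) = 0 := by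
        have e1 := D.ω_mul L (x * y⁻¹) y
        rw [inv_mul_cancel_right, hxy] at e1
        exact right_eq_add.1 e1
      obtain ⟨a, ha, hax⟩ := hker _ h1 h2
      have h3 : x = D.inc a * y := by rw [hax]; group
      rw [h3, qmul, qfix a ha, κfix a ha, D.ε_one, zero_add, add_zero]
    intro x hx
    by_cases h0 : D.ω 1 x = 0
    · obtain ⟨a, ha, hax⟩ := hker x hx h0
      rw [h0, mul_zero, ← hax, qfix a ha]
    obtain ⟨k, hk⟩ := hl _ h0
    have h1 : ∀ k, (D.ρT^[k]) (x1 : T) ∈ T0 ∧ D.ω 1 ((D.ρT^[k]) (x1 : T)) = lam ^ k ∧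
        q ((D.ρT^[k]) (x1 : T)) = lam ^ k * q (x1 : T) := by
      intro k
      induction k with
      | zero => exact ⟨x1.2, by rw [pow_zero]; exact hx1', by rw [pow_zero, one_mul]; rfl⟩
      | succ k ih =>
        obtain ⟨i1, i2, i3⟩ := ih
        rw [Function.iterate_succ_apply']
        refine ⟨?_, ?_, ?_⟩
        · rw [hT0, ηρ, (hT0 _).1 i1, mul_zero]
        · rw [D.ω_ρ L, i2, pow_succ, mul_comm]
        · rw [qρ, i3, pow_succ]; ring
    obtain ⟨i1, i2, i3⟩ := h1 k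
    rw [hwell x hx _ i1 (by rw [i2, hk]), i3, hk, mul_comm]
  have qform : ∀ x, q x * q x = η x * η x + η x * D.ω 1 x + (q (x1 : T) * q (x1 : T)) * (D.ω 1 x * D.ω 1 x) := by
    intro x
    obtain ⟨b, hb, hb'⟩ := hdec x
    have h1 : x = D.inc b * ((D.inc b)⁻¹ * x) := by group
    have h2 : D.ω 1 ((D.inc b)⁻¹ * x) = D.ω 1 x := by
      rw [D.ω_mul L, ← map_inv, D.ω_inc L, zero_add]
    have h3 : q x = η x + q (x1 : T) * D.ω 1 x + D.ε (D.g b ((D.inc b)⁻¹ * x)) := by
      conv_lhs => rw [h1]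
      rw [qmul, q0 _ hb', h2, κg]
      congr 2
      show D.ε (s (D.inc b)) = η x
      rw [sinc, ← hω2', hb]
    have h4 := hg b ((D.inc b)⁻¹ * x)
    rw [hb, h2] at h4
    rw [h3]
    have h5 : ∀ a b c : F, (a + b + c) * (a + b + c) = a * a + c * c + b * b := by
      intro a b c
      have : (a + b + c) * (a + b + c) = a * a + c * c + b * b + 2 * (a * b + a * c + b * c) := by ring
      rw [this, CharTwo.two_eq_zero, zero_mul, add_zero]
    rw [h5, h4]; ring
  -- the embedding of the centre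
  have hinj2 : ∀ a b : F, a * a = b * b → a = b := by
    intro a b hab
    apply CharTwo.sq_injective (R := F)
    simpa [pow_two] using hab
  have hexι : ∀ v : F, ∃ a : A, a * a = 1 ∧ D.ε a * D.ε a = v := by
    intro v
    have hinj : Function.Injective (fun y : F => y ^ 2) := fun y z hyz => CharTwo.sq_injective hyz
    obtain ⟨t, ht⟩ := Finite.surjective_of_injective hinj v
    obtain ⟨a, ha, hat⟩ := D.ε_surj t
    exact ⟨a, ha, by rw [hat, ← pow_two]; exact ht⟩
  choose ι0 hι1 hι2 using hexι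
  have ι0u : ∀ (v : F) (a : A), a * a = 1 → D.ε a * D.ε a = v → ι0 v = a := by
    intro v a ha hav
    apply D.toAStr.eq_of_ε (hι1 v) ha
    apply hinj2
    rw [hι2, hav]
  refine ⟨q (x1 : T) * q (x1 : T), ⟨?_⟩⟩
  refine
    { π := MonoidHom.mk' (fun x => Multiplicative.ofAdd (η x, D.ω 1 x)) (by
        intro x y
        rw [ηmul, D.ω_mul L]; rfl)
      ι := MonoidHom.mk' (fun v => D.inc (ι0 (Multiplicative.toAdd v))) (by
        intro v w
        rw [← map_mul]
        congr 1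
        apply ι0u _ _ (sq_mul (hι1 _) (hι1 _))
        rw [D.ε_mul _ _ (hι1 _) (hι1 _), toAdd_mul]
        have h5 : ∀ a b : F, (a + b) * (a + b) = a * a + b * b := by
          intro a b
          have : (a + b) * (a + b) = a * a + b * b + 2 * (a * b) := by ring
          rw [this, CharTwo.two_eq_zero, zero_mul, add_zero]
        rw [h5, hι2, hι2])
      surj := ?_
      inj := ?_
      exact := ?_
      central := ?_
      two := fun v => CharTwo.add_self_eq_zero v
      sq := ?_ }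
  · intro w
    obtain ⟨x, hx⟩ := D.ω_surj L (Multiplicative.toAdd w).2
    obtain ⟨b, hb⟩ := D.ω₂_surj L ((Multiplicative.toAdd w).1 + η x)
    refine ⟨D.inc b * x, ?_⟩
    show Multiplicative.ofAdd (η (D.inc b * x), D.ω 1 (D.inc b * x)) = w
    rw [ηmul, ηinc, D.ω_mul L, D.ω_inc L, zero_add, hb, hx, add_assoc, CharTwo.add_self_eq_zero, add_zero]
    rfl
  · intro v w h
    have h1 : ι0 (Multiplicative.toAdd v) = ι0 (Multiplicative.toAdd w) := D.inc_inj h
    have h2 := hι2 (Multiplicative.toAdd v)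
    rw [h1, hι2] at h2
    exact h2.symm
  · intro x
    constructor
    · intro h
      have h1 : (η x, D.ω 1 x) = (0, 0) := Multiplicative.ofAdd.injective h
      obtain ⟨h2, h3⟩ := Prod.mk.inj h1
      obtain ⟨a, ha, hax⟩ := hker x h2 h3
      refine ⟨Multiplicative.ofAdd (D.ε a * D.ε a), ?_⟩
      show D.inc (ι0 (D.ε a * D.ε a)) = x
      rw [ι0u _ a ha rfl, hax]
    · rintro ⟨v, rfl⟩
      show Multiplicative.ofAdd (η (D.inc (ι0 (Multiplicative.toAdd v))), D.ω 1 (D.inc (ι0 (Multiplicative.toAdd v)))) = 1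
      rw [ηinc, D.ω_inc L, (hω2 _).2 (hι1 _)]
      rfl
  · intro v x
    exact D.cen _ (hι1 _) x
  · intro x
    show x * x = D.inc (ι0 (η x * η x + η x * D.ω 1 x + q (x1 : T) * q (x1 : T) * (D.ω 1 x * D.ω 1 x)))
    rw [ι0u _ (s x) (hss x) (qform x), hs]

end Cfsg.Agent.H21.SI
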