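import Cfsg.Agent.H21.SqU3
import Cfsg.Agent.Fus.HeisSL3
import Cfsg.Agent.Fus.QDWSyl

/-! The Sylow 2-subgroups of `PSL₃(q)`, `q` even, as central extensions with squaring map `(x, y) ↦ x y`. -/

set_option autoImplicit false

namespace Cfsg.Agent.H21.Sq

open Cfsg Cfsg.Agent.Fus Cfsg.Agent.AutPSL

variable {F : Type*} [Field F]

/-- the unitriangular group -/
def utData (F : Type*) [Field F] [CharP F 2] : SqData ↥(unitri 3 F) (F × F) F (fun w => w.1 * w.2) where
  π := MonoidHom.mk' (fun g => Multiplicative.ofAdd ((e3 g).1, (e3 g).2.1)) (by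
    intro g h
    obtain ⟨a, b, c, rfl⟩ := u3_surj g
    obtain ⟨a', b', c', rfl⟩ := u3_surj h
    rw [u3_mul]; rfl)
  ι := MonoidHom.mk' (fun c => u3 0 0 (Multiplicative.toAdd c)) (by
    intro c d
    rw [u3_mul]
    congr 1
    · simp
    · simp
    · rw [toAdd_mul]; ring)
  surj := fun w => ⟨u3 (Multiplicative.toAdd w).1 (Multiplicative.toAdd w).2 0, rfl⟩
  inj := fun c d h => (u3_inj h).2.2
  exact := fun g => by
    obtain ⟨a, b, c, rfl⟩ := u3_surj g
    constructor
    · intro h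
      have h1 : (a, b) = (0, 0) := Multiplicative.ofAdd.injective h
      obtain ⟨rfl, rfl⟩ : a = 0 ∧ b = 0 := by simpa using h1
      exact ⟨Multiplicative.ofAdd c, rfl⟩
    · rintro ⟨v, hv⟩
      obtain ⟨h1, h2, h3⟩ := u3_inj (show u3 0 0 (Multiplicative.toAdd v) = u3 a b c from hv)
      rw [← h1, ← h2]; rfl
  central := fun v g => by
    obtain ⟨a, b, c, rfl⟩ := u3_surj g
    show u3 0 0 _ * u3 a b c = u3 a b c * u3 0 0 _
    rw [u3_comm]; simp
  two := fun v => CharTwo.add_self_eq_zero v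
  sq := fun g => by
    obtain ⟨a, b, c, rfl⟩ := u3_surj g
    show u3 a b c * u3 a b c = u3 0 0 (a * b)
    rw [u3_mul, CharTwo.add_self_eq_zero, CharTwo.add_self_eq_zero]
    congr 1
    have : c + a * b + c = a * b + (c + c) := by ring
    rw [this, CharTwo.add_self_eq_zero, add_zero]

theorem sl_data {F : Type*} [Field F] [Fintype F] [CharP F 2] (P : Sylow 2 (Matrix.SpecialLinearGroup (Fin 3) F)) :
    Nonempty (SqData (P : Subgroup (Matrix.SpecialLinearGroup (Fin 3) F)) (F × F) F (fun w => w.1 * w.2)) := by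
  have : Fact (Nat.Prime 2) := ⟨Nat.prime_two⟩
  obtain ⟨e⟩ := nonempty_equiv_unitri (n := 3) 2 (by omega) P
  exact ⟨(utData F).congr e⟩

theorem odd_center_SL {F : Type*} [Field F] [Fintype F] [CharP F 2] :
    Odd (Nat.card (Subgroup.center (Matrix.SpecialLinearGroup (Fin 3) F))) := by
  have hp : Fact (Nat.Prime 2) := ⟨Nat.prime_two⟩
  by_contra hodd
  rw [Nat.not_odd_iff_even] at hodd
  obtain ⟨x, hx⟩ := exists_prime_orderOf_dvd_card' (G := Subgroup.center (Matrix.SpecialLinearGroup (Fin 3) F)) 2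
    (even_iff_two_dvd.1 hodd)
  have hx2 : x ^ 2 = 1 := by rw [← hx, pow_orderOf_eq_one]
  have hx1 : x ≠ 1 := by
    rintro rfl
    rw [orderOf_one] at hx
    omega
  apply hx1
  obtain ⟨r, hr, hrx⟩ := Matrix.SpecialLinearGroup.mem_center_iff.1 x.2
  have h2 : ((x.1 : Matrix.SpecialLinearGroup (Fin 3) F) : Matrix (Fin 3) (Fin 3) F) ^ 2 = 1 := by
    have := congrArg (fun z : Subgroup.center (Matrix.SpecialLinearGroup (Fin 3) F) =>
      ((z.1 : Matrix.SpecialLinearGroup (Fin 3) F) : Matrix (Fin 3) (Fin 3) F)) hx2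
    simpa using this
  rw [← hrx, ← map_pow] at h2
  have h3 : r ^ 2 = 1 := by
    have := congrFun (congrFun h2 0) 0
    simpa using this
  have h4 : r = 1 := by
    have h5 : (r - 1) ^ 2 = 0 := by
      have : (r - 1) ^ 2 = r ^ 2 - 2 * r + 1 := by ring
      rw [this, h3, CharTwo.two_eq_zero, zero_mul, sub_zero, CharTwo.add_self_eq_zero]
    exact sub_eq_zero.1 (pow_eq_zero_iff two_ne_zero |>.1 h5)
  apply Subtype.ext
  apply Subtype.ext
  rw [← hrx, h4, map_one]
  rfl

theorem psl_data {F : Type*} [Field F] [Fintype F] [CharP F 2] (P : Sylow 2 (Matrix.ProjectiveSpecialLinearGroup (Fin 3) F)) :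
    Nonempty (SqData (P : Subgroup (Matrix.ProjectiveSpecialLinearGroup (Fin 3) F)) (F × F) F (fun w => w.1 * w.2)) := by
  obtain ⟨Q, ⟨e⟩⟩ := QDW.sylow_quot_equiv (Subgroup.center (Matrix.SpecialLinearGroup (Fin 3) F)) odd_center_SL P
  obtain ⟨D⟩ := sl_data Q
  exact ⟨D.congr e.symm⟩

end Cfsg.Agent.H21.Sq
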