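import Cfsg.Agent.H21.SqBase
import Cfsg.Agent.H21.SqField
import Cfsg.Agent.H38.PSU3Main

/-! The Sylow 2-subgroups of `SU₃(q)` and `PSU₃(q)`, `q` even, as central extensions with squaring map the norm. -/

set_option autoImplicit false

namespace Cfsg.Agent.H21.Sq

open Cfsg Cfsg.Agent.Uni Cfsg.Agent.AutPSU Cfsg.Agent.H38.PSU3

variable {F : Type*} [Field F] [Fintype F] {q : ℕ}

/-- the automorphism `x ↦ x ^ q` -/
noncomputable def conjE (hF : Fintype.card F = q ^ 2) : F ≃+* F :=
  RingEquiv.ofBijective (conjHom hF) (Finite.injective_iff_bijective.1 (conjHom hF).injective)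

theorem conjE_apply (hF : Fintype.card F = q ^ 2) (x : F) : conjE hF x = x ^ q := rfl

theorem conjE_conjE (hF : Fintype.card F = q ^ 2) (x : F) : conjE hF (conjE hF x) = x := pow_q_pow_q hF x

theorem conjE_comm (hF : Fintype.card F = q ^ 2) (σ : F ≃+* F) (x : F) : σ (conjE hF x) = conjE hF (σ x) := by
  rw [conjE_apply, conjE_apply, map_pow]

theorem conjE_ne_one (hF : Fintype.card F = q ^ 2) : conjE hF ≠ 1 := by
  intro h
  have h1 := card_fixed hF
  have h2 : Nat.card {c : F // c ^ q = c} = Nat.card F := by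
    apply Nat.card_congr
    refine ⟨fun x => x.1, fun x => ⟨x, ?_⟩, fun _ => rfl, fun _ => rfl⟩
    rw [← conjE_apply hF, h]; rfl
  rw [h1, Nat.card_eq_fintype_card, hF] at h2
  have h3 : 1 < Fintype.card F := Fintype.one_lt_card
  rw [hF] at h3
  have : 1 < q := by
    by_contra hcon
    have : q = 0 ∨ q = 1 := by omega
    rcases this with rfl | rfl <;> simp at h3
  nlinarith

theorem card_fixedAdd (hF : Fintype.card F = q ^ 2) : Nat.card (fixedAdd (conjE hF)) = q := card_fixed hF

/-- a unit vector orthogonal to a hyperbolic pair -/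
theorem exists_unit (hF : Fintype.card F = q ^ 2) {u v : Fin 3 → F} (hv : Hyp q u v) :
    ∃ z, hermForm 3 F q z u = 0 ∧ hermForm 3 F q z v = 0 ∧ hermForm 3 F q z z = 1 ∧
      ∀ x, hermForm 3 F q x u = 0 → hermForm 3 F q x v = 0 → x = (hermForm 3 F q x z) • z := by
  have hfr : Module.finrank F (perp q (Submodule.span F {u, v})) = 1 := hv.finrank_perp hF
  obtain ⟨⟨z, hz⟩, hz0, hzs⟩ := finrank_eq_one_iff'.1 hfr
  have hz0' : z ≠ 0 := fun h => hz0 (Subtype.ext h)
  obtain ⟨hzu, hzv⟩ := (Hyp.mem_perp_iff hF).1 hz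
  have hzz : hermForm 3 F q z z ≠ 0 := fun h => hz0' (eq_zero_of_perp hF hv hzu hzv h)
  have hzzq : (hermForm 3 F q z z)⁻¹ ^ q = (hermForm 3 F q z z)⁻¹ := by
    rw [inv_pow, hermForm_self_pow_q hF]
  obtain ⟨c, hc⟩ := exists_norm_eq hF hzzq
  have hc0 : c ≠ 0 := by
    rintro rfl
    rw [zero_pow (by omega)] at hc
    exact inv_ne_zero hzz hc.symm
  have h1 : hermForm 3 F q (c • z) (c • z) = 1 := by
    rw [hermForm_smul_left, hermForm_smul_right]
    rw [pow_succ] at hc
    have : c * (c ^ q * hermForm 3 F q z z) = (c ^ q * c) * hermForm 3 F q z z := by ring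
    rw [this, hc, inv_mul_cancel₀ hzz]
  refine ⟨c • z, by rw [hermForm_smul_left, hzu, mul_zero], by rw [hermForm_smul_left, hzv, mul_zero], h1, ?_⟩
  intro x hxu hxv
  obtain ⟨d, hd⟩ := hzs ⟨x, (Hyp.mem_perp_iff hF).2 ⟨hxu, hxv⟩⟩
  have hd' : d • z = x := congrArg Subtype.val hd
  have h2 : x = (d * c⁻¹) • (c • z) := by rw [smul_smul, mul_assoc, inv_mul_cancel₀ hc0, mul_one, hd']
  conv_rhs => rw [h2]
  rw [hermForm_smul_left, h1, mul_one]
  exact h2

/-- the Sylow 2-subgroups of `SU₃` -/
theorem sylow_SU (hF : Fintype.card F = q ^ 2) [CharP F 2] (Q : Sylow 2 (SU 3 F q)) :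
    ∃ (u : Fin 3 → F) (hu : Iso q u), (Q : Subgroup (SU 3 F q)) = RR hF hu := by
  have hp : Fact (Nat.Prime 2) := ⟨Nat.prime_two⟩
  let _ := isoAction (Q : Subgroup (SU 3 F q))
  obtain ⟨⟨u, hu⟩, hfix⟩ := Q.2.nonempty_fixed_point_of_prime_not_dvd_card {v : Fin 3 → F // Iso q v}
    (not_dvd_card_iso hF (by omega) (dvd_q hF))
  have hfix' : ∀ g ∈ Q, act g u = u := fun g hg => congrArg Subtype.val (hfix ⟨g, hg⟩)
  have hR : RR hF hu ≤ Q := by
    have h1 : IsPGroup 2 ((Q : Subgroup (SU 3 F q)) ⊔ RR hF hu : Subgroup (SU 3 F q)) := by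
      refine IsPGroup.to_sup_of_normal_right' Q.2 (RR_isPGroup hF hu) ?_
      intro k hk
      rw [Subgroup.mem_normalizer_iff]
      intro g
      constructor
      · intro hg
        exact RR_conj hF hu hg (hfix' k hk)
      · intro hg
        have h2 := RR_conj hF hu (k := k⁻¹) hg (hfix' _ (inv_mem hk))
        have : k⁻¹ * (k * g * k⁻¹) * k⁻¹⁻¹ = g := by group
        rwa [this] at h2
    have h2 := Q.3 h1 le_sup_left
    rw [← h2]; exact le_sup_right
  obtain ⟨v, hv⟩ := exists_hyp' hF hu.1 hu.2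
  refine ⟨u, hu, le_antisymm ?_ hR⟩
  intro g hg
  have hgu := hfix' g hg
  set v' := act g v with hv'
  have hv'1 : hermForm 3 F q v' v' = 0 := by rw [hv', act_form, hv.2.1]
  have huv' : hermForm 3 F q u v' = 1 := by
    have : hermForm 3 F q u v' = hermForm 3 F q (act g u) (act g v) := by rw [hgu]
    rw [this, act_form, hv.2.2]
  have hvu : hermForm 3 F q v u = 1 := (hv.symm hF).2.2
  have huw : hermForm 3 F q u (v' - v) = 0 := by
    rw [hermForm_sub_right hF, huv', hv.2.2, sub_self]
  have hs : hermForm 3 F q v v' + (hermForm 3 F q v v') ^ q = -hermForm 3 F q (v' - v) (v' - v) := by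
    rw [hermForm_sub_left, hermForm_sub_right hF, hermForm_sub_right hF, hv'1, hv.2.1, hermForm_symm hF]
    ring
  obtain ⟨h, hh⟩ := exists_eich hF u (v' - v) _ hu.2 huw hs
  have hhR : h ∈ RR hF hu := ⟨_, _, huw, hs, hh⟩
  have hhv : act h v = v' := by
    rw [hh v, hvu, hermForm_sub_right hF, hv.2.1]
    module
  have hk : h⁻¹ * g ∈ Q := Q.mul_mem (Q.inv_mem (hR hhR)) hg
  obtain ⟨m, hm⟩ := Q.2 ⟨_, hk⟩
  have hm' : (h⁻¹ * g) ^ 2 ^ m = 1 := congrArg Subtype.val hm
  have h1 := eq_one_of_fix hF hv hm' (hfix' _ hk) (by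
    rw [act_mul, ← hv', ← hhv, act_inv_act])
  rw [← inv_mul_eq_one.1 h1]
  exact hhR

/-- the squaring data of the unipotent radical -/
theorem exists_rrData (hF : Fintype.card F = q ^ 2) [CharP F 2] {u : Fin 3 → F} (hu : Iso q u) :
    Nonempty (SqData (RR hF hu) F (fixedAdd (conjE hF)) (nrm (conjE hF) (conjE_conjE hF))) := by
  obtain ⟨v, hv⟩ := exists_hyp' hF hu.1 hu.2
  have hvu : hermForm 3 F q v u = 1 := (hv.symm hF).2.2
  obtain ⟨z, hzu, hzv, hzz, hzs⟩ := exists_unit hF hv
  have huz : hermForm 3 F q u z = 0 := (hermForm_eq_zero_comm hF).1 hzu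
  have hvz : hermForm 3 F q v z = 0 := (hermForm_eq_zero_comm hF).1 hzv
  have hneg : ∀ s : F, -s = s := fun s => CharTwo.neg_eq s
  -- the coordinate
  have hcoord : ∀ (g : SU 3 F q) (w : Fin 3 → F) (s : F), IsEich g u w s →
      hermForm 3 F q (act g v) z = hermForm 3 F q w z := by
    intro g w s hg
    rw [hg v, hvu, hermForm_add_left, hermForm_sub_left, hermForm_add_left, hermForm_smul_left,
      hermForm_smul_left, hermForm_smul_left, huz, hvz]
    ring
  have hpimul : ∀ g g' : RR hF hu, hermForm 3 F q (act (g * g' : RR hF hu).1 v) z =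
      hermForm 3 F q (act g.1 v) z + hermForm 3 F q (act g'.1 v) z := by
    rintro ⟨g, w, s, hw, hs, hg⟩ ⟨g', w', s', hw', hs', hg'⟩
    have h1 := hg.mul hF hu.2 hw hw' hg'
    show hermForm 3 F q (act (g * g') v) z = _
    rw [hcoord _ _ _ h1, hcoord _ _ _ hg, hcoord _ _ _ hg', hermForm_add_left]
  let π : RR hF hu →* Multiplicative F :=
    MonoidHom.mk' (fun g => Multiplicative.ofAdd (hermForm 3 F q (act g.1 v) z)) (fun g g' => by
      rw [hpimul]; rfl)
  -- the centre
  have hex : ∀ c : fixedAdd (conjE hF), ∃ g : SU 3 F q, IsEich g u 0 c.1 := by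
    rintro ⟨c, hc⟩
    have hc' : c ^ q = c := hc
    exact exists_eich hF u 0 c hu.2 (hermForm_zero_right hF u) (by
      rw [hc', hermForm_zero_right hF, CharTwo.add_self_eq_zero, neg_zero])
  choose E hE using hex
  have hER : ∀ c, E c ∈ RR hF hu := fun c => ⟨0, c.1, hermForm_zero_right hF u, by
    have hc' : c.1 ^ q = c.1 := c.2
    rw [hc', hermForm_zero_right hF, CharTwo.add_self_eq_zero, neg_zero], hE c⟩
  have hEmul : ∀ c d, E (c + d) = E c * E d := by
    intro c d
    have h1 := (hE c).mul hF hu.2 (hermForm_zero_right hF u) (hermForm_zero_right hF u) (hE d)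
    rw [hermForm_zero_right hF, add_zero, sub_zero] at h1
    exact (hE (c + d)).unique h1
  let ι : Multiplicative (fixedAdd (conjE hF)) →* RR hF hu :=
    MonoidHom.mk' (fun c => ⟨E (Multiplicative.toAdd c), hER _⟩) (fun c d => by
      apply Subtype.ext
      exact hEmul _ _)
  have hEv : ∀ c, act (E c) v = v + c.1 • u := by
    intro c
    rw [(isEich_zero_iff hF _ _ _).1 (hE c) v, hvu, mul_one]
  -- the shape of a vector orthogonal to u
  have hshape : ∀ w, hermForm 3 F q u w = 0 → w = (hermForm 3 F q w v) • u + (hermForm 3 F q w z) • z := by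
    intro w hw
    obtain ⟨w', hw'u, hw'v, e⟩ := decomp hF hv w
    have hwu : hermForm 3 F q w u = 0 := (hermForm_eq_zero_comm hF).1 hw
    rw [hwu, zero_smul, add_zero] at e
    have h1 : hermForm 3 F q w z = hermForm 3 F q w' z := by
      rw [e, hermForm_add_left, hermForm_smul_left, huz, mul_zero, zero_add]
    rw [h1, ← hzs w' hw'u hw'v]
    exact e
  have hform : ∀ w, hermForm 3 F q u w = 0 → hermForm 3 F q w w = hermForm 3 F q w z * (hermForm 3 F q w z) ^ q := by
    intro w hw
    set a := hermForm 3 F q w v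
    set b := hermForm 3 F q w z
    rw [hshape w hw, hermForm_add_left, hermForm_add_right hF, hermForm_add_right hF, hermForm_smul_left,
      hermForm_smul_left, hermForm_smul_left, hermForm_smul_left, hermForm_smul_right, hermForm_smul_right,
      hermForm_smul_right, hermForm_smul_right, hu.2, huz, hzu, hzz]
    ring
  refine ⟨⟨π, ι, ?_, ?_, ?_, ?_, ?_, ?_⟩⟩
  · -- surjectivity
    intro b
    set b' : F := Multiplicative.toAdd b
    obtain ⟨s, g, hs, hg⟩ := exists_eich' hF u (b' • z) hu.2 (by rw [hermForm_smul_right, huz, mul_zero])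
    refine ⟨⟨g, b' • z, s, by rw [hermForm_smul_right, huz, mul_zero], hs, hg⟩, ?_⟩
    show Multiplicative.ofAdd (hermForm 3 F q (act g v) z) = b
    rw [hcoord _ _ _ hg, hermForm_smul_left, hzz, mul_one]
    rfl
  · -- injectivity
    intro c d hcd
    have h1 : E (Multiplicative.toAdd c) = E (Multiplicative.toAdd d) := congrArg Subtype.val hcd
    have h2 := hEv (Multiplicative.toAdd c)
    rw [h1, hEv] at h2
    have h3 := add_left_cancel h2
    have h4 : ((Multiplicative.toAdd d).1 - (Multiplicative.toAdd c).1) • u = 0 := by rw [sub_smul, h3, sub_self]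
    have h5 := sub_eq_zero.1 ((smul_eq_zero.1 h4).resolve_right hu.1)
    exact (Subtype.ext h5.symm : Multiplicative.toAdd c = Multiplicative.toAdd d)
  · -- exactness
    rintro ⟨g, w, s, hw, hs, hg⟩
    constructor
    · intro h
      have h1 : hermForm 3 F q w z = 0 := by
        rw [← hcoord _ _ _ hg]; exact h
      have h2 := hshape w hw
      rw [h1, zero_smul, add_zero] at h2
      set a := hermForm 3 F q w v
      have h3 : IsEich g u 0 (s + a - a ^ q) := by
        intro x
        rw [hg x, h2, hermForm_zero_right hF, hermForm_smul_right]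
        module
      have h4 := skew_of_isEich hF hu.1 hu.2 h3
      rw [CharTwo.neg_eq] at h4
      refine ⟨Multiplicative.ofAdd ⟨s + a - a ^ q, h4⟩, ?_⟩
      apply Subtype.ext
      exact (hE ⟨s + a - a ^ q, h4⟩).unique h3
    · rintro ⟨c, hc⟩
      rw [← hc]
      show Multiplicative.ofAdd (hermForm 3 F q (act (E (Multiplicative.toAdd c)) v) z) = 1
      rw [hcoord _ _ _ (hE _), hermForm_zero_left]
      rfl
  · -- central
    rintro c ⟨g, w, s, hw, hs, hg⟩
    apply Subtype.ext
    show E (Multiplicative.toAdd c) * g = g * E (Multiplicative.toAdd c)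
    have h1 := (hE (Multiplicative.toAdd c)).mul hF hu.2 (hermForm_zero_right hF u) hw hg
    have h2 := hg.mul hF hu.2 hw (hermForm_zero_right hF u) (hE (Multiplicative.toAdd c))
    rw [hermForm_zero_right hF, zero_add, sub_zero] at h1
    rw [hermForm_zero_left, add_zero, sub_zero, add_comm] at h2
    exact h1.unique h2
  · intro c
    apply Subtype.ext
    exact CharTwo.add_self_eq_zero c.1
  · -- squares
    rintro ⟨g, w, s, hw, hs, hg⟩
    apply Subtype.ext
    have h1 := hg.mul hF hu.2 hw hw hg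
    have hww : w + w = 0 := by
      ext i
      exact CharTwo.add_self_eq_zero (w i)
    rw [hww, CharTwo.add_self_eq_zero, zero_sub, hneg, hform w hw] at h1
    show g * g = E (nrm (conjE hF) (conjE_conjE hF) (hermForm 3 F q (act g v) z))
    apply h1.unique
    have h2 := hE (nrm (conjE hF) (conjE_conjE hF) (hermForm 3 F q (act g v) z))
    have h3 : (nrm (conjE hF) (conjE_conjE hF) (hermForm 3 F q (act g v) z)).1 =
        hermForm 3 F q w z * (hermForm 3 F q w z) ^ q := by
      show hermForm 3 F q (act g v) z * conjE hF (hermForm 3 F q (act g v) z) = _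
      rw [hcoord _ _ _ hg, conjE_apply]
    rwa [h3] at h2

/-- transport along an isomorphism -/
def SqData.congr {T T' W V : Type*} [Group T] [Group T'] [AddCommGroup W] [AddCommGroup V] {Q : W → V}
    (D : SqData T W V Q) (e : T' ≃* T) : SqData T' W V Q where
  π := D.π.comp e.toMonoidHom
  ι := e.symm.toMonoidHom.comp D.ι
  surj := fun w => by
    obtain ⟨t, ht⟩ := D.surj w
    exact ⟨e.symm t, by simp [ht]⟩
  inj := fun a b hab => D.inj (e.symm.injective hab)
  exact := fun t => by
    constructor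
    · intro h
      obtain ⟨v, hv⟩ := (D.exact (e t)).1 h
      exact ⟨v, by simp [hv]⟩
    · rintro ⟨v, rfl⟩
      simp [D.pi_iota]
  central := fun v t => by
    apply e.injective
    simp [D.central]
  two := D.two
  sq := fun t => by
    apply e.injective
    simp [D.sq]

theorem su_data (hF : Fintype.card F = q ^ 2) [CharP F 2] (P : Sylow 2 (SU 3 F q)) :
    Nonempty (SqData (P : Subgroup (SU 3 F q)) F (fixedAdd (conjE hF)) (nrm (conjE hF) (conjE_conjE hF))) := by
  obtain ⟨u, hu, hP⟩ := sylow_SU hF P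
  obtain ⟨D⟩ := exists_rrData hF hu
  exact ⟨D.congr (MulEquiv.subgroupCongr hP)⟩

theorem psu_data (hF : Fintype.card F = q ^ 2) [CharP F 2] (P : Sylow 2 (PSU 3 F q)) :
    Nonempty (SqData (P : Subgroup (PSU 3 F q)) F (fixedAdd (conjE hF)) (nrm (conjE hF) (conjE_conjE hF))) := by
  obtain ⟨u, hu, hP⟩ := sylow_data hF P
  obtain ⟨D⟩ := exists_rrData hF hu
  let f : RR hF hu →* (P : Subgroup (PSU 3 F q)) :=
    { toFun := fun g => ⟨toPSU 3 F q g.1, (hP _).2 ⟨g.1, g.2, rfl⟩⟩
      map_one' := by ext; simp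
      map_mul' := fun a b => by ext; simp }
  have hf : Function.Bijective f := by
    constructor
    · intro a b hab
      apply Subtype.ext
      exact eq_of_toPSU hF hu (RR_fix hF hu a.2) (RR_fix hF hu b.2) (congrArg Subtype.val hab)
    · rintro ⟨x, hx⟩
      obtain ⟨g, hg, rfl⟩ := (hP x).1 hx
      exact ⟨⟨g, hg⟩, rfl⟩
  exact ⟨D.congr (MulEquiv.ofBijective f hf).symm⟩

end Cfsg.Agent.H21.Sq
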