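import Cfsg.Agent.H21.SI5
import Cfsg.Agent.H21.SqU3
import Cfsg.Agent.H21.SqL3
import Cfsg.Agent.Suz2.Section

/-! Binary quadratic forms in characteristic two; coordinates on the fixed points. -/

set_option autoImplicit false

namespace Cfsg.Agent.H21.SI

open AStr Str Sq

universe u v

/-- the fixed field -/
def fixF {E : Type v} [Field E] (φ : E ≃+* E) : Subfield E where
  carrier := {x | φ x = x}
  mul_mem' := fun {a b} ha hb => by
    have ha' : φ a = a := ha
    have hb' : φ b = b := hb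
    show φ (a * b) = a * b
    rw [map_mul, ha', hb']
  one_mem' := map_one φ
  add_mem' := fun {a b} ha hb => by
    have ha' : φ a = a := ha
    have hb' : φ b = b := hb
    show φ (a + b) = a + b
    rw [map_add, ha', hb']
  zero_mem' := map_zero φ
  neg_mem' := fun {a} ha => by
    have ha' : φ a = a := ha
    show φ (-a) = -a
    rw [map_neg, ha']
  inv_mem' := fun a ha => by
    have ha' : φ a = a := ha
    show φ a⁻¹ = a⁻¹
    rw [map_inv₀, ha']

theorem mem_fixF {E : Type v} [Field E] {φ : E ≃+* E} {x : E} : x ∈ fixF φ ↔ φ x = x := Iff.rfl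

/-- Artin-Schreier: two elements outside the image of `t ↦ t² + t` differ by an element of the image -/
theorem artin {F : Type v} [Field F] [Finite F] [CharP F 2] {a b : F} (ha : ∀ r, r * r + r ≠ a) (hb : ∀ r, r * r + r ≠ b) :
    ∃ r, a + b = r * r + r := by
  classical
  let f : F →+ F :=
    { toFun := fun r => r * r + r
      map_zero' := by ring
      map_add' := fun x y => by
        have : (x + y) * (x + y) + (x + y) = x * x + x + (y * y + y) + 2 * (x * y) := by ring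
        rw [this, CharTwo.two_eq_zero, zero_mul, add_zero] }
  have hf : ∀ r, f r = r * r + r := fun _ => rfl
  have hker : Nat.card f.ker = 2 := by
    rw [Nat.card_eq_two_iff]
    refine ⟨0, ⟨1, by rw [AddMonoidHom.mem_ker, hf, one_mul, CharTwo.add_self_eq_zero]⟩, ?_, ?_⟩
    · intro h
      exact zero_ne_one (congrArg Subtype.val h)
    · rw [Set.eq_univ_iff_forall]
      rintro ⟨x, hx⟩
      rw [Set.mem_insert_iff, Set.mem_singleton_iff]
      have hx' := hx
      rw [AddMonoidHom.mem_ker, hf] at hx'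
      have h2 : x * (x + 1) = 0 := by rw [← hx']; ring
      rcases mul_eq_zero.1 h2 with h | h
      · left; exact Subtype.ext h
      · right
        have := eq_neg_of_add_eq_zero_left h
        rw [CharTwo.neg_eq] at this
        exact Subtype.ext this
  have hidx : f.range.index = 2 := by
    have h1 := AddSubgroup.card_mul_index f.range
    have h2 := AddSubgroup.card_mul_index f.ker
    rw [AddSubgroup.index_ker, hker] at h2
    have h3 : 0 < Nat.card f.range := Nat.card_pos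
    rw [← h1] at h2
    nlinarith
  have ha' : a ∉ f.range := by
    rintro ⟨r, hr⟩
    exact ha r hr
  have hb' : b ∉ f.range := by
    rintro ⟨r, hr⟩
    exact hb r hr
  have h1 : a + b ∈ f.range := by
    rw [AddSubgroup.add_mem_iff_of_index_two hidx]
    exact iff_of_false ha' hb'
  obtain ⟨r, hr⟩ := h1
  exact ⟨r, hr.symm⟩

theorem charP_fixF {E : Type v} [Field E] [CharP E 2] (φ : E ≃+* E) : CharP (fixF φ) 2 := by
  apply CharTwo.of_one_ne_zero_of_two_eq_zero one_ne_zero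
  apply Subtype.ext
  exact CharTwo.two_eq_zero (R := E)

/-- the norm form represents every anisotropic form `x² + xy + e y²` -/
theorem exists_theta {E : Type v} [Field E] [Finite E] [CharP E 2] (φ : E ≃+* E) (h2 : ∀ x, φ (φ x) = x) (hφ : φ ≠ 1)
    (e : fixF φ) (he : ∀ r : fixF φ, r * r + r ≠ e) : ∃ θ : E, θ * θ + θ = e ∧ φ θ = θ + 1 := by
  have : CharP (fixF φ) 2 := charP_fixF φ
  obtain ⟨θ0, hθ0⟩ := trc_surj φ h2 hφ ⟨1, map_one φ⟩
  have h1 : θ0 + φ θ0 = 1 := congrArg Subtype.val hθ0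
  have h1' : φ θ0 = θ0 + 1 := by
    have := eq_sub_of_add_eq' h1
    rw [this, sub_eq_add_neg, CharTwo.neg_eq, add_comm]
  have hδ : φ (θ0 * θ0 + θ0) = θ0 * θ0 + θ0 := by
    rw [map_add, map_mul, h1']
    have : (θ0 + 1) * (θ0 + 1) + (θ0 + 1) = θ0 * θ0 + θ0 + 2 * (θ0 + 1) := by ring
    rw [this, CharTwo.two_eq_zero, zero_mul, add_zero]
  let δ : fixF φ := ⟨θ0 * θ0 + θ0, hδ⟩
  have hδ' : ∀ r : fixF φ, r * r + r ≠ δ := by
    rintro ⟨r, hr⟩ h
    have h3 : r * r + r = θ0 * θ0 + θ0 := congrArg Subtype.val h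
    have h4 : (r + θ0) * (r + θ0 + 1) = 0 := by
      have : (r + θ0) * (r + θ0 + 1) = (r * r + r) + (θ0 * θ0 + θ0) + 2 * (r * θ0) := by ring
      rw [this, h3, CharTwo.add_self_eq_zero, CharTwo.two_eq_zero, zero_mul, add_zero]
    have h5 : φ r = r := hr
    have h6 : φ θ0 = θ0 := by
      rcases mul_eq_zero.1 h4 with h7 | h7
      · have : r = θ0 := by
          have := eq_neg_of_add_eq_zero_left h7
          rwa [CharTwo.neg_eq] at this
        rwa [← this]
      · have : r + 1 = θ0 := by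
          have h8 : (r + 1) + θ0 = 0 := by rw [← h7]; ring
          have := eq_neg_of_add_eq_zero_left h8
          rwa [CharTwo.neg_eq] at this
        rw [← this, map_add, map_one, h5]
    rw [h6] at h1'
    exact one_ne_zero (left_eq_add.1 h1')
  obtain ⟨⟨r, hr⟩, hr'⟩ := artin he hδ'
  have h3 : (e : E) + (θ0 * θ0 + θ0) = r * r + r := congrArg Subtype.val hr'
  have h5 : φ r = r := hr
  refine ⟨θ0 + r, ?_, by rw [map_add, h1', h5]; ring⟩
  have : (θ0 + r) * (θ0 + r) + (θ0 + r) = (θ0 * θ0 + θ0) + (r * r + r) + 2 * (θ0 * r) := by ring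
  rw [this, ← h3, CharTwo.two_eq_zero, zero_mul, add_zero]
  have : θ0 * θ0 + θ0 + ((e : E) + (θ0 * θ0 + θ0)) = (e : E) + 2 * (θ0 * θ0 + θ0) := by ring
  rw [this, CharTwo.two_eq_zero, zero_mul, add_zero]

/-- coordinates on the fixed points -/
theorem exists_cfg {Q : Type u} [Group Q] [Finite Q] (α ρ : MulAut Q) (hα : ∀ x, α (α x) = x) (hc : Commute α ρ)
    {N : ℕ} (hρ : orderOf ρ = N) (hN0 : 2 ≤ N) (C : Subgroup Q) (hC : ∀ x : Q, x ∈ C ↔ α x = x) (hCc : IsMulCommutative C)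
    (hcard : Nat.card C = N + 1)
    (htr : ∀ x y : Q, x ∈ C → y ∈ C → x ≠ 1 → y ≠ 1 → ∃ k : ℕ, (ρ ^ k) x = y)
    (F : Type v) [Field F] [Finite F] (hF : Nat.card F = N + 1) :
    ∃ (lam : F) (D : Cfg Q F lam), Gen lam ∧ (∀ x, D.α x = α x) ∧ ∀ x, D.ρ x = ρ x := by
  classical
  have hcomm' : ∀ x, α (ρ x) = ρ (α x) := fun x => DFunLike.congr_fun hc.eq x
  have hpowC : ∀ (k : ℤ) x, x ∈ C → (ρ ^ k) x ∈ C := by
    intro k x hx
    rw [hC] at hx ⊢
    have h1 : Commute α (ρ ^ k) := hc.zpow_right k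
    have h2 : α ((ρ ^ k) x) = (ρ ^ k) (α x) := DFunLike.congr_fun h1.eq x
    rw [h2, hx]
  let K := Subgroup.zpowers ρ
  have hKC : ∀ k : K, ∀ x ∈ C, k • x ∈ C := by
    rintro ⟨_, k, rfl⟩ x hx
    exact hpowC k x hx
  obtain ⟨x0, hx0, hx01⟩ : ∃ x0 ∈ C, x0 ≠ 1 := by
    by_contra hcon
    push Not at hcon
    have : C = ⊥ := by
      rw [Subgroup.eq_bot_iff_forall]; exact hcon
    rw [this, Subgroup.card_bot] at hcard
    omega
  have hKne : ∀ k : K, k • x0 ∈ C ∧ k • x0 ≠ 1 := by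
    rintro k
    refine ⟨hKC k x0 hx0, ?_⟩
    intro h
    apply hx01
    have := congrArg (fun z => k⁻¹ • z) h
    simpa using this
  -- the orbit map is a bijection onto `C - 1`
  let f : K → {x : C // x ≠ 1} := fun k => ⟨⟨k • x0, (hKne k).1⟩, fun h => (hKne k).2 (congrArg Subtype.val h)⟩
  have hfs : Function.Surjective f := by
    rintro ⟨⟨x, hx⟩, hx1⟩
    obtain ⟨k, hk⟩ := htr x0 x hx0 hx hx01 (fun h => hx1 (Subtype.ext h))
    refine ⟨⟨ρ ^ k, k, by simp⟩, Subtype.ext (Subtype.ext ?_)⟩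
    exact hk
  have hfb : Function.Bijective f := by
    have : Fintype C := Fintype.ofFinite _
    refine (Nat.bijective_iff_surjective_and_card f).2 ⟨hfs, ?_⟩
    have h1 : Nat.card K = N := by rw [Nat.card_zpowers, hρ]
    have h2 : Nat.card {x : C // x ≠ 1} = N := by
      have h3 := Nat.card_eq_fintype_card (α := {x : C // x ≠ 1})
      rw [h3, Fintype.card_subtype_compl, Fintype.card_subtype_eq, ← Nat.card_eq_fintype_card, hcard]
      omega
    rw [h1, h2]
  have hreg : ∀ x ∈ C, x ∉ (⊥ : Subgroup Q) → ∃! k : K, x⁻¹ * (k • x0) ∈ (⊥ : Subgroup Q) := by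
    intro x hx hx1
    obtain ⟨k, hk⟩ := hfs ⟨⟨x, hx⟩, fun h => hx1 (by rw [Subgroup.mem_bot]; exact congrArg Subtype.val h)⟩
    have hk' : k • x0 = x := congrArg (fun z => ((z : {x : C // x ≠ 1}) : C).1) hk
    refine ⟨k, by show x⁻¹ * (k • x0) ∈ (⊥ : Subgroup Q); rw [hk', inv_mul_cancel]; exact Subgroup.one_mem _, ?_⟩
    intro l hl
    have hl' : l • x0 = x := (inv_mul_eq_one.1 (Subgroup.mem_bot.1 hl)).symm
    apply hfb.1
    apply Subtype.ext
    apply Subtype.ext
    show l • x0 = k • x0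
    rw [hl', hk']
  have hKcomm : ∀ a b : K, a * b = b * a := by
    rintro ⟨_, a, rfl⟩ ⟨_, b, rfl⟩
    exact Subtype.ext (by
      show ρ ^ a * ρ ^ b = ρ ^ b * ρ ^ a
      rw [← zpow_add, ← zpow_add, add_comm])
  obtain ⟨π, lam, h1, h2, h3, h4, h5, h6, h7⟩ := Suz2.section_field (K := K) hKcomm (M := C) (A := ⊥) bot_le hKC
    (by
      intro k a ha
      rw [Subgroup.mem_bot] at ha ⊢
      rw [ha, smul_one])
    (by
      intro m _ a ha
      rw [Subgroup.mem_bot] at ha ⊢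
      rw [ha, mul_one, mul_inv_cancel])
    (by
      intro x hx y hy
      rw [Subgroup.mem_bot]
      have : x * y = y * x := congrArg Subtype.val (hCc.is_comm.comm ⟨x, hx⟩ ⟨y, hy⟩)
      rw [this]; group)
    hx0 (fun h => hx01 (Subgroup.mem_bot.1 h)) hreg F (by
      rw [hF, Subgroup.relIndex_bot_left, hcard])
  let ρK : K := ⟨ρ, Subgroup.mem_zpowers ρ⟩
  refine ⟨lam ρK, ⟨α.toMonoidHom, ρ.toMonoidHom, hα, hcomm', π, ?_, ?_, ?_, ?_⟩, ?_, fun _ => rfl, fun _ => rfl⟩
  · intro x y hx hy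
    exact h1 x ((hC x).2 hx) y ((hC y).2 hy)
  · intro x hx h0
    exact Subgroup.mem_bot.1 ((h2 x ((hC x).2 hx)).1 h0)
  · intro s
    obtain ⟨x, hx, hs⟩ := h3 s
    exact ⟨x, (hC x).1 hx, hs⟩
  · intro x hx
    exact h4 ρK x ((hC x).2 hx)
  · intro s hs
    obtain ⟨⟨_, k, rfl⟩, hk⟩ := h7 s hs
    have hfin : IsOfFinOrder ρ := isOfFinOrder_of_finite ρ
    obtain ⟨j, hj⟩ : ∃ j : ℕ, ρ ^ j = ρ ^ k := by
      obtain ⟨j, hj⟩ := hfin.mem_powers_iff_mem_zpowers.2 (⟨k, rfl⟩ : ρ ^ k ∈ Subgroup.zpowers ρ)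
      exact ⟨j, hj⟩
    refine ⟨j, ?_⟩
    rw [← map_pow, ← hk]
    congr 1
    exact Subtype.ext hj

end Cfsg.Agent.H21.SI
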