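import Cfsg.Agent.H21.SI7
import Cfsg.Agent.H21.TFIso

/-! The abelian case and the four-group case. -/

set_option autoImplicit false

namespace Cfsg.Agent.H21.SI

open AStr Str Sq

universe u v

/-- abelian case: elementary abelian or all involutions are fixed -/
theorem abel_case {Q : Type u} [Group Q] [Finite Q] {F : Type v} [Field F] [Finite F] [CharP F 2] {lam : F} (hl : Gen lam)
    (D : Cfg Q F lam) (hQ : IsPGroup 2 Q) (hinj : Function.Injective D.ρ) (hab : ∀ x y : Q, x * y = y * x) :
    (Nat.card Q = Nat.card F * Nat.card F ∧ ∀ x : Q, x * x = 1) ∨ ∀ x : Q, x * x = 1 → D.α x = x := by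
  by_cases hne : ∃ x, D.α x ≠ x
  swap
  · right
    intro x _
    by_contra h
    exact hne ⟨x, h⟩
  obtain ⟨A, _, _, S, m, L, hSα, hSρ, -⟩ := exists_str D hQ hl hinj hne
  have hg1 : ∀ a x, S.g a x = 1 := by
    intro a x
    apply S.inc_inj
    rw [g, map_mul, map_inv, S.inc_cj, map_one, hab (x⁻¹ * S.inc a) x]; group
  have hmemA : ∀ a : A, S.inc a * S.inc a = 1 → D.α (S.inc a) = S.inc a := by
    intro a ha
    rw [← hSα, S.α_inc]
    exact inv_eq_of_mul_eq_one_right ha
  rcases m with _ | k
  · -- `A` elementary abelian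
    have haa : ∀ a : A, a * a = 1 := by
      intro a
      have := L.P0 a
      rwa [zero_add, pow_one, pow_two] at this
    have hexs : ∀ x : Q, ∃ s : A, S.inc s = x * x := fun x => S.exists_s L x
    choose s hs using hexs
    have smul : ∀ x y, s (x * y) = s x * s y := by
      intro x y
      apply S.inc_inj
      rw [hs, map_mul, hs, hs, mul_assoc, ← mul_assoc y x y, hab y x]; group
    have sρ : ∀ x, s (S.ρT x) = S.ρ (s x) := by
      intro x
      apply S.inc_inj
      rw [hs, S.inc_ρ, hs, map_mul]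
    let q : Q → F := fun x => S.ε (s x)
    have qmul : ∀ x y, q (x * y) = q x + q y := fun x y => by
      show S.ε (s (x * y)) = S.ε (s x) + S.ε (s y)
      rw [smul, S.ε_mul _ _ (haa _) (haa _)]
    have qρ : ∀ x, q (S.ρT x) = lam * q x := fun x => by
      show S.ε (s (S.ρT x)) = lam * S.ε (s x)
      rw [sρ, S.ε_ρ _ (haa _)]
    have qinc : ∀ a, q (S.inc a) = 0 := fun a => by
      show S.ε (s (S.inc a)) = 0
      have : s (S.inc a) = 1 := by
        apply S.inc_inj
        rw [hs, ← map_mul, haa, map_one]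
      rw [this, S.ε_one]
    have hwell : ∀ x y, S.ω 0 x = S.ω 0 y → q x = q y := by
      intro x y hxy
      have h2 : S.ω 0 (x * y⁻¹) = 0 := by
        have e1 := S.ω_mul L (x * y⁻¹) y
        rw [inv_mul_cancel_right, hxy] at e1
        exact right_eq_add.1 e1
      obtain ⟨a, ha⟩ := (S.ω_zero L).1 h2
      have h3 : x = S.inc a * y := by rw [ha]; group
      rw [h3, qmul, qinc, zero_add]
    obtain ⟨x1, hx1⟩ := S.ω_surj L 1
    have hq : ∀ x, q x = q x1 * S.ω 0 x := by
      intro x
      by_cases h0 : S.ω 0 x = 0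
      · obtain ⟨a, rfl⟩ := (S.ω_zero L).1 h0
        rw [h0, mul_zero, qinc]
      obtain ⟨k, hk⟩ := hl _ h0
      have h1 : ∀ k, S.ω 0 ((S.ρT^[k]) x1) = lam ^ k ∧ q ((S.ρT^[k]) x1) = lam ^ k * q x1 := by
        intro k
        induction k with
        | zero => exact ⟨by rw [pow_zero]; exact hx1, by rw [pow_zero, one_mul]; rfl⟩
        | succ k ih =>
          obtain ⟨i2, i3⟩ := ih
          rw [Function.iterate_succ_apply']
          exact ⟨by rw [S.ω_ρ L, i2, pow_succ, mul_comm], by rw [qρ, i3, pow_succ]; ring⟩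
      obtain ⟨i2, i3⟩ := h1 k
      rw [hwell x _ (by rw [i2, hk]), i3, hk, mul_comm]
    by_cases he : q x1 = 0
    · left
      have hall : ∀ x : Q, x * x = 1 := by
        intro x
        have h1 := hq x
        rw [he, zero_mul] at h1
        have h2 := S.ε_inj _ (haa _) h1
        rw [← hs, h2, map_one]
      refine ⟨?_, hall⟩
      -- counting
      have h1 : Nat.card A = Nat.card F := by
        apply Nat.card_congr
        refine Equiv.ofBijective S.ε ⟨fun a b hab' => S.toAStr.eq_of_ε (haa a) (haa b) hab', fun t => ?_⟩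
        obtain ⟨a, -, ha⟩ := S.ε_surj t
        exact ⟨a, ha⟩
      let f : Q →* Multiplicative F := MonoidHom.mk' (fun x => Multiplicative.ofAdd (S.ω 0 x)) (fun x y => by
        rw [S.ω_mul L]; rfl)
      have hf : Function.Surjective f := fun t => S.ω_surj L (Multiplicative.toAdd t)
      have h2 := Subgroup.card_eq_card_quotient_mul_card_subgroup f.ker
      have h3 : Nat.card (Q ⧸ f.ker) = Nat.card F :=
        Nat.card_congr (QuotientGroup.quotientKerEquivOfSurjective f hf).toEquiv
      have h4 : Nat.card f.ker = Nat.card A := by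
        have h5 : f.ker = S.inc.range := by
          ext x
          rw [MonoidHom.mem_ker, MonoidHom.mem_range]
          exact S.ω_zero L
        rw [h5, ← Nat.card_congr (MonoidHom.ofInjective S.inc_inj).toEquiv]
      rw [h2, h3, h4, h1]
    · right
      intro x hx
      have h1 := hq x
      have h2 : q x = 0 := by
        show S.ε (s x) = 0
        have : s x = 1 := by
          apply S.inc_inj
          rw [hs, hx, map_one]
        rw [this, S.ε_one]
      rw [h2] at h1
      have h3 := (mul_eq_zero.1 h1.symm).resolve_left he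
      obtain ⟨a, rfl⟩ := (S.ω_zero L).1 h3
      exact hmemA a hx
  · right
    rcases S.dich hl L with h | ⟨h1, h2⟩
    · intro x hx
      have h3 := h x 1 (by rw [map_one, hx])
      have h4 : S.ω₂ (k + 1) (1 : A) = 0 := by rw [ω₂, one_pow, S.ε_one]
      rw [h4] at h3
      obtain ⟨a, rfl⟩ := (S.ω_zero L).1 h3.symm
      exact hmemA a hx
    · exfalso
      obtain ⟨x, hx⟩ := S.ω_surj L 1
      obtain ⟨a, ha⟩ := S.ω₂_surj L 1
      have h3 := h1 a x
      rw [hg1, one_pow, S.ε_one, zero_mul, ha, hx, one_mul] at h3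
      exact zero_ne_one h3

theorem four_case {Q : Type u} [Group Q] [Finite Q] (hQ : IsPGroup 2 Q) (α ρ : MulAut Q) (hα : ∀ x, α (α x) = x)
    (hρ : orderOf ρ = 3) (hc : Commute α ρ) (C : Subgroup Q) (hC : ∀ x : Q, x ∈ C ↔ α x = x) (hCe : ∀ x ∈ C, x * x = 1)
    (hcard : Nat.card C = 4) (hfree : ∀ x ∈ C, ρ x = x → x = 1) :
    (Nat.card Q = 16 ∧ ∀ x : Q, x * x = 1) ∨
    (∃ n : ℕ, 1 ≤ n ∧ Nonempty (Q ≃* Multiplicative (ZMod (2 ^ n) × ZMod (2 ^ n)))) ∨
    (∃ (F : Type) (_ : Field F) (_ : Fintype F), Fintype.card F = 4 ∧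
      ∀ P : Sylow 2 (Matrix.ProjectiveSpecialLinearGroup (Fin 3) F),
        Nonempty (Q ≃* ↥(P : Subgroup (Matrix.ProjectiveSpecialLinearGroup (Fin 3) F)))) ∨
    (∃ (F : Type) (_ : Field F) (_ : Fintype F), Fintype.card F = 16 ∧
      ∀ P : Sylow 2 (Cfsg.PSU 3 F 4), Nonempty (Q ≃* ↥(P : Subgroup (Cfsg.PSU 3 F 4)))) := by
  classical
  have hp : Fact (Nat.Prime 2) := ⟨Nat.prime_two⟩
  have hρ3 : ∀ x, ρ (ρ (ρ x)) = x := by
    intro x
    have h1 : ρ ^ 3 = 1 := by rw [← hρ, pow_orderOf_eq_one]
    have h2 := DFunLike.congr_fun h1 x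
    simpa [pow_succ] using h2
  have hcomm' : ∀ x, α (ρ x) = ρ (α x) := fun x => DFunLike.congr_fun hc.eq x
  have hρC : ∀ x ∈ C, ρ x ∈ C := by
    intro x hx
    rw [hC] at hx ⊢
    rw [hcomm', hx]
  have hCc : IsMulCommutative C := by
    refine ⟨⟨fun a b => Subtype.ext ?_⟩⟩
    have h1 := hCe _ (C.mul_mem a.2 b.2)
    have h2 := hCe _ a.2
    have h3 := hCe _ b.2
    have i1 : (a : Q)⁻¹ = a := inv_eq_of_mul_eq_one_right h2
    have i2 : (b : Q)⁻¹ = b := inv_eq_of_mul_eq_one_right h3
    have i3 : ((a : Q) * b)⁻¹ = a * b := inv_eq_of_mul_eq_one_right h1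
    show (a : Q) * b = b * a
    rw [← i3, mul_inv_rev, i1, i2]
  have htr : ∀ x y : Q, x ∈ C → y ∈ C → x ≠ 1 → y ≠ 1 → ∃ k : ℕ, (ρ ^ k) x = y := by
    intro x y hx hy hx1 hy1
    by_contra hcon
    push Not at hcon
    have n0 := hcon 0
    have n1 := hcon 1
    have n2 := hcon 2
    have e0 : (ρ ^ 0) x = x := rfl
    have e1 : (ρ ^ 1) x = ρ x := by rw [pow_one]
    have e2 : (ρ ^ 2) x = ρ (ρ x) := by rw [pow_two]; rfl
    rw [e0] at n0
    rw [e1] at n1
    rw [e2] at n2
    have m1 : ρ x ≠ x := fun h => hx1 (hfree x hx h)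
    have m2 : ρ (ρ x) ≠ ρ x := fun h => m1 (ρ.injective h)
    have m3 : ρ (ρ x) ≠ x := by
      intro h
      apply m1
      have := congrArg ρ h
      rw [hρ3] at this
      exact this.symm
    have k1 : ρ x ≠ 1 := fun h => hx1 (ρ.injective (by rw [h, map_one]))
    have k2 : ρ (ρ x) ≠ 1 := fun h => k1 (ρ.injective (by rw [h, map_one]))
    let s : Finset Q := {1, x, ρ x, ρ (ρ x), y}
    have hs : s.card = 5 := by
      show ({1, x, ρ x, ρ (ρ x), y} : Finset Q).card = 5
      rw [Finset.card_insert_of_notMem, Finset.card_insert_of_notMem, Finset.card_insert_of_notMem,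
        Finset.card_insert_of_notMem, Finset.card_singleton]
      · simp [n2]
      · simp [m2.symm, n1]
      · simp [m1.symm, m3.symm, n0]
      · simp [hx1.symm, k1.symm, k2.symm, hy1.symm]
    have hsC : ∀ z ∈ s, z ∈ C := by
      intro z hz
      simp only [s, Finset.mem_insert, Finset.mem_singleton] at hz
      rcases hz with rfl | rfl | rfl | rfl | rfl
      · exact C.one_mem
      · exact hx
      · exact hρC _ hx
      · exact hρC _ (hρC _ hx)
      · exact hy
    have h1 : s.card ≤ Nat.card C := by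
      rw [← Nat.card_eq_fintype_card.trans (Fintype.card_coe s)]
      exact Nat.card_le_card_of_injective (fun z : s => (⟨z.1, hsC z.1 z.2⟩ : C))
        (fun a b hab => Subtype.ext (congrArg (fun w : C => (w : Q)) hab))
    rw [hs, hcard] at h1
    omega
  let E := GaloisField 2 4
  have hcE : Nat.card E = 2 ^ 4 := GaloisField.card 2 4 (by omega)
  have : Finite E := Nat.finite_of_card_ne_zero (by rw [hcE]; positivity)
  let _ : Fintype E := Fintype.ofFinite E
  have hE : Fintype.card E = (2 ^ 2) ^ 2 := by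
    rw [← Nat.card_eq_fintype_card, hcE]; norm_num
  by_cases hab : ∀ x y : Q, x * y = y * x
  · have hcF := card_fixF hE
    have : CharP (fixF (conjE hE)) 2 := charP_fixF _
    obtain ⟨lam, D, hl, hDα, hDρ⟩ := exists_cfg α ρ hα hc hρ (by omega) C hC hCc (by rw [hcard]) htr (fixF (conjE hE))
      (by rw [hcF]; norm_num)
    have hinj : Function.Injective D.ρ := fun a b h => by
      rw [hDρ, hDρ] at h
      exact ρ.injective h
    rcases abel_case hl D hQ hinj hab with ⟨h1, h2⟩ | h
    · left
      rw [hcF] at h1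
      exact ⟨h1, h2⟩
    · right; left
      have hconf : TF.Conf C ρ := by
        refine ⟨hQ, fun x => ⟨hCe x, fun hx => ?_⟩, fun z _ x => hab z x, hcard, ?_, ⟨1, ?_⟩⟩
        · rw [hC, ← hDα]
          exact h x hx
        · intro x hx
          by_contra hx1
          obtain ⟨k, hk⟩ := hQ x
          -- an involution among the powers of `x`
          have hex : ∃ k, x ^ 2 ^ k = 1 := ⟨k, hk⟩
          have hk := Nat.find_spec hex
          have hmin : ∀ m, m < Nat.find hex → ¬ x ^ 2 ^ m = 1 := fun m hm => Nat.find_min hex hm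
          generalize Nat.find hex = k at hk hmin
          rcases k with _ | k
          · rw [pow_zero, pow_one] at hk
            exact hx1 hk
          · have h1 := hmin k (by omega)
            apply h1
            apply hfree
            · rw [hC, ← hDα]
              apply h
              rw [← pow_two, ← pow_mul, ← pow_succ]; exact hk
            · rw [map_pow, hx]
        · rw [pow_one, ← hρ, pow_orderOf_eq_one]
      exact hconf.homocyclic hab
  · right; right
    push Not at hab
    obtain ⟨e, ⟨D⟩⟩ := nonab_final hQ hab (n := 2) le_rfl α ρ hα (by rw [hρ]; norm_num) hc C hC hCc (by rw [hcard]; norm_num)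
      htr hE
    have : CharP (fixF (conjE hE)) 2 := charP_fixF _
    have hcF := card_fixF hE
    by_cases he : ∃ r : fixF (conjE hE), r * r + r = e
    · left
      obtain ⟨r, hr⟩ := he
      refine ⟨fixF (conjE hE), inferInstance, inferInstance, ?_, ?_⟩
      · rw [← Nat.card_eq_fintype_card, hcF]; norm_num
      · intro P
        obtain ⟨D₂⟩ := psl_data P
        exact iso_hyp D D₂ hr
    · right
      push Not at he
      refine ⟨E, inferInstance, inferInstance, ?_, ?_⟩
      · rw [hE]; norm_num
      · have key : ∀ (q : ℕ) (hq : q = 2 ^ 2) (P : Sylow 2 (Cfsg.PSU 3 E q)), Nonempty (Q ≃* ↥(P : Subgroup (Cfsg.PSU 3 E q))) := by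
          rintro q rfl P
          obtain ⟨D₂⟩ := psu_data hE P
          refine iso_ell (conjE hE) (conjE_conjE hE) (conjE_ne_one hE) ?_ D D₂ he
          rw [hcF, Nat.card_eq_fintype_card, hE, pow_two]
        exact key 4 (by norm_num)

end Cfsg.Agent.H21.SI
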