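import Cfsg.Agent.H21.SqAut
import Cfsg.Agent.H21.SqU3
import Cfsg.Agent.Fus.Alperin

/-! The automorphism group of a Sylow 2-subgroup of `SU₃(q)`, `q` even. -/

set_option autoImplicit false

namespace Cfsg.Agent.H21.Sq

section Gen

variable {T W V : Type*} [Group T] [AddCommGroup W] [AddCommGroup V] {Q : W → V}

/-- automorphisms acting trivially on the quotient -/
def kerAut (D : SqData T W V Q) : Subgroup (MulAut T) where
  carrier := {φ | ∀ t, D.π (φ t) = D.π t}
  one_mem' := fun _ => rfl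
  mul_mem' := by
    intro a b ha hb t
    show D.π (a (b t)) = D.π t
    rw [ha, hb]
  inv_mem' := by
    intro a ha t
    have := ha (a⁻¹ t)
    rw [MulAut.apply_inv_self] at this
    exact this.symm

theorem mem_kerAut {D : SqData T W V Q} {φ : MulAut T} : φ ∈ kerAut D ↔ ∀ t, D.π (φ t) = D.π t := Iff.rfl

/-- the automorphism defined by a homomorphism `W → V` -/
def ofHom (D : SqData T W V Q) (f : W →+ V) : MulAut T where
  toFun t := t * D.ι (Multiplicative.ofAdd (f (Multiplicative.toAdd (D.π t))))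
  invFun t := t * D.ι (Multiplicative.ofAdd (f (Multiplicative.toAdd (D.π t))))
  left_inv t := by
    show t * D.ι _ * D.ι _ = t
    rw [map_mul, D.pi_iota, mul_one, mul_assoc, D.iota_sq, mul_one]
  right_inv t := by
    show t * D.ι _ * D.ι _ = t
    rw [map_mul, D.pi_iota, mul_one, mul_assoc, D.iota_sq, mul_one]
  map_mul' s t := by
    show s * t * D.ι _ = s * D.ι _ * (t * D.ι _)
    have h1 : Multiplicative.ofAdd (f (Multiplicative.toAdd (D.π (s * t)))) =
        Multiplicative.ofAdd (f (Multiplicative.toAdd (D.π s))) * Multiplicative.ofAdd (f (Multiplicative.toAdd (D.π t))) := by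
      rw [map_mul]
      show Multiplicative.ofAdd (f (Multiplicative.toAdd (D.π s) + Multiplicative.toAdd (D.π t))) = _
      rw [map_add]; rfl
    rw [h1, map_mul]
    have h2 := D.central (Multiplicative.ofAdd (f (Multiplicative.toAdd (D.π s)))) t
    calc s * t * (D.ι (Multiplicative.ofAdd (f (Multiplicative.toAdd (D.π s)))) * D.ι (Multiplicative.ofAdd (f (Multiplicative.toAdd (D.π t)))))
        = s * (t * D.ι (Multiplicative.ofAdd (f (Multiplicative.toAdd (D.π s))))) * D.ι (Multiplicative.ofAdd (f (Multiplicative.toAdd (D.π t)))) := by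
          group
      _ = _ := by rw [← h2]; group

theorem ofHom_apply (D : SqData T W V Q) (f : W →+ V) (t : T) :
    ofHom D f t = t * D.ι (Multiplicative.ofAdd (f (Multiplicative.toAdd (D.π t)))) := rfl

theorem ofHom_mem (D : SqData T W V Q) (f : W →+ V) : ofHom D f ∈ kerAut D := by
  intro t
  rw [ofHom_apply, map_mul, D.pi_iota, mul_one]

/-- the kernel is `Hom(W, V)`; we assume that the values of `Q` generate `V` (here: that they are all of `V`). -/
theorem exists_ofHom (D : SqData T W V Q) (hQ : Function.Surjective Q) {φ : MulAut T} (hφ : φ ∈ kerAut D) :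
    ∃ f : W →+ V, φ = ofHom D f := by
  obtain ⟨A, B, hB, hA, hι, hAB⟩ := D.induced D φ (fun t ht => by rw [hφ, ht])
  have hA1 : ∀ w, A w = w := by
    intro w
    obtain ⟨t, ht⟩ := D.surj (Multiplicative.ofAdd w)
    have := hA t
    rw [hφ, ht] at this
    exact this.symm
  have hB1 : ∀ v, B v = v := by
    intro v
    obtain ⟨w, rfl⟩ := hQ v
    rw [← hAB, hA1]
  have hι' : ∀ v, φ (D.ι v) = D.ι v := by
    intro v
    have := hι (Multiplicative.toAdd v)
    rw [hB1] at this
    exact this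
  have hex : ∀ t, ∃ v, D.ι v = t⁻¹ * φ t := by
    intro t
    rw [← D.exact, map_mul, map_inv, hφ, inv_mul_cancel]
  choose g hg using hex
  have hgmul : ∀ s t, g (s * t) = g s * g t := by
    intro s t
    apply D.inj
    rw [map_mul, hg, hg, hg, map_mul]
    have h1 := D.central (g s) t
    rw [hg s] at h1
    calc (s * t)⁻¹ * (φ s * φ t) = t⁻¹ * (s⁻¹ * φ s) * φ t := by group
      _ = t⁻¹ * ((s⁻¹ * φ s) * t) * (t⁻¹ * φ t) := by group
      _ = t⁻¹ * (t * (s⁻¹ * φ s)) * (t⁻¹ * φ t) := by rw [h1]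
      _ = _ := by group
  have hgι : ∀ v, g (D.ι v) = 1 := by
    intro v
    apply D.inj
    rw [hg, hι', inv_mul_cancel, map_one]
  have hwell : ∀ s t, D.π s = D.π t → g s = g t := by
    intro s t h
    obtain ⟨v, hv⟩ := (D.exact (s⁻¹ * t)).1 (by rw [map_mul, map_inv, h, inv_mul_cancel])
    have h1 : t = s * D.ι v := by rw [hv]; group
    rw [h1, hgmul, hgι, mul_one]
  choose σ hσ using D.surj
  let f : W →+ V :=
    { toFun := fun w => Multiplicative.toAdd (g (σ (Multiplicative.ofAdd w)))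
      map_zero' := by
        have h1 := hwell (σ (Multiplicative.ofAdd 0)) 1 (by rw [hσ, map_one]; rfl)
        have h2 : g 1 = 1 := by
          have := hgι 1
          rwa [map_one] at this
        rw [h1, h2]; rfl
      map_add' := fun x y => by
        have h1 := hwell (σ (Multiplicative.ofAdd (x + y))) (σ (Multiplicative.ofAdd x) * σ (Multiplicative.ofAdd y))
          (by rw [hσ, map_mul, hσ, hσ]; rfl)
        rw [h1, hgmul]; rfl }
  refine ⟨f, ?_⟩
  ext t
  rw [ofHom_apply]
  have h1 : D.ι (Multiplicative.ofAdd (f (Multiplicative.toAdd (D.π t)))) = t⁻¹ * φ t := by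
    rw [← hg t]
    congr 1
    show g (σ (D.π t)) = g t
    apply hwell
    rw [hσ]
  rw [h1]; group

theorem card_kerAut (D : SqData T W V Q) (hQ : Function.Surjective Q) :
    Nat.card (kerAut D) = Nat.card (W →+ V) := by
  symm
  apply Nat.card_congr
  refine Equiv.ofBijective (fun f => (⟨ofHom D f, ofHom_mem D f⟩ : kerAut D)) ⟨?_, ?_⟩
  · intro f g hfg
    have h1 : ofHom D f = ofHom D g := congrArg Subtype.val hfg
    ext w
    obtain ⟨t, ht⟩ := D.surj (Multiplicative.ofAdd w)
    have h2 := DFunLike.congr_fun h1 t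
    rw [ofHom_apply, ofHom_apply, ht] at h2
    exact Multiplicative.ofAdd.injective (D.inj (mul_left_cancel h2))
  · rintro ⟨φ, hφ⟩
    obtain ⟨f, hf⟩ := exists_ofHom D hQ hφ
    exact ⟨f, Subtype.ext hf.symm⟩

theorem elementary_kerAut (D : SqData T W V Q) (hQ : Function.Surjective Q) :
    Cfsg.IsElementaryAbelian 2 (kerAut D) := by
  have hmul : ∀ f g : W →+ V, ∀ t, (ofHom D f * ofHom D g) t =
      t * D.ι (Multiplicative.ofAdd (f (Multiplicative.toAdd (D.π t)) + g (Multiplicative.toAdd (D.π t)))) := by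
    intro f g t
    show ofHom D f (ofHom D g t) = _
    rw [ofHom_apply, ofHom_mem, ofHom_apply, mul_assoc, ← map_mul]
    congr 2
    rw [add_comm]; rfl
  constructor
  · constructor
    constructor
    rintro ⟨a, ha⟩ ⟨b, hb⟩
    obtain ⟨f, rfl⟩ := exists_ofHom D hQ ha
    obtain ⟨g, rfl⟩ := exists_ofHom D hQ hb
    apply Subtype.ext
    ext t
    show (ofHom D f * ofHom D g) t = (ofHom D g * ofHom D f) t
    rw [hmul, hmul, add_comm]
  · intro a ha
    obtain ⟨f, rfl⟩ := exists_ofHom D hQ ha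
    ext t
    rw [pow_two, hmul, D.two]
    simp

end Gen

/-- number of additive maps -/
theorem card_hom {W V : Type*} [AddCommGroup W] [AddCommGroup V] [Finite W] [Finite V] (hW : ∀ w : W, w + w = 0)
    (hV : ∀ v : V, v + v = 0) {a b : ℕ} (ha : Nat.card W = 2 ^ a) (hb : Nat.card V = 2 ^ b) :
    Nat.card (W →+ V) = 2 ^ (a * b) := by
  classical
  let _ : Module (ZMod 2) W := AddCommGroup.zmodModule (fun x => by rw [two_nsmul, hW])
  let _ : Module (ZMod 2) V := AddCommGroup.zmodModule (fun x => by rw [two_nsmul, hV])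
  have hfrW : Module.finrank (ZMod 2) W = a := by
    have h1 := Module.natCard_eq_pow_finrank (K := ZMod 2) (V := W)
    rw [ha, Nat.card_zmod] at h1
    exact (Nat.pow_right_injective le_rfl h1).symm
  have hfrV : Module.finrank (ZMod 2) V = b := by
    have h1 := Module.natCard_eq_pow_finrank (K := ZMod 2) (V := V)
    rw [hb, Nat.card_zmod] at h1
    exact (Nat.pow_right_injective le_rfl h1).symm
  rw [Nat.card_congr (AddMonoidHom.toZModLinearMapEquiv 2).toEquiv,
    Module.natCard_eq_pow_finrank (K := ZMod 2) (V := W →ₗ[ZMod 2] V), Module.finrank_linearMap, hfrW, hfrV, Nat.card_zmod]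

variable {F : Type*} [Field F] [Fintype F] {q : ℕ}

theorem nrm_surj (hF : Fintype.card F = q ^ 2) [CharP F 2] : Function.Surjective (nrm (conjE hF) (conjE_conjE hF)) := by
  intro v
  obtain ⟨x, hx⟩ := Uni.exists_norm_eq hF v.2
  refine ⟨x, Subtype.ext ?_⟩
  show x * x ^ q = v.1
  rw [← hx, pow_succ, mul_comm]

variable {T : Type*} [Group T] [Finite T]

/-- automorphisms of `T` are semilinear -/
theorem aut_semi (hF : Fintype.card F = q ^ 2) [CharP F 2]
    (D : SqData T F (fixedAdd (conjE hF)) (nrm (conjE hF) (conjE_conjE hF))) (φ : MulAut T) :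
    ∃ (a : Fˣ) (σ : F ≃+* F), ∀ t, Multiplicative.toAdd (D.π (φ t)) = a * σ (Multiplicative.toAdd (D.π t)) := by
  classical
  have : Fintype (F ≃+* F) := by
    have := Suz2.finite_aut F
    exact Fintype.ofFinite _
  have hcen : Subgroup.center T = D.ι.range := D.center_eq (nrm_nondeg _ (conjE_conjE hF) (conjE_ne_one hF))
  obtain ⟨A, B, hB, hA, hι, hQ⟩ := D.induced D φ (by
    intro t ht
    rw [D.exact] at ht ⊢
    have h1 : t ∈ Subgroup.center T := by rw [hcen]; exact ht
    have h2 : φ t ∈ Subgroup.center T := by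
      have := Subgroup.Characteristic.fixed (H := Subgroup.center T) inferInstance φ
      rw [← this] at h1
      exact h1
    rw [hcen] at h2
    exact h2)
  obtain ⟨a, σ, ha, hσ⟩ := semilinear _ (conjE_conjE hF) (conjE_ne_one hF)
    (conjE_comm hF) A ((AddSubgroup.subtype _).comp B)
    (fun x y hxy => hB (Subtype.ext hxy)) (fun x => congrArg Subtype.val (hQ x))
  refine ⟨Units.mk0 a ha, σ, fun t => ?_⟩
  rw [hA, hσ]; rfl

/-- all semilinear maps lift -/
theorem exists_lift (hF : Fintype.card F = q ^ 2) [CharP F 2]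
    (D : SqData T F (fixedAdd (conjE hF)) (nrm (conjE hF) (conjE_conjE hF))) (a : Fˣ) (σ : F ≃+* F) :
    ∃ φ : MulAut T, ∀ t, Multiplicative.toAdd (D.π (φ t)) = a * σ (Multiplicative.toAdd (D.π t)) := by
  let A : F ≃+ F :=
    { toFun := fun x => a * σ x
      invFun := fun x => σ.symm ((a⁻¹ : Fˣ) * x)
      left_inv := fun x => by
        show σ.symm ((a⁻¹ : Fˣ) * (a * σ x)) = x
        rw [← mul_assoc, ← Units.val_mul, inv_mul_cancel, Units.val_one, one_mul, σ.symm_apply_apply]
      right_inv := fun x => by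
        show a * σ (σ.symm ((a⁻¹ : Fˣ) * x)) = x
        rw [σ.apply_symm_apply, ← mul_assoc, ← Units.val_mul, mul_inv_cancel, Units.val_one, one_mul]
      map_add' := fun x y => by rw [map_add]; ring }
  let N := fun x : F => x * conjE hF x
  have hN : ∀ x, conjE hF (N x) = N x := fun x => by
    show conjE hF (x * conjE hF x) = x * conjE hF x
    rw [map_mul, conjE_conjE, mul_comm]
  let B : fixedAdd (conjE hF) ≃+ fixedAdd (conjE hF) :=
    { toFun := fun v => ⟨N a * σ v.1, by
        rw [mem_fixedAdd, map_mul, hN, ← conjE_comm hF, v.2]⟩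
      invFun := fun v => ⟨σ.symm (N (a⁻¹ : Fˣ) * v.1), by
        rw [mem_fixedAdd, ← conjE_comm hF, map_mul (conjE hF), hN, v.2]⟩
      left_inv := fun v => by
        apply Subtype.ext
        show σ.symm (N (a⁻¹ : Fˣ) * (N a * σ v.1)) = v.1
        have h1 : N (a⁻¹ : Fˣ) * N a = 1 := by
          show ((a⁻¹ : Fˣ) : F) * conjE hF (a⁻¹ : Fˣ) * (a * conjE hF a) = 1
          have : ((a⁻¹ : Fˣ) : F) * conjE hF (a⁻¹ : Fˣ) * (a * conjE hF a) =
            (((a⁻¹ : Fˣ) : F) * a) * conjE hF (((a⁻¹ : Fˣ) : F) * a) := by rw [map_mul]; ring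
          rw [this, ← Units.val_mul, inv_mul_cancel, Units.val_one, map_one, one_mul]
        rw [← mul_assoc, h1, one_mul, σ.symm_apply_apply]
      right_inv := fun v => by
        apply Subtype.ext
        show N a * σ (σ.symm (N (a⁻¹ : Fˣ) * v.1)) = v.1
        have h1 : N a * N (a⁻¹ : Fˣ) = 1 := by
          show (a : F) * conjE hF a * (((a⁻¹ : Fˣ) : F) * conjE hF (a⁻¹ : Fˣ)) = 1
          have : (a : F) * conjE hF a * (((a⁻¹ : Fˣ) : F) * conjE hF (a⁻¹ : Fˣ)) =
            ((a : F) * (a⁻¹ : Fˣ)) * conjE hF ((a : F) * (a⁻¹ : Fˣ)) := by rw [map_mul]; ring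
          rw [this, ← Units.val_mul, mul_inv_cancel, Units.val_one, map_one, one_mul]
        rw [σ.apply_symm_apply, ← mul_assoc, h1, one_mul]
      map_add' := fun x y => by
        apply Subtype.ext
        show N a * σ (x.1 + y.1) = N a * σ x.1 + N a * σ y.1
        rw [map_add]; ring }
  obtain ⟨φ, hφ, -⟩ := iso_of_sq D D A B (fun w => by
    apply Subtype.ext
    show (a * σ w) * conjE hF (a * σ w) = (a * conjE hF a) * σ (w * conjE hF w)
    rw [map_mul, map_mul, conjE_comm hF]; ring)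
  exact ⟨φ, hφ⟩

theorem semi_unique {a b : Fˣ} {σ τ : F ≃+* F} (h : ∀ x, (a : F) * σ x = b * τ x) : a = b ∧ σ = τ := by
  have h1 : a = b := by
    have := h 1
    rw [map_one, map_one, mul_one, mul_one] at this
    exact Units.ext this
  refine ⟨h1, RingEquiv.ext fun x => ?_⟩
  have := h x
  rw [h1] at this
  exact mul_left_cancel₀ b.ne_zero this

theorem card_quot (hF : Fintype.card F = q ^ 2) [CharP F 2]
    (D : SqData T F (fixedAdd (conjE hF)) (nrm (conjE hF) (conjE_conjE hF))) :
    Nat.card (MulAut T ⧸ kerAut D) = Nat.card Fˣ * Nat.card (F ≃+* F) := by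
  rw [← Nat.card_prod]
  choose a σ hs using aut_semi hF D
  have hfib : ∀ φ ψ : MulAut T, (a φ = a ψ ∧ σ φ = σ ψ) ↔ φ⁻¹ * ψ ∈ kerAut D := by
    intro φ ψ
    constructor
    · rintro ⟨h1, h2⟩ t
      -- `π (φ s) = π (ψ s)` for all `s`
      have h3 : ∀ s, D.π (φ s) = D.π (ψ s) := by
        intro s
        have e1 := hs φ s
        rw [h1, h2, ← hs ψ s] at e1
        exact e1
      have hx : ∀ s t, D.π (φ s) = D.π (φ t) → D.π s = D.π t := by
        intro s t h
        have e1 := hs φ s
        rw [h, hs φ t] at e1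
        have e2 := mul_left_cancel₀ (a φ).ne_zero e1
        exact ((σ φ).injective e2).symm
      show D.π (φ⁻¹ (ψ t)) = D.π t
      apply hx
      rw [MulAut.apply_inv_self, h3]
    · intro h
      apply semi_unique
      intro x
      obtain ⟨t, ht⟩ := D.surj (Multiplicative.ofAdd x)
      have h1 := h t
      have h2 : φ ((φ⁻¹ * ψ) t) = ψ t := by
        show φ (φ⁻¹ (ψ t)) = ψ t
        rw [MulAut.apply_inv_self]
      have h3 := hs φ ((φ⁻¹ * ψ) t)
      rw [h2, h1, hs ψ t, ht] at h3
      exact h3.symm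
  let f : MulAut T ⧸ kerAut D → Fˣ × (F ≃+* F) := Quotient.lift (fun φ => (a φ, σ φ)) (by
    intro φ ψ h
    rw [← Quotient.eq_iff_equiv, Quotient.eq] at h
    have h1 := (hfib φ ψ).2 (QuotientGroup.leftRel_apply.1 h)
    exact Prod.ext h1.1 h1.2)
  apply Nat.card_congr
  refine Equiv.ofBijective f ⟨?_, ?_⟩
  · intro x y
    refine QuotientGroup.induction_on x fun φ => ?_
    refine QuotientGroup.induction_on y fun ψ => ?_
    intro h
    have h1 : (a φ, σ φ) = (a ψ, σ ψ) := h
    rw [QuotientGroup.eq]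
    exact (hfib φ ψ).1 ⟨congrArg Prod.fst h1, congrArg Prod.snd h1⟩
  · rintro ⟨b, τ⟩
    obtain ⟨φ, hφ⟩ := exists_lift hF D b τ
    refine ⟨QuotientGroup.mk φ, ?_⟩
    have h1 := semi_unique (a := a φ) (b := b) (σ := σ φ) (τ := τ) (fun x => by
      obtain ⟨t, ht⟩ := D.surj (Multiplicative.ofAdd x)
      have e1 := hs φ t
      rw [hφ t, ht] at e1
      exact e1.symm)
    exact Prod.ext h1.1 h1.2

theorem scalar_eq_one (hF : Fintype.card F = q ^ 2) [CharP F 2]
    (D : SqData T F (fixedAdd (conjE hF)) (nrm (conjE hF) (conjE_conjE hF))) {φ : MulAut T} {m : ℕ}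
    (hm : φ ^ 2 ^ m = 1) {d : F} (hd : ∀ t, Multiplicative.toAdd (D.π (φ t)) = d * Multiplicative.toAdd (D.π t)) :
    d = 1 := by
  have h1 : ∀ k t, Multiplicative.toAdd (D.π ((φ ^ k) t)) = d ^ k * Multiplicative.toAdd (D.π t) := by
    intro k
    induction k with
    | zero => intro t; rw [pow_zero, pow_zero, one_mul]; rfl
    | succ k ih =>
      intro t
      rw [pow_succ']
      show Multiplicative.toAdd (D.π (φ ((φ ^ k) t))) = _
      rw [hd, ih, pow_succ]; ring
  obtain ⟨t, ht⟩ := D.surj (Multiplicative.ofAdd 1)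
  have h2 := h1 (2 ^ m) t
  rw [hm, MulAut.one_apply, ht] at h2
  have h3 : d ^ 2 ^ m = 1 := by
    have : (1 : F) = d ^ 2 ^ m * 1 := h2
    rw [mul_one] at this
    exact this.symm
  have h4 : (d - 1) ^ 2 ^ m = 0 := by
    rw [sub_pow_char_pow, h3, one_pow, sub_self]
  exact sub_eq_zero.1 (pow_eq_zero_iff (by positivity) |>.1 h4)

theorem kerAut_normal (hF : Fintype.card F = q ^ 2) [CharP F 2]
    (D : SqData T F (fixedAdd (conjE hF)) (nrm (conjE hF) (conjE_conjE hF))) : (kerAut D).Normal := by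
  constructor
  intro ν hν μ t
  obtain ⟨a, σ, h⟩ := aut_semi hF D μ
  show D.π (μ (ν (μ⁻¹ t))) = D.π t
  have h1 := h (ν (μ⁻¹ t))
  rw [hν, ← h, MulAut.apply_inv_self] at h1
  exact h1

theorem pCore_eq (hF : Fintype.card F = q ^ 2) [CharP F 2]
    (D : SqData T F (fixedAdd (conjE hF)) (nrm (conjE hF) (conjE_conjE hF))) : Cfsg.pCore 2 (MulAut T) = kerAut D := by
  have hQ := nrm_surj hF
  have hel := elementary_kerAut D hQ
  apply le_antisymm
  · intro ν hν
    obtain ⟨a, σ, h⟩ := aut_semi hF D ν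
    have hpg := Fus.isPGroup_pCore 2 (MulAut T)
    have hnormal := Fus.pCore_normal' 2 (MulAut T)
    have hord : ∀ x ∈ Cfsg.pCore 2 (MulAut T), ∃ m, x ^ 2 ^ m = 1 := by
      intro x hx
      obtain ⟨m, hm⟩ := hpg ⟨x, hx⟩
      exact ⟨m, congrArg Subtype.val hm⟩
    have hσ : ∀ c : Fˣ, σ c = c := by
      intro c
      obtain ⟨μ, hμ⟩ := exists_lift hF D c (RingEquiv.refl F)
      have hμ' : ∀ t, Multiplicative.toAdd (D.π (μ t)) = c * Multiplicative.toAdd (D.π t) := hμ
      -- the commutator `ν μ ν⁻¹ μ⁻¹`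
      have h1 : ν * (μ * ν⁻¹ * μ⁻¹) ∈ Cfsg.pCore 2 (MulAut T) :=
        Subgroup.mul_mem _ hν (hnormal.conj_mem _ (Subgroup.inv_mem _ hν) μ)
      obtain ⟨m, hm⟩ := hord _ h1
      have h2 : ∀ t, Multiplicative.toAdd (D.π ((ν * (μ * ν⁻¹ * μ⁻¹)) t)) =
          (σ c * (c⁻¹ : Fˣ)) * Multiplicative.toAdd (D.π t) := by
        intro t
        show Multiplicative.toAdd (D.π (ν (μ (ν⁻¹ (μ⁻¹ t))))) = _
        rw [h, hμ', map_mul]
        have h3 := h (ν⁻¹ (μ⁻¹ t))
        rw [MulAut.apply_inv_self] at h3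
        have h4 := hμ' (μ⁻¹ t)
        rw [MulAut.apply_inv_self, h3] at h4
        rw [h4]
        have h5 : ((c⁻¹ : Fˣ) : F) * c = 1 := by rw [← Units.val_mul, inv_mul_cancel, Units.val_one]
        calc (a : F) * (σ c * σ (Multiplicative.toAdd (D.π (ν⁻¹ (μ⁻¹ t)))))
            = σ c * (((c⁻¹ : Fˣ) : F) * c) * (a * σ (Multiplicative.toAdd (D.π (ν⁻¹ (μ⁻¹ t))))) := by rw [h5]; ring
          _ = _ := by ring
      have h3 := scalar_eq_one hF D hm h2
      have h5 : ((c⁻¹ : Fˣ) : F) * c = 1 := by rw [← Units.val_mul, inv_mul_cancel, Units.val_one]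
      calc σ c = (σ c * (c⁻¹ : Fˣ)) * c := by rw [mul_assoc, h5, mul_one]
        _ = c := by rw [h3, one_mul]
    have hσ1 : ∀ x, σ x = x := by
      intro x
      by_cases hx : x = 0
      · rw [hx, map_zero]
      · exact hσ (Units.mk0 x hx)
    obtain ⟨m, hm⟩ := hord _ hν
    have h1 : (a : F) = 1 := scalar_eq_one hF D hm (fun t => by rw [h, hσ1])
    intro t
    have h2 := h t
    rw [h1, hσ1, one_mul] at h2
    exact h2
  · apply Fus.le_pCore (kerAut_normal hF D)
    intro x
    refine ⟨1, ?_⟩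
    apply Subtype.ext
    have := hel.2 x.1 x.2
    rw [pow_one]
    exact this

theorem card_autF {m : ℕ} [CharP F 2] (hm : Nat.card F = 2 ^ m) (hm0 : m ≠ 0) : Nat.card (F ≃+* F) = m := by
  classical
  have : NeZero m := ⟨hm0⟩
  let fr : F ≃+* F := RingEquiv.ofBijective (frobenius F 2) (Finite.injective_iff_bijective.1 (frobenius F 2).injective)
  have hfr : ∀ i (x : F), (fr ^ i) x = x ^ 2 ^ i := by
    intro i
    induction i with
    | zero => intro x; simp
    | succ i ih =>
      intro x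
      rw [pow_succ']
      show fr ((fr ^ i) x) = _
      rw [ih]
      show (x ^ 2 ^ i) ^ 2 = _
      rw [← pow_mul, ← pow_succ]
  have h1 : Nat.card (Fin m) = Nat.card (F ≃+* F) := by
    apply Nat.card_congr
    refine Equiv.ofBijective (fun i => fr ^ (i : ℕ)) ⟨?_, ?_⟩
    · intro i j hij
      by_contra hne
      have key : ∀ i j : Fin m, i < j → fr ^ (i : ℕ) = fr ^ (j : ℕ) → False := by
        intro i j hlt h
        have h2 : fr ^ ((j : ℕ) - i) = 1 := by
          have : fr ^ (j : ℕ) = fr ^ (i : ℕ) * fr ^ ((j : ℕ) - i) := by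
            rw [← pow_add]; congr 1; omega
          rw [this] at h
          exact (mul_eq_left.1 h.symm)
        have h3 := pow_inj hm (i := (j : ℕ) - i) (by omega) (fun x => by rw [← hfr, h2]; rfl)
        omega
      rcases lt_or_gt_of_ne hne with h | h
      · exact key i j h hij
      · exact key j i h hij.symm
    · intro σ
      obtain ⟨i, hi, h⟩ := aut_pow hm σ
      exact ⟨⟨i, hi⟩, RingEquiv.ext fun x => by rw [h]; exact hfr i x⟩
  rw [← h1, Nat.card_eq_fintype_card, Fintype.card_fin]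

end Cfsg.Agent.H21.Sq
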